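import Mathlib
import Cfsg.Prelude.Def_PLocal

/-!
Regular `p`-groups in the sense of `Cfsg.IsRegularPGroup` (finite case): the elements of order
dividing `p ^ n` are closed under products, and `a ^ p ^ n = b ^ p ^ n ↔ (a⁻¹ * b) ^ p ^ n = 1`.
-/

set_option autoImplicit false
open Cfsg
open scoped commutatorElement

namespace Cfsg.Agent.Lib.helper74

variable {G : Type*} [Group G]

/-- If `E` is normalized by `closure S` and contains the commutators of the elements of `S`, then it
contains the commutator subgroup of `closure S`. -/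
theorem commutator_closure_le (S : Set G) (E : Subgroup G)
    (hEn : ∀ k ∈ Subgroup.closure S, ∀ e ∈ E, k * e * k⁻¹ ∈ E)
    (hS : ∀ s ∈ S, ∀ t ∈ S, ⁅s, t⁆ ∈ E) :
    ⁅Subgroup.closure S, Subgroup.closure S⁆ ≤ E := by
  have h1 : ∀ g ∈ Subgroup.closure S, ∀ t ∈ S, ⁅g, t⁆ ∈ E := by
    intro g hg t ht
    induction hg using Subgroup.closure_induction with
    | mem s hs => exact hS s hs t ht
    | one => simp [commutatorElement_def]
    | mul g₁ g₂ hg₁ hg₂ ih₁ ih₂ =>
      have : ⁅g₁ * g₂, t⁆ = g₁ * ⁅g₂, t⁆ * g₁⁻¹ * ⁅g₁, t⁆ := by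
        simp only [commutatorElement_def]; group
      rw [this]
      exact E.mul_mem (hEn g₁ hg₁ _ ih₂) ih₁
    | inv g hg ih =>
      have : ⁅g⁻¹, t⁆ = g⁻¹ * (⁅g, t⁆)⁻¹ * g⁻¹⁻¹ := by
        simp only [commutatorElement_def]; group
      rw [this]
      exact hEn g⁻¹ (inv_mem hg) _ (E.inv_mem ih)
  rw [Subgroup.commutator_le]
  intro g hg h hh
  induction hh using Subgroup.closure_induction with
  | mem t ht => exact h1 g hg t ht
  | one => simp [commutatorElement_def]
  | mul h₁ h₂ hh₁ hh₂ ih₁ ih₂ =>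
    have : ⁅g, h₁ * h₂⁆ = ⁅g, h₁⁆ * (h₁ * ⁅g, h₂⁆ * h₁⁻¹) := by
      simp only [commutatorElement_def]; group
    rw [this]
    exact E.mul_mem ih₁ (hEn h₁ hh₁ _ ih₂)
  | inv h hh ih =>
    have : ⁅g, h⁻¹⁆ = h⁻¹ * (⁅g, h⁆)⁻¹ * h⁻¹⁻¹ := by
      simp only [commutatorElement_def]; group
    rw [this]
    exact hEn h⁻¹ (inv_mem hh) _ (E.inv_mem ih)

/-- In a regular `p`-group, if the commutator subgroup of `M` has exponent dividing `p ^ n`, then
`p ^ n`-th powers are multiplicative on `M`. -/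
theorem regular_mul_pow {p : ℕ} (hG : Cfsg.IsRegularPGroup p G) (n : ℕ) (M : Subgroup G)
    (hM : ∀ g ∈ ⁅M, M⁆, g ^ p ^ n = 1) {u v : G} (hu : u ∈ M) (hv : v ∈ M) :
    (u * v) ^ p ^ n = u ^ p ^ n * v ^ p ^ n := by
  obtain ⟨c, hc, h⟩ := hG.2 u v n
  have hle : Subgroup.closure ({u, v} : Set G) ≤ M := by
    rw [Subgroup.closure_le]
    rintro x (rfl | rfl) <;> assumption
  have hc1 : c = 1 := by
    have : Cfsg.powerClosure p n
        ⁅Subgroup.closure ({u, v} : Set G), Subgroup.closure ({u, v} : Set G)⁆ ≤ ⊥ := by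
      unfold Cfsg.powerClosure
      rw [Subgroup.closure_le]
      rintro y ⟨x, hx, rfl⟩
      rw [SetLike.mem_coe, Subgroup.mem_bot]
      exact hM x (Subgroup.commutator_mono hle hle hx)
    exact Subgroup.mem_bot.mp (this hc)
  rw [h, hc1, mul_one]

/-- In a finite `p`-group, an element of a non-abelian subgroup `K` lies in a proper subgroup of
`K` that is normalized by `K`. -/
theorem exists_normal_proper [Finite G] {p : ℕ} [Fact p.Prime] (hG : IsPGroup p G)
    (K : Subgroup G) (hK : ⁅K, K⁆ ≠ ⊥) {x : G} (hx : x ∈ K) :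
    ∃ L : Subgroup G, L ≤ K ∧ Nat.card L < Nat.card K ∧ x ∈ L ∧
      ∀ k ∈ K, ∀ l ∈ L, k * l * k⁻¹ ∈ L := by
  have hKp : IsPGroup p K := hG.to_subgroup K
  have : Group.IsNilpotent K := hKp.isNilpotent
  have hnc : NormalizerCondition K := Group.normalizerCondition_of_isNilpotent
  have hX : Subgroup.zpowers (⟨x, hx⟩ : K) ≠ ⊤ := by
    intro htop
    apply hK
    rw [eq_bot_iff, Subgroup.commutator_le]
    intro u hu v hv
    have hu' : (⟨u, hu⟩ : K) ∈ Subgroup.zpowers (⟨x, hx⟩ : K) := by rw [htop]; trivial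
    have hv' : (⟨v, hv⟩ : K) ∈ Subgroup.zpowers (⟨x, hx⟩ : K) := by rw [htop]; trivial
    obtain ⟨i, hi⟩ := Subgroup.mem_zpowers_iff.mp hu'
    obtain ⟨j, hj⟩ := Subgroup.mem_zpowers_iff.mp hv'
    have hi' : x ^ i = u := by simpa using congrArg Subtype.val hi
    have hj' : x ^ j = v := by simpa using congrArg Subtype.val hj
    rw [Subgroup.mem_bot, ← hi', ← hj', commutatorElement_def]
    group
  obtain ⟨C, hC, hXC⟩ := (eq_top_or_exists_le_coatom _).resolve_left hX
  have hCn : C.Normal := Subgroup.NormalizerCondition.normal_of_coatom C hnc hC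
  refine ⟨C.map K.subtype, Subgroup.map_subtype_le C, ?_, ?_, ?_⟩
  · rw [Subgroup.card_subtype]
    exact lt_of_le_of_ne C.card_le_card_group (fun h => hC.1 (Subgroup.eq_top_of_card_eq C h))
  · exact ⟨⟨x, hx⟩, hXC (Subgroup.mem_zpowers _), rfl⟩
  · rintro k hk _ ⟨l, hl, rfl⟩
    exact ⟨⟨k, hk⟩ * l * ⟨k, hk⟩⁻¹, hCn.conj_mem l hl ⟨k, hk⟩, rfl⟩

theorem card_lt_of_le_of_ne [Finite G] {H K : Subgroup G} (h : H ≤ K) (hne : H ≠ K) :
    Nat.card H < Nat.card K :=
  lt_of_le_of_ne (Subgroup.card_le_of_le h) (fun hc => hne (Subgroup.eq_of_le_of_card_ge h hc.ge))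

/-- The key facts on regular `p`-groups, for every subgroup `K`: elements of `K` of order dividing
`p ^ n` are closed under products, and `a ^ p ^ n = b ^ p ^ n` implies `(a⁻¹ * b) ^ p ^ n = 1`. -/
theorem regular_key [Finite G] {p : ℕ} [Fact p.Prime] (hG : Cfsg.IsRegularPGroup p G) (n : ℕ)
    (K : Subgroup G) :
    (∀ x ∈ K, ∀ y ∈ K, x ^ p ^ n = 1 → y ^ p ^ n = 1 → (x * y) ^ p ^ n = 1) ∧
      (∀ a ∈ K, ∀ b ∈ K, a ^ p ^ n = b ^ p ^ n → (a⁻¹ * b) ^ p ^ n = 1) := by
  induction' hc : Nat.card K using Nat.strong_induction_on with m ih generalizing K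
  have : Group.IsNilpotent G := hG.1.isNilpotent
  have hexp : ∀ u ∈ K, ∀ v ∈ K, Subgroup.closure ({u, v} : Set G) = K →
      (⁅K, K⁆ ≠ ⊥ → ⁅u, v⁆ ^ p ^ n = 1) → ∀ g ∈ ⁅K, K⁆, g ^ p ^ n = 1 := by
    intro u hu v hv huv huvq
    by_cases hKab : ⁅K, K⁆ = ⊥
    · intro g hg
      rw [hKab, Subgroup.mem_bot] at hg
      rw [hg, one_pow]
    · have hK' : ⁅K, K⁆ < K := by
        apply Group.IsSolvable.commutator_lt_of_ne_bot
        rintro rfl
        apply hKab
        rw [eq_bot_iff, Subgroup.commutator_le]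
        intro a ha b hb
        rw [Subgroup.mem_bot] at ha hb
        simp [ha, hb]
      have hcard : Nat.card (⁅K, K⁆ : Subgroup G) < m := by
        rw [← hc]
        exact card_lt_of_le_of_ne hK'.le hK'.ne
      have hC' := (ih _ hcard ⁅K, K⁆ rfl).1
      let E : Subgroup G :=
        { carrier := {g | g ∈ ⁅K, K⁆ ∧ g ^ p ^ n = 1}
          one_mem' := ⟨one_mem _, one_pow _⟩
          mul_mem' := fun {a b} ha hb => ⟨mul_mem ha.1 hb.1, hC' _ ha.1 _ hb.1 ha.2 hb.2⟩
          inv_mem' := fun {a} ha => ⟨inv_mem ha.1, by rw [inv_pow, ha.2, inv_one]⟩ }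
      have hE : ⁅Subgroup.closure ({u, v} : Set G), Subgroup.closure ({u, v} : Set G)⁆ ≤ E := by
        apply commutator_closure_le
        · intro k hk e he
          rw [huv] at hk
          refine ⟨?_, ?_⟩
          · have : k * e * k⁻¹ = ⁅k, e⁆ * e := by simp [commutatorElement_def]
            rw [this]
            exact mul_mem (Subgroup.commutator_mem_commutator hk (hK'.le he.1)) he.1
          · rw [conj_pow, he.2]
            simp
        · have huv' : ⁅u, v⁆ ∈ E := ⟨Subgroup.commutator_mem_commutator hu hv, huvq hKab⟩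
          have hvu' : ⁅v, u⁆ ∈ E := by
            have : ⁅v, u⁆ = (⁅u, v⁆)⁻¹ := by simp only [commutatorElement_def]; group
            rw [this]
            exact E.inv_mem huv'
          have h1 : ∀ s : G, ⁅s, s⁆ ∈ E := by
            intro s
            have : ⁅s, s⁆ = 1 := by simp
            rw [this]
            exact E.one_mem
          intro s hs t ht
          rcases hs with rfl | rfl <;> rcases ht with rfl | rfl
          · exact h1 _
          · exact huv'
          · exact hvu'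
          · exact h1 _
      rw [huv] at hE
      intro g hg
      exact (hE hg).2
  constructor
  · intro x hx y hy hxq hyq
    by_cases hM : Subgroup.closure ({x, y} : Set G) = K
    · have hexpK := hexp x hx y hy hM (fun hKab => by
        obtain ⟨L, hLK, hLcard, hxL, hLn⟩ := exists_normal_proper hG.1 K hKab hx
        have hCL := (ih _ (hc ▸ hLcard) L rfl).1
        have : ⁅x, y⁆ = x * (y * x⁻¹ * y⁻¹) := by simp [commutatorElement_def, mul_assoc]
        rw [this]
        apply hCL x hxL _ (hLn y hy _ (inv_mem hxL)) hxq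
        rw [conj_pow, inv_pow, hxq]
        simp)
      rw [regular_mul_pow hG n K hexpK hx hy, hxq, hyq, one_mul]
    · have hle : Subgroup.closure ({x, y} : Set G) ≤ K := by
        rw [Subgroup.closure_le]
        rintro z (rfl | rfl) <;> assumption
      have hlt : Nat.card (Subgroup.closure ({x, y} : Set G)) < m := by
        rw [← hc]
        exact card_lt_of_le_of_ne hle hM
      exact (ih _ hlt _ rfl).1 x (Subgroup.subset_closure (by simp)) y
        (Subgroup.subset_closure (by simp)) hxq hyq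
  · intro a ha b hb hab
    by_cases hM : Subgroup.closure ({a, b} : Set G) = K
    · have hexpK := hexp a ha b hb hM (fun hKab => by
        obtain ⟨L, hLK, hLcard, haL, hLn⟩ := exists_normal_proper hG.1 K hKab ha
        have hAL := (ih _ (hc ▸ hLcard) L rfl).2
        have : ⁅a, b⁆ = (a⁻¹)⁻¹ * (b * a⁻¹ * b⁻¹) := by simp [commutatorElement_def, mul_assoc]
        rw [this]
        apply hAL _ (inv_mem haL) _ (hLn b hb _ (inv_mem haL))
        rw [conj_pow, inv_pow, hab]
        group)
      rw [regular_mul_pow hG n K hexpK (inv_mem ha) hb, inv_pow, hab, inv_mul_cancel]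
    · have hle : Subgroup.closure ({a, b} : Set G) ≤ K := by
        rw [Subgroup.closure_le]
        rintro z (rfl | rfl) <;> assumption
      have hlt : Nat.card (Subgroup.closure ({a, b} : Set G)) < m := by
        rw [← hc]
        exact card_lt_of_le_of_ne hle hM
      exact (ih _ hlt _ rfl).2 a (Subgroup.subset_closure (by simp)) b
        (Subgroup.subset_closure (by simp)) hab

/-- `Ω_n`: the elements of order dividing `p ^ n` in a finite regular `p`-group, as a subgroup. -/
def omega [Finite G] {p : ℕ} [Fact p.Prime] (hG : Cfsg.IsRegularPGroup p G) (n : ℕ) :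
    Subgroup G where
  carrier := {x | x ^ p ^ n = 1}
  one_mem' := one_pow _
  mul_mem' := fun {a b} ha hb => (regular_key hG n ⊤).1 a trivial b trivial ha hb
  inv_mem' := fun {a} ha => by
    have h : a ^ p ^ n = 1 := ha
    change a⁻¹ ^ p ^ n = 1
    rw [inv_pow, h, inv_one]

theorem mem_omega [Finite G] {p : ℕ} [Fact p.Prime] (hG : Cfsg.IsRegularPGroup p G) (n : ℕ)
    (x : G) : x ∈ omega hG n ↔ x ^ p ^ n = 1 := Iff.rfl

theorem coe_omega [Finite G] {p : ℕ} [Fact p.Prime] (hG : Cfsg.IsRegularPGroup p G) (n : ℕ) :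
    (omega hG n : Set G) = {x : G | x ^ p ^ n = 1} := rfl

theorem omega_characteristic [Finite G] {p : ℕ} [Fact p.Prime] (hG : Cfsg.IsRegularPGroup p G)
    (n : ℕ) : (omega hG n).Characteristic := by
  refine ⟨fun ϕ => ?_⟩
  ext x
  rw [Subgroup.mem_comap, mem_omega, mem_omega]
  change (ϕ x) ^ p ^ n = 1 ↔ _
  rw [← map_pow]
  exact ϕ.map_eq_one_iff

theorem omega_conj_mem [Finite G] {p : ℕ} [Fact p.Prime] (hG : Cfsg.IsRegularPGroup p G) (n : ℕ)
    {e : G} (he : e ∈ omega hG n) (k : G) : k * e * k⁻¹ ∈ omega hG n := by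
  rw [mem_omega] at he ⊢
  rw [conj_pow, he]
  simp

/-- In a finite regular `p`-group, the commutator subgroup of `⟨a, c⟩` has exponent dividing
`p ^ n` as soon as `c ^ p ^ n = 1`. -/
theorem commutator_closure_pow_eq_one [Finite G] {p : ℕ} [Fact p.Prime]
    (hG : Cfsg.IsRegularPGroup p G) (n : ℕ) (a c : G) (hc : c ^ p ^ n = 1) :
    ∀ g ∈ ⁅Subgroup.closure ({a, c} : Set G), Subgroup.closure ({a, c} : Set G)⁆,
      g ^ p ^ n = 1 := by
  have hcE : c ∈ omega hG n := hc
  have hle : ⁅Subgroup.closure ({a, c} : Set G), Subgroup.closure ({a, c} : Set G)⁆ ≤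
      omega hG n := by
    apply commutator_closure_le
    · intro k _ e he
      exact omega_conj_mem hG n he k
    · have hac : ⁅a, c⁆ ∈ omega hG n := by
        have : ⁅a, c⁆ = (a * c * a⁻¹) * c⁻¹ := by simp [commutatorElement_def]
        rw [this]
        exact mul_mem (omega_conj_mem hG n hcE a) (inv_mem hcE)
      have hca : ⁅c, a⁆ ∈ omega hG n := by
        have : ⁅c, a⁆ = (⁅a, c⁆)⁻¹ := by simp only [commutatorElement_def]; group
        rw [this]
        exact inv_mem hac
      have h1 : ∀ s : G, ⁅s, s⁆ ∈ omega hG n := by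
        intro s
        have : ⁅s, s⁆ = 1 := by simp
        rw [this]
        exact one_mem _
      intro s hs t ht
      rcases hs with rfl | rfl <;> rcases ht with rfl | rfl
      · exact h1 _
      · exact hac
      · exact hca
      · exact h1 _
  intro g hg
  exact hle hg

/-- In a finite regular `p`-group, multiplying by an element of order dividing `p ^ n` does not
change the `p ^ n`-th power. -/
theorem regular_mul_pow_right [Finite G] {p : ℕ} [Fact p.Prime] (hG : Cfsg.IsRegularPGroup p G)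
    (n : ℕ) (a c : G) (hc : c ^ p ^ n = 1) : (a * c) ^ p ^ n = a ^ p ^ n := by
  rw [regular_mul_pow hG n (Subgroup.closure ({a, c} : Set G))
    (commutator_closure_pow_eq_one hG n a c hc) (Subgroup.subset_closure (by simp))
    (Subgroup.subset_closure (by simp)), hc, mul_one]

theorem regular_mul_pow_left [Finite G] {p : ℕ} [Fact p.Prime] (hG : Cfsg.IsRegularPGroup p G)
    (n : ℕ) (a c : G) (hc : c ^ p ^ n = 1) : (c * a) ^ p ^ n = a ^ p ^ n := by
  rw [regular_mul_pow hG n (Subgroup.closure ({a, c} : Set G))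
    (commutator_closure_pow_eq_one hG n a c hc) (Subgroup.subset_closure (by simp))
    (Subgroup.subset_closure (by simp)), hc, one_mul]

/-- In a finite regular `p`-group: `a ^ p ^ n = b ^ p ^ n ↔ (a⁻¹ * b) ^ p ^ n = 1`. -/
theorem regular_pow_eq_iff [Finite G] {p : ℕ} [Fact p.Prime] (hG : Cfsg.IsRegularPGroup p G)
    (n : ℕ) (a b : G) : a ^ p ^ n = b ^ p ^ n ↔ (a⁻¹ * b) ^ p ^ n = 1 := by
  constructor
  · intro h
    exact (regular_key hG n ⊤).2 a trivial b trivial h
  · intro h
    have hb : b = a * (a⁻¹ * b) := by group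
    rw [hb, regular_mul_pow_right hG n a _ h]

/-- In a finite regular `p`-group: `a ^ p ^ n = b ^ p ^ n ↔ (a * b⁻¹) ^ p ^ n = 1`. -/
theorem regular_pow_eq_iff' [Finite G] {p : ℕ} [Fact p.Prime] (hG : Cfsg.IsRegularPGroup p G)
    (n : ℕ) (a b : G) : a ^ p ^ n = b ^ p ^ n ↔ (a * b⁻¹) ^ p ^ n = 1 := by
  constructor
  · intro h
    have h' : a⁻¹ ^ p ^ n = b⁻¹ ^ p ^ n := by rw [inv_pow, inv_pow, h]
    have := (regular_key hG n ⊤).2 a⁻¹ trivial b⁻¹ trivial h'
    simpa using this
  · intro h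
    have ha : a = (a * b⁻¹) * b := by group
    rw [ha, regular_mul_pow_left hG n b _ h]

end Cfsg.Agent.Lib.helper74
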