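import Mathlib
import Cfsg.Prelude.Def_HallClasses

/-!
# Pronormality toolkit (helper74)

Conjugates are written `MulAut.conj g • K` (Mathlib pointwise action); by definition this is
`K.map (MulAut.conj g).toMonoidHom`, so `Cfsg.IsPronormal` unfolds to it.

* `PronOn K M`: `K` and `g K g⁻¹` are conjugate in their join, for every `g ∈ M`.
* `exists_sylow_le_iff`: `K` contains a Sylow `p`-subgroup iff `p ∤ K.index`.
* `exists_pgroup_between`, `exists_conj_le_of_pgroup`, `eq_of_pgroup_of_relIndex`: Sylow theory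
  relative to a subgroup `M ≤ G`, stated inside `G`.
* transfer of pronormality along subtypes and quotient maps.
-/

open scoped Pointwise

namespace Cfsg.Agent.Lib.helper74

section basic

variable {G : Type*} [Group G]

theorem isPronormal_iff_smul (K : Subgroup G) :
    Cfsg.IsPronormal K ↔
      ∀ g : G, ∃ x ∈ K ⊔ MulAut.conj g • K, MulAut.conj g • K = MulAut.conj x • K :=
  Iff.rfl

/-- Internal pronormality of `K` with respect to conjugation by the elements of `M`. -/
def PronOn (K M : Subgroup G) : Prop :=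
  ∀ g ∈ M, ∃ x ∈ K ⊔ MulAut.conj g • K, MulAut.conj g • K = MulAut.conj x • K

theorem isPronormal_iff_pronOn_top (K : Subgroup G) : Cfsg.IsPronormal K ↔ PronOn K ⊤ :=
  ⟨fun h g _ => h g, fun h g => h g (Subgroup.mem_top g)⟩

theorem conj_mul_smul (g h : G) (K : Subgroup G) :
    MulAut.conj (g * h) • K = MulAut.conj g • MulAut.conj h • K := by
  rw [map_mul, mul_smul]

theorem conj_inv_smul_conj_smul (g : G) (K : Subgroup G) :
    MulAut.conj g⁻¹ • MulAut.conj g • K = K := by
  rw [← conj_mul_smul, inv_mul_cancel, map_one, one_smul]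

theorem conj_smul_conj_inv_smul (g : G) (K : Subgroup G) :
    MulAut.conj g • MulAut.conj g⁻¹ • K = K := by
  rw [← conj_mul_smul, mul_inv_cancel, map_one, one_smul]

theorem mem_conj_smul_iff {g y : G} {K : Subgroup G} :
    y ∈ MulAut.conj g • K ↔ g⁻¹ * y * g ∈ K := by
  rw [Subgroup.mem_pointwise_smul_iff_inv_smul_mem, ← map_inv, MulAut.smul_def,
    MulAut.conj_apply, inv_inv]

theorem conj_mem_conj_smul {g k : G} {K : Subgroup G} (hk : k ∈ K) :
    g * k * g⁻¹ ∈ MulAut.conj g • K := by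
  rw [mem_conj_smul_iff]
  have : g⁻¹ * (g * k * g⁻¹) * g = k := by group
  rwa [this]

theorem conj_smul_eq_self_iff {g : G} {K : Subgroup G} :
    MulAut.conj g • K = K ↔ g ∈ Subgroup.normalizer (K : Set G) := by
  rw [Subgroup.mem_normalizer_iff]
  constructor
  · intro h x
    constructor
    · intro hx
      have := conj_mem_conj_smul (g := g) hx
      rwa [h] at this
    · intro hx
      rw [← h] at hx
      have := mem_conj_smul_iff.mp hx
      have h2 : g⁻¹ * (g * x * g⁻¹) * g = x := by group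
      rwa [h2] at this
  · intro h
    ext y
    rw [mem_conj_smul_iff, h (g⁻¹ * y * g)]
    have h2 : g * (g⁻¹ * y * g) * g⁻¹ = y := by group
    rw [h2]

/-- A conjugate of a subgroup of `J` by an element of `J` stays in `J`. -/
theorem conj_smul_le_of_mem {K J : Subgroup G} {x : G} (hK : K ≤ J) (hx : x ∈ J) :
    MulAut.conj x • K ≤ J :=
  Subgroup.conj_smul_le_of_le hK ⟨x, hx⟩

theorem card_conj_smul (g : G) (K : Subgroup G) :
    Nat.card (MulAut.conj g • K : Subgroup G) = Nat.card K :=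
  Nat.card_congr (Subgroup.equivSMul (MulAut.conj g) K).toEquiv.symm

theorem index_conj_smul (g : G) (K : Subgroup G) :
    (MulAut.conj g • K : Subgroup G).index = K.index :=
  Subgroup.index_map_equiv K (MulAut.conj g)

theorem isPGroup_conj_smul {p : ℕ} {K : Subgroup G} (hK : IsPGroup p K) (g : G) :
    IsPGroup p (MulAut.conj g • K : Subgroup G) :=
  hK.map _

/-- Conjugation commutes with images. -/
theorem map_conj_smul {H : Type*} [Group H] (f : G →* H) (g : G) (K : Subgroup G) :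
    (MulAut.conj g • K).map f = MulAut.conj (f g) • K.map f := by
  ext y
  rw [mem_conj_smul_iff]
  constructor
  · rintro ⟨z, hz, rfl⟩
    have hz' : z ∈ MulAut.conj g • K := hz
    rw [mem_conj_smul_iff] at hz'
    exact ⟨g⁻¹ * z * g, hz', by simp⟩
  · rintro ⟨z, hz, hzy⟩
    refine ⟨g * z * g⁻¹, conj_mem_conj_smul hz, ?_⟩
    rw [map_mul, map_mul, map_inv, hzy]
    group

/-- `PronOn` is invariant under conjugation (for `M = ⊤`). -/
theorem pronOn_top_conj {K : Subgroup G} (c : G) (h : PronOn (MulAut.conj c • K) ⊤) :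
    PronOn K ⊤ := by
  intro g _
  obtain ⟨x, hx, hxe⟩ := h (c * g * c⁻¹) (Subgroup.mem_top _)
  refine ⟨c⁻¹ * x * c, ?_, ?_⟩
  · have h1 : c⁻¹ * x * c ∈ MulAut.conj c⁻¹ •
        (MulAut.conj c • K ⊔ MulAut.conj (c * g * c⁻¹) • MulAut.conj c • K) := by
      have := conj_mem_conj_smul (g := c⁻¹) hx
      rwa [inv_inv] at this
    rw [Subgroup.smul_sup, conj_inv_smul_conj_smul, ← conj_mul_smul, ← conj_mul_smul] at h1
    have h2 : c⁻¹ * (c * g * c⁻¹) * c = g := by group
    rwa [h2] at h1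
  · have h1 : MulAut.conj c⁻¹ • MulAut.conj (c * g * c⁻¹) • MulAut.conj c • K
        = MulAut.conj c⁻¹ • MulAut.conj x • MulAut.conj c • K := by rw [hxe]
    rw [← conj_mul_smul, ← conj_mul_smul, ← conj_mul_smul, ← conj_mul_smul] at h1
    have h2 : c⁻¹ * (c * g * c⁻¹) * c = g := by group
    rwa [h2] at h1

end basic

section sylow

variable {G : Type*} [Group G] [Finite G] {p : ℕ} [Fact p.Prime]

/-- `K` contains a Sylow `p`-subgroup iff `p` does not divide its index. -/
theorem exists_sylow_le_iff (K : Subgroup G) :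
    (∃ P : Sylow p G, (P : Subgroup G) ≤ K) ↔ ¬ p ∣ K.index := by
  constructor
  · rintro ⟨P, hP⟩ h
    exact P.not_dvd_index (h.trans (Subgroup.index_dvd_of_le hP))
  · intro h
    obtain ⟨Q⟩ : Nonempty (Sylow p K) := inferInstance
    have hQ : IsPGroup p ((Q : Subgroup K).map K.subtype) := Q.2.map _
    have hidx : ((Q : Subgroup K).map K.subtype).index = (Q : Subgroup K).index * K.index :=
      Subgroup.index_map_subtype _
    have hnd : ¬ p ∣ ((Q : Subgroup K).map K.subtype).index := by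
      rw [hidx]
      intro hd
      rcases (Nat.Prime.dvd_mul Fact.out).mp hd with h1 | h1
      · exact Q.not_dvd_index h1
      · exact h h1
    refine ⟨hQ.toSylow hnd, ?_⟩
    rw [IsPGroup.toSylow_coe]
    exact Subgroup.map_subtype_le _

/-- A `p`-subgroup `T` of `K` lies in a `p`-subgroup of `K` of index prime to `p`. -/
theorem exists_pgroup_between {T K : Subgroup G} (hTK : T ≤ K) (hT : IsPGroup p T) :
    ∃ S : Subgroup G, T ≤ S ∧ S ≤ K ∧ IsPGroup p S ∧ ¬ p ∣ S.relIndex K := by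
  have hT' : IsPGroup p (T.subgroupOf K) := hT.comap_subtype
  obtain ⟨Q, hQ⟩ := hT'.exists_le_sylow
  refine ⟨(Q : Subgroup K).map K.subtype, ?_, Subgroup.map_subtype_le _, Q.2.map _, ?_⟩
  · rw [← Subgroup.map_subgroupOf_eq_of_le hTK]
    exact Subgroup.map_mono hQ
  · have : ((Q : Subgroup K).map K.subtype).relIndex K = (Q : Subgroup K).index := by
      rw [Subgroup.relIndex, Subgroup.subgroupOf,
        Subgroup.comap_map_eq_self_of_injective K.subtype_injective]
    rw [this]
    exact Q.not_dvd_index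

/-- Sylow's theorem inside `M`: a `p`-subgroup of `M` is `M`-conjugate into a given
`p`-subgroup of `M` of index prime to `p`. -/
theorem exists_conj_le_of_pgroup {M Q₁ Q₂ : Subgroup G} (hp₁ : IsPGroup p Q₁)
    (hidx : ¬ p ∣ Q₁.relIndex M) (h₂ : Q₂ ≤ M) (hp₂ : IsPGroup p Q₂) :
    ∃ w ∈ M, MulAut.conj w • Q₂ ≤ Q₁ := by
  have hP1 : IsPGroup p (Q₁.subgroupOf M) := hp₁.comap_subtype
  let P : Sylow p M := hP1.toSylow hidx
  have hP2 : IsPGroup p (Q₂.subgroupOf M) := hp₂.comap_subtype
  obtain ⟨R, hR⟩ := hP2.exists_le_sylow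
  obtain ⟨m, hm⟩ := MulAction.exists_smul_eq M R P
  refine ⟨m, m.2, ?_⟩
  intro z hz
  rw [mem_conj_smul_iff] at hz
  have hzM : (m : G)⁻¹ * z * m ∈ M := h₂ hz
  have h1 : (⟨(m : G)⁻¹ * z * m, hzM⟩ : M) ∈ (R : Subgroup M) :=
    hR (Subgroup.mem_subgroupOf.mpr hz)
  have h2 : m * ⟨(m : G)⁻¹ * z * m, hzM⟩ * m⁻¹ ∈ MulAut.conj m • (R : Subgroup M) :=
    conj_mem_conj_smul h1
  rw [← Sylow.coe_subgroup_smul, hm] at h2
  have h3 : m * ⟨(m : G)⁻¹ * z * m, hzM⟩ * m⁻¹ ∈ Q₁.subgroupOf M := by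
    have : (P : Subgroup M) = Q₁.subgroupOf M := IsPGroup.toSylow_coe hP1 hidx
    rwa [this] at h2
  rw [Subgroup.mem_subgroupOf] at h3
  have h4 : ((m * ⟨(m : G)⁻¹ * z * m, hzM⟩ * m⁻¹ : M) : G) = z := by
    push_cast
    group
  rwa [h4] at h3

/-- A `p`-subgroup of `M` containing a `p`-subgroup `T` of index prime to `p` in `M` equals
`T`. -/
theorem le_of_pgroup_of_relIndex {T Q M : Subgroup G} (hTQ : T ≤ Q) (hQM : Q ≤ M)
    (hQ : IsPGroup p Q) (hidx : ¬ p ∣ T.relIndex M) : Q ≤ T := by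
  have h1 : T.relIndex Q * Q.relIndex M = T.relIndex M := Subgroup.relIndex_mul_relIndex T Q M hTQ hQM
  have h2 : T.relIndex Q ∣ Nat.card Q := Subgroup.relIndex_dvd_card T Q
  obtain ⟨k, hk⟩ := (IsPGroup.iff_card.mp hQ)
  rw [hk] at h2
  obtain ⟨j, -, hj⟩ := (Nat.dvd_prime_pow Fact.out).mp h2
  have hj0 : j = 0 := by
    by_contra hne
    apply hidx
    rw [← h1, hj]
    exact Dvd.dvd.mul_right (dvd_pow_self p hne) _
  rw [hj0, pow_zero] at hj
  exact Subgroup.relIndex_eq_one.mp hj

end sylow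

end Cfsg.Agent.Lib.helper74
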