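import Mathlib
import Cfsg.Prelude.Def_OddOrderLocal

/-!
# The counting core of Bender–Glauberman 14.7

A family of at least two subgroups `M i` sharing a subgroup `Z`, whose tilde-sets are pairwise
disjoint and disjoint from the conjugates of the "regular" part of `Z`, cannot exist when the
sizes are those of maximal subgroups of type P1.
-/

namespace Cfsg.Agent.Lib.helper74.BGCount

open Cfsg

variable {G : Type*} [Group G]

/-- pure arithmetic core -/
theorem count_arith (g z zt c n Sa Sa' ST : ℕ) (hg : 0 < g) (hn : 2 ≤ n)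
    (F1 : g * zt ≤ c * z) (F2 : z ≤ zt + 1 + Sa') (F3 : c + ST ≤ g)
    (F4 : 3 * g * Sa ≤ 3 * z * ST + n * g) (F5 : Sa = Sa' + n) : False := by
  subst F5
  have h1 : 3 * z * c + 3 * z * ST ≤ 3 * z * g := by nlinarith
  have h2 : 3 * g * z ≤ 3 * g * zt + 3 * g + 3 * g * Sa' := by nlinarith
  have h3 : 3 * (g * zt) ≤ 3 * (c * z) := by omega
  have h4 : 3 * g * n ≤ 3 * g + n * g := by nlinarith
  have h5 : 2 * n * g ≤ 3 * g := by nlinarith
  have h6 : 4 * g ≤ 2 * n * g := by nlinarith
  omega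

/-- termwise arithmetic -/
theorem term_arith (m a d mm g z : ℕ) (hm : 0 < m) (ha : 0 < a) (hc : mm * a = m * z)
    (hidx : d * mm = g) (h3 : 3 * a ≤ m) : 3 * g * a ≤ 3 * z * ((m - 1) * d) + g := by
  have e1 : d * m * z = g * a := by
    calc d * m * z = d * (m * z) := by ring
      _ = d * (mm * a) := by rw [hc]
      _ = (d * mm) * a := by ring
      _ = g * a := by rw [hidx]
  have e2 : 3 * d * z ≤ g := by
    have : 3 * d * z * a ≤ g * a := by
      calc 3 * d * z * a = d * z * (3 * a) := by ring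
        _ ≤ d * z * m := Nat.mul_le_mul_left _ h3
        _ = d * m * z := by ring
        _ = g * a := e1
    exact Nat.le_of_mul_le_mul_right this ha
  obtain ⟨m', rfl⟩ : ∃ m', m = m' + 1 := ⟨m - 1, by omega⟩
  simp only [Nat.add_sub_cancel]
  nlinarith

open scoped Classical in
theorem count_core [Finite G] (Z : Subgroup G) {ι : Type*} [Fintype ι] (hι : 2 ≤ Fintype.card ι)
    (M : ι → Subgroup G)
    (hTI : ∀ z ∈ Z, (∀ i, z ∉ sigmaCore (M i)) → ∀ g : G, g * z * g⁻¹ ∈ Z → g ∈ Z)
    (hcard : ∀ i, Nat.card (M i) * Nat.card ↥(Z ⊓ sigmaCore (M i))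
      = Nat.card (sigmaCore (M i)) * Nat.card Z)
    (h3 : ∀ i, 3 * Nat.card ↥(Z ⊓ sigmaCore (M i)) ≤ Nat.card (sigmaCore (M i)))
    (hT : ∀ i, Set.ncard (tildeOf (M i) ((sigmaCore (M i) : Set G) \ {1}))
      = (Nat.card (sigmaCore (M i)) - 1) * (M i).index)
    (hdisj : ∀ i j, i ≠ j → Disjoint (tildeOf (M i) ((sigmaCore (M i) : Set G) \ {1}))
      (tildeOf (M j) ((sigmaCore (M j) : Set G) \ {1})))
    (hdisjZ : ∀ i, ∀ z ∈ Z, (∀ j, z ∉ sigmaCore (M j)) → ∀ y : G,
      y * z * y⁻¹ ∉ tildeOf (M i) ((sigmaCore (M i) : Set G) \ {1})) : False := by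
  have : Fintype G := Fintype.ofFinite G
  -- the finsets
  set T : ι → Finset G := fun i => (tildeOf (M i) ((sigmaCore (M i) : Set G) \ {1})).toFinset with hTdef
  set Zf : Finset G := (Z : Set G).toFinset with hZf
  set Zt : Finset G := Zf.filter (fun z => ∀ i, z ∉ sigmaCore (M i)) with hZt
  set C : Finset G := ((Finset.univ : Finset G) ×ˢ Zt).image (fun p : G × G => p.1 * p.2 * p.1⁻¹)
    with hC
  set A : ι → Finset G := fun i => ((Z ⊓ sigmaCore (M i) : Subgroup G) : Set G).toFinset with hA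
  have hmemZf : ∀ x, x ∈ Zf ↔ x ∈ Z := fun x => by simp [hZf]
  have hmemZt : ∀ x, x ∈ Zt ↔ x ∈ Z ∧ ∀ i, x ∉ sigmaCore (M i) := fun x => by
    simp [hZt, hmemZf]
  have hmemA : ∀ i x, x ∈ A i ↔ x ∈ Z ∧ x ∈ sigmaCore (M i) := fun i x => by
    simp [hA]
  have hmemT : ∀ i x, x ∈ T i ↔ x ∈ tildeOf (M i) ((sigmaCore (M i) : Set G) \ {1}) :=
    fun i x => by simp [hTdef]
  have hcardZ : Zf.card = Nat.card Z := by
    rw [hZf, Set.toFinset_card, Nat.card_eq_fintype_card]; rfl
  have hcardA : ∀ i, (A i).card = Nat.card ↥(Z ⊓ sigmaCore (M i)) := fun i => by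
    rw [hA]; simp only
    rw [Set.toFinset_card, Nat.card_eq_fintype_card]; rfl
  have hcardT : ∀ i, (T i).card = (Nat.card (sigmaCore (M i)) - 1) * (M i).index := fun i => by
    rw [← hT i, Set.ncard_eq_toFinset_card']
  -- F1
  have F1 : Nat.card G * Zt.card ≤ C.card * Nat.card Z := by
    have h := Finset.card_le_mul_card_image (f := fun p : G × G => p.1 * p.2 * p.1⁻¹)
      ((Finset.univ : Finset G) ×ˢ Zt) (Nat.card Z) ?_
    · rw [Finset.card_product, Finset.card_univ, ← Nat.card_eq_fintype_card] at h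
      rw [mul_comm C.card]; exact h
    · intro a ha
      obtain ⟨⟨y, z⟩, hyz, rfl⟩ := Finset.mem_image.1 ha
      have hz : z ∈ Zt := (Finset.mem_product.1 hyz).2
      rw [← hcardZ]
      refine Finset.card_le_card_of_injOn (fun p : G × G => p.1⁻¹ * y) ?_ ?_
      · intro p hp
        have hp' := Finset.mem_filter.1 (Finset.mem_coe.1 hp)
        have hp2 : p.2 ∈ Zt := (Finset.mem_product.1 hp'.1).2
        have heq : p.1 * p.2 * p.1⁻¹ = y * z * y⁻¹ := hp'.2
        have hz' := (hmemZt z).1 hz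
        have : (p.1⁻¹ * y) * z * (p.1⁻¹ * y)⁻¹ ∈ Z := by
          have e : (p.1⁻¹ * y) * z * (p.1⁻¹ * y)⁻¹ = p.2 := by
            have : p.1⁻¹ * (y * z * y⁻¹) * p.1 = p.2 := by rw [← heq]; group
            rw [← this]; group
          rw [e]; exact ((hmemZt _).1 hp2).1
        exact Finset.mem_coe.2 ((hmemZf _).2 (hTI z hz'.1 hz'.2 _ this))
      · intro p hp q hq hpq
        have hp' := Finset.mem_filter.1 (Finset.mem_coe.1 hp)
        have hq' := Finset.mem_filter.1 (Finset.mem_coe.1 hq)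
        have h1 : p.1 = q.1 := by
          have : p.1⁻¹ * y = q.1⁻¹ * y := hpq
          have := mul_right_cancel this
          exact inv_injective this
        have hpe : p.1 * p.2 * p.1⁻¹ = y * z * y⁻¹ := hp'.2
        have hqe : q.1 * q.2 * q.1⁻¹ = y * z * y⁻¹ := hq'.2
        have h2 : p.2 = q.2 := by
          have e1 : p.2 = p.1⁻¹ * (y * z * y⁻¹) * p.1 := by rw [← hpe]; group
          have e2 : q.2 = q.1⁻¹ * (y * z * y⁻¹) * q.1 := by rw [← hqe]; group
          rw [e1, e2, h1]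
        exact Prod.ext h1 h2
  -- F2
  have F2 : Nat.card Z ≤ Zt.card + 1 + ∑ i, ((A i).card - 1) := by
    rw [← hcardZ]
    have hsub : Zf ⊆ (Zt ∪ {1}) ∪ Finset.univ.biUnion (fun i => (A i).erase 1) := by
      intro x hx
      by_cases h : ∀ i, x ∉ sigmaCore (M i)
      · exact Finset.mem_union_left _ (Finset.mem_union_left _ ((hmemZt x).2 ⟨(hmemZf x).1 hx, h⟩))
      · push Not at h
        obtain ⟨i, hi⟩ := h
        by_cases hx1 : x = 1
        · exact Finset.mem_union_left _ (Finset.mem_union_right _ (by simp [hx1]))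
        · refine Finset.mem_union_right _ (Finset.mem_biUnion.2 ⟨i, Finset.mem_univ _, ?_⟩)
          exact Finset.mem_erase.2 ⟨hx1, (hmemA i x).2 ⟨(hmemZf x).1 hx, hi⟩⟩
    calc Zf.card ≤ ((Zt ∪ {1}) ∪ Finset.univ.biUnion (fun i => (A i).erase 1)).card :=
          Finset.card_le_card hsub
      _ ≤ (Zt ∪ {1}).card + (Finset.univ.biUnion (fun i => (A i).erase 1)).card :=
          Finset.card_union_le _ _
      _ ≤ (Zt.card + 1) + ∑ i, ((A i).erase 1).card := by
          refine Nat.add_le_add ?_ Finset.card_biUnion_le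
          exact (Finset.card_union_le _ _).trans (by simp)
      _ = Zt.card + 1 + ∑ i, ((A i).card - 1) := by
          congr 1
          refine Finset.sum_congr rfl (fun i _ => ?_)
          rw [Finset.card_erase_of_mem ((hmemA i 1).2 ⟨one_mem _, one_mem _⟩)]
  -- F3
  have hCmem : ∀ x ∈ C, ∃ y z, z ∈ Z ∧ (∀ j, z ∉ sigmaCore (M j)) ∧ x = y * z * y⁻¹ := by
    intro x hx
    obtain ⟨⟨y, z⟩, hyz, rfl⟩ := Finset.mem_image.1 hx
    have hz := (hmemZt z).1 (Finset.mem_product.1 hyz).2
    exact ⟨y, z, hz.1, hz.2, rfl⟩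
  have F3 : C.card + ∑ i, (T i).card ≤ Nat.card G := by
    have hdT : ∀ i ∈ (Finset.univ : Finset ι), ∀ j ∈ (Finset.univ : Finset ι), i ≠ j →
        Disjoint (T i) (T j) := by
      intro i _ j _ hij
      rw [Finset.disjoint_left]
      intro x hxi hxj
      exact Set.disjoint_left.1 (hdisj i j hij) ((hmemT i x).1 hxi) ((hmemT j x).1 hxj)
    have hdC : Disjoint C (Finset.univ.biUnion T) := by
      rw [Finset.disjoint_left]
      intro x hxC hxT
      obtain ⟨i, _, hxi⟩ := Finset.mem_biUnion.1 hxT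
      obtain ⟨y, z, hz, hz', rfl⟩ := hCmem x hxC
      exact hdisjZ i z hz hz' y ((hmemT i _).1 hxi)
    rw [← Finset.card_biUnion hdT, ← Finset.card_union_of_disjoint hdC, Nat.card_eq_fintype_card,
      ← Finset.card_univ]
    exact Finset.card_le_card (Finset.subset_univ _)
  -- F4 : termwise
  have hgpos : 0 < Nat.card G := Nat.card_pos
  have hterm : ∀ i, 3 * Nat.card G * (A i).card
      ≤ 3 * Nat.card Z * (T i).card + Nat.card G := by
    intro i
    rw [hcardA i, hcardT i]
    have hidx : (M i).index * Nat.card (M i) = Nat.card G := by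
      rw [mul_comm]; exact Subgroup.card_mul_index (M i)
    exact term_arith _ _ _ _ _ _ Nat.card_pos Nat.card_pos (hcard i) hidx (h3 i)
  have F4 : 3 * Nat.card G * ∑ i, (A i).card
      ≤ 3 * Nat.card Z * ∑ i, (T i).card + Fintype.card ι * Nat.card G := by
    rw [Finset.mul_sum, Finset.mul_sum]
    have : Fintype.card ι * Nat.card G = ∑ _i : ι, Nat.card G := by
      rw [Finset.sum_const, Finset.card_univ, smul_eq_mul]
    rw [this, ← Finset.sum_add_distrib]
    exact Finset.sum_le_sum (fun i _ => hterm i)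
  have F5 : ∑ i, (A i).card = ∑ i, ((A i).card - 1) + Fintype.card ι := by
    have : Fintype.card ι = ∑ _i : ι, 1 := by simp
    rw [this, ← Finset.sum_add_distrib]
    refine Finset.sum_congr rfl (fun i _ => ?_)
    have : 0 < (A i).card := Finset.card_pos.2 ⟨1, (hmemA i 1).2 ⟨one_mem _, one_mem _⟩⟩
    omega
  exact count_arith (Nat.card G) (Nat.card Z) Zt.card C.card (Fintype.card ι)
    (∑ i, (A i).card) (∑ i, ((A i).card - 1)) (∑ i, (T i).card) hgpos hι F1 F2 F3 F4 F5

end Cfsg.Agent.Lib.helper74.BGCount
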