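import Cfsg.Agent.Lib.helper74.TBHerbrandCore
import Cfsg.Agent.Lib.helper7.TB_HD

/-!
# SP-B (theorem TB) piece HB: the Herbrand quotient of a lattice for a cyclic group of prime order
-/

set_option autoImplicit false

namespace Cfsg.Agent.Lib.helper74.TB

/-- PIECE HB (Herbrand quotient of a lattice for a cyclic group of prime order). -/
theorem tb_herbrand (p : ℕ) [Fact p.Prime] {A : Type*} [AddCommGroup A] [Module.Free ℤ A]
    [Module.Finite ℤ A] (x : A →ₗ[ℤ] A) (hx : x ^ p = 1) :
    ∃ d0 d1 : ℕ,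
      (LinearMap.range (∑ i ∈ Finset.range p, x ^ i)).toAddSubgroup.relIndex
        (LinearMap.ker (x - 1)).toAddSubgroup = p ^ d0 ∧
      (LinearMap.range (x - 1)).toAddSubgroup.relIndex
        (LinearMap.ker (∑ i ∈ Finset.range p, x ^ i)).toAddSubgroup = p ^ d1 ∧
      ((p : ℤ) - 1) * ((d0 : ℤ) - d1)
        = p * (Module.finrank ℤ (LinearMap.ker (x - 1)) : ℤ) - Module.finrank ℤ A :=
  tbhb_core p x hx (fun y hy => tb_det_sub_one p y hy)

end Cfsg.Agent.Lib.helper74.TB
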