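import Cfsg.Agent.Lib.helper74.TBGroup

/-!
# SP-B (theorem TB) piece BF: basic stability facts
-/

set_option autoImplicit false

namespace Cfsg.Agent.Lib.helper74.TB

open Cfsg.Agent.Lib.helper84

section

variable {G : Type*} [Group G] [Fintype G] {L : Type*} [AddCommGroup L]

open Classical in
/-- The trace map as a sum with conditions. -/
theorem tbb_tr_apply (ρ : Representation ℤ G L) (P : Subgroup G) (v : L) :
    d1Tr ρ P v = ∑ y : G, if y ∈ P then ρ y v else 0 := by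
  classical
  unfold d1Tr
  rw [LinearMap.sum_apply]
  refine Finset.sum_congr rfl ?_
  intro y _
  by_cases hy : y ∈ P
  · rw [if_pos hy, Set.indicator_of_mem (show y ∈ (P : Set G) from hy)]
  · rw [if_neg hy, Set.indicator_of_notMem (show y ∉ (P : Set G) from hy), LinearMap.zero_apply]

open Classical in
/-- Reindexing a sum over `P` by a bijection of `G` preserving `P`. -/
theorem tbb_sum_reindex (P : Subgroup G) (e : G ≃ G) (he : ∀ y, e y ∈ P ↔ y ∈ P) (f : G → L) :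
    (∑ y : G, if y ∈ P then f (e y) else 0) = ∑ y : G, if y ∈ P then f y else 0 := by
  classical
  refine Fintype.sum_equiv e _ _ ?_
  intro y
  by_cases hy : y ∈ P
  · rw [if_pos hy, if_pos ((he y).mpr hy)]
  · rw [if_neg hy, if_neg (fun h => hy ((he y).mp h))]

theorem tbb_tr_smul (ρ : Representation ℤ G L) (P : Subgroup G) (z : G) (hz : z ∈ P) (v : L) :
    d1Tr ρ P (ρ z v) = d1Tr ρ P v ∧ ρ z (d1Tr ρ P v) = d1Tr ρ P v := by
  classical
  constructor
  · rw [tbb_tr_apply, tbb_tr_apply]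
    have h := tbb_sum_reindex P (Equiv.mulRight z)
      (fun y => by
        show y * z ∈ P ↔ y ∈ P
        exact ⟨fun h => by simpa using P.mul_mem h (P.inv_mem hz), fun h => P.mul_mem h hz⟩)
      (fun y => ρ y v)
    rw [← h]
    refine Finset.sum_congr rfl ?_
    intro y _
    by_cases hy : y ∈ P
    · rw [if_pos hy, if_pos hy]
      show ρ y (ρ z v) = ρ (y * z) v
      rw [map_mul, Module.End.mul_apply]
    · rw [if_neg hy, if_neg hy]
  · rw [tbb_tr_apply, map_sum]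
    have h := tbb_sum_reindex P (Equiv.mulLeft z)
      (fun y => by
        show z * y ∈ P ↔ y ∈ P
        exact ⟨fun h => by simpa using P.mul_mem (P.inv_mem hz) h, fun h => P.mul_mem hz h⟩)
      (fun y => ρ y v)
    rw [← h]
    refine Finset.sum_congr rfl ?_
    intro y _
    by_cases hy : y ∈ P
    · rw [if_pos hy, if_pos hy]
      show ρ z (ρ y v) = ρ (z * y) v
      rw [map_mul, Module.End.mul_apply]
    · rw [if_neg hy, if_neg hy, map_zero]

/-- A linear map commuting with `ρ y` for `y ∈ P` commutes with the trace. -/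
theorem tbb_tr_comm (ρ : Representation ℤ G L) (P : Subgroup G) (F : L →ₗ[ℤ] L)
    (hF : ∀ y ∈ P, ∀ v : L, F (ρ y v) = ρ y (F v)) (v : L) :
    F (d1Tr ρ P v) = d1Tr ρ P (F v) := by
  classical
  rw [tbb_tr_apply, tbb_tr_apply, map_sum]
  refine Finset.sum_congr rfl ?_
  intro y _
  by_cases hy : y ∈ P
  · rw [if_pos hy, if_pos hy, hF y hy]
  · rw [if_neg hy, if_neg hy, map_zero]

open Classical in
theorem tbb_sum_const (P : Subgroup G) (v : L) :
    (∑ y : G, if y ∈ P then v else 0) = (Nat.card P : ℤ) • v := by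
  classical
  rw [← Finset.sum_filter, Finset.sum_const, Nat.card_eq_fintype_card, Fintype.card_subtype,
    natCast_zsmul]

end

section setting

variable {G : Type*} [Group G] [Fintype G] (p : ℕ) [Fact p.Prime] (P : Sylow p G)
  (hP : Nat.card P = p) {L : Type*} [AddCommGroup L] (ρ : Representation ℤ G L)

include hP

/-- PIECE BF (basic facts). -/
theorem tb_basic :
    d1FixC ρ (P : Subgroup G) ≤ d1FixK p ρ (P : Subgroup G) ∧
    (∀ u ∈ d1FixK p ρ (P : Subgroup G), d1Tr ρ (P : Subgroup G) u ∈ d1FixC ρ (P : Subgroup G)) ∧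
    (∀ v ∈ d1FixC ρ (P : Subgroup G), d1Tr ρ (P : Subgroup G) v = (p : ℤ) • v) ∧
    (∀ v ∈ d1FixC ρ (P : Subgroup G), (p : ℤ) • v ∈ tbSA p ρ (P : Subgroup G)) ∧
    d1Aug p ρ (P : Subgroup G) ≤ tbB p ρ (P : Subgroup G) ∧
    (∀ v ∈ tbB p ρ (P : Subgroup G), (p : ℤ) • v ∈ d1Aug p ρ (P : Subgroup G)) ∧
    (∀ y ∈ (P : Subgroup G), ∀ u ∈ d1FixK p ρ (P : Subgroup G),
      ρ y u ∈ d1FixK p ρ (P : Subgroup G)) ∧
    (∀ y ∈ (P : Subgroup G), ∀ v : L,
      d1Tr ρ (P : Subgroup G) (ρ y v) = d1Tr ρ (P : Subgroup G) v ∧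
      ρ y (d1Tr ρ (P : Subgroup G) v) = d1Tr ρ (P : Subgroup G) v) := by
  classical
  obtain ⟨K, hK, hKp, hPC, hdec⟩ := tb_centralizer_structure p P hP
  have h1 : d1FixC ρ (P : Subgroup G) ≤ d1FixK p ρ (P : Subgroup G) :=
    fun v hv g hg _ => hv g hg
  have h7 : ∀ y ∈ (P : Subgroup G), ∀ u ∈ d1FixK p ρ (P : Subgroup G),
      ρ y u ∈ d1FixK p ρ (P : Subgroup G) := by
    intro y hy u hu g hg hgp
    have hc : y * g = g * y := Subgroup.mem_centralizer_iff.mp hg y hy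
    have e : ρ g (ρ y u) = ρ y (ρ g u) := by
      rw [← Module.End.mul_apply, ← map_mul, ← hc, map_mul, Module.End.mul_apply]
    rw [e, hu g hg hgp]
  have h8 : ∀ y ∈ (P : Subgroup G), ∀ v : L,
      d1Tr ρ (P : Subgroup G) (ρ y v) = d1Tr ρ (P : Subgroup G) v ∧
      ρ y (d1Tr ρ (P : Subgroup G) v) = d1Tr ρ (P : Subgroup G) v :=
    fun y hy v => tbb_tr_smul ρ (P : Subgroup G) y hy v
  have h2 : ∀ u ∈ d1FixK p ρ (P : Subgroup G),
      d1Tr ρ (P : Subgroup G) u ∈ d1FixC ρ (P : Subgroup G) := by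
    intro u hu c hc
    obtain ⟨y, hy, k, hk, rfl⟩ := hdec c hc
    have hkC := ((hK k).mp hk).1
    have hkp := ((hK k).mp hk).2
    have hkσ : ρ k (d1Tr ρ (P : Subgroup G) u) = d1Tr ρ (P : Subgroup G) u := by
      have := tbb_tr_comm ρ (P : Subgroup G) (ρ k) (fun z hz v => by
        have hc : z * k = k * z := Subgroup.mem_centralizer_iff.mp hkC z hz
        rw [← Module.End.mul_apply, ← map_mul, ← hc, map_mul, Module.End.mul_apply]) u
      rw [this, hu k hkC hkp]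
    rw [map_mul, Module.End.mul_apply, hkσ]
    exact (h8 y hy u).2
  have h3 : ∀ v ∈ d1FixC ρ (P : Subgroup G), d1Tr ρ (P : Subgroup G) v = (p : ℤ) • v := by
    intro v hv
    rw [tbb_tr_apply]
    have e : (∑ y : G, if y ∈ (P : Subgroup G) then ρ y v else 0)
        = ∑ y : G, if y ∈ (P : Subgroup G) then v else 0 := by
      refine Finset.sum_congr rfl ?_
      intro y _
      by_cases hy : y ∈ (P : Subgroup G)
      · rw [if_pos hy, if_pos hy, hv y (hPC hy)]
      · rw [if_neg hy, if_neg hy]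
    rw [e, tbb_sum_const, hP]
  have h4 : ∀ v ∈ d1FixC ρ (P : Subgroup G), (p : ℤ) • v ∈ tbSA p ρ (P : Subgroup G) := by
    intro v hv
    rw [mem_tbSA]
    exact ⟨v, h1 hv, h3 v hv⟩
  have h5 : d1Aug p ρ (P : Subgroup G) ≤ tbB p ρ (P : Subgroup G) := by
    unfold d1Aug
    rw [Submodule.span_le]
    rintro w ⟨y, hy, u, hu, rfl⟩
    show ρ y u - u ∈ tbB p ρ (P : Subgroup G)
    rw [mem_tbB]
    refine ⟨Submodule.sub_mem _ (h7 y hy u hu) hu, ?_⟩
    rw [map_sub, (h8 y hy u).1, sub_self]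
  have h6 : ∀ v ∈ tbB p ρ (P : Subgroup G), (p : ℤ) • v ∈ d1Aug p ρ (P : Subgroup G) := by
    intro v hv
    rw [mem_tbB] at hv
    have e : (p : ℤ) • v = ∑ y : G, if y ∈ (P : Subgroup G) then (v - ρ y v) else 0 := by
      have e1 : (∑ y : G, if y ∈ (P : Subgroup G) then (v - ρ y v) else 0)
          = (∑ y : G, if y ∈ (P : Subgroup G) then v else 0)
            - ∑ y : G, if y ∈ (P : Subgroup G) then ρ y v else 0 := by
        rw [← Finset.sum_sub_distrib]
        refine Finset.sum_congr rfl ?_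
        intro y _
        by_cases hy : y ∈ (P : Subgroup G)
        · rw [if_pos hy, if_pos hy, if_pos hy]
        · rw [if_neg hy, if_neg hy, if_neg hy, sub_zero]
      rw [e1, ← tbb_tr_apply, hv.2, sub_zero, tbb_sum_const, hP]
    rw [e]
    refine Submodule.sum_mem _ ?_
    intro y _
    by_cases hy : y ∈ (P : Subgroup G)
    · rw [if_pos hy]
      have : v - ρ y v = -(ρ y v - v) := by abel
      rw [this]
      exact Submodule.neg_mem _ (Submodule.subset_span ⟨y, hy, v, hv.1, rfl⟩)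
    · rw [if_neg hy]
      exact Submodule.zero_mem _
  exact ⟨h1, h2, h3, h4, h5, h6, h7, h8⟩

/-- PIECE BF (stability under a `C`-linear map). -/
theorem tb_basic_F (F : L →ₗ[ℤ] L)
    (hF : ∀ c ∈ Subgroup.centralizer ((P : Subgroup G) : Set G), F ∘ₗ ρ c = ρ c ∘ₗ F) :
    (∀ v ∈ d1FixC ρ (P : Subgroup G), F v ∈ d1FixC ρ (P : Subgroup G)) ∧
    (∀ v ∈ d1FixK p ρ (P : Subgroup G), F v ∈ d1FixK p ρ (P : Subgroup G)) ∧
    (∀ v : L, F (d1Tr ρ (P : Subgroup G) v) = d1Tr ρ (P : Subgroup G) (F v)) ∧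
    (∀ v ∈ tbSA p ρ (P : Subgroup G), F v ∈ tbSA p ρ (P : Subgroup G)) ∧
    (∀ v ∈ tbB p ρ (P : Subgroup G), F v ∈ tbB p ρ (P : Subgroup G)) ∧
    (∀ v ∈ d1Aug p ρ (P : Subgroup G), F v ∈ d1Aug p ρ (P : Subgroup G)) := by
  classical
  obtain ⟨K, hK, hKp, hPC, hdec⟩ := tb_centralizer_structure p P hP
  have hF' : ∀ c ∈ Subgroup.centralizer ((P : Subgroup G) : Set G), ∀ v : L,
      F (ρ c v) = ρ c (F v) := fun c hc v => LinearMap.congr_fun (hF c hc) v
  have h1 : ∀ v ∈ d1FixC ρ (P : Subgroup G), F v ∈ d1FixC ρ (P : Subgroup G) := by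
    intro v hv c hc
    rw [← hF' c hc, hv c hc]
  have h2 : ∀ v ∈ d1FixK p ρ (P : Subgroup G), F v ∈ d1FixK p ρ (P : Subgroup G) := by
    intro v hv c hc hcp
    rw [← hF' c hc, hv c hc hcp]
  have h3 : ∀ v : L, F (d1Tr ρ (P : Subgroup G) v) = d1Tr ρ (P : Subgroup G) (F v) :=
    fun v => tbb_tr_comm ρ (P : Subgroup G) F (fun y hy v => hF' y (hPC hy) v) v
  have h4 : ∀ v ∈ tbSA p ρ (P : Subgroup G), F v ∈ tbSA p ρ (P : Subgroup G) := by
    intro v hv
    rw [mem_tbSA] at hv ⊢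
    obtain ⟨u, hu, rfl⟩ := hv
    exact ⟨F u, h2 u hu, (h3 u).symm⟩
  have h5 : ∀ v ∈ tbB p ρ (P : Subgroup G), F v ∈ tbB p ρ (P : Subgroup G) := by
    intro v hv
    rw [mem_tbB] at hv ⊢
    exact ⟨h2 v hv.1, by rw [← h3, hv.2, map_zero]⟩
  have h6 : ∀ v ∈ d1Aug p ρ (P : Subgroup G), F v ∈ d1Aug p ρ (P : Subgroup G) := by
    have hle : d1Aug p ρ (P : Subgroup G) ≤ (d1Aug p ρ (P : Subgroup G)).comap F := by
      conv_lhs => unfold d1Aug
      rw [Submodule.span_le]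
      rintro w ⟨y, hy, u, hu, rfl⟩
      show F (ρ y u - u) ∈ d1Aug p ρ (P : Subgroup G)
      rw [map_sub, hF' y (hPC hy)]
      exact Submodule.subset_span ⟨y, hy, F u, h2 u hu, rfl⟩
    exact fun v hv => hle hv
  exact ⟨h1, h2, h3, h4, h5, h6⟩

/-- PIECE BF (stability under the normalizer of `P`). -/
theorem tb_basic_N (n : G) (hn : n ∈ Subgroup.normalizer ((P : Subgroup G) : Set G)) :
    (∀ v ∈ d1FixC ρ (P : Subgroup G), ρ n v ∈ d1FixC ρ (P : Subgroup G)) ∧
    (∀ v ∈ d1FixK p ρ (P : Subgroup G), ρ n v ∈ d1FixK p ρ (P : Subgroup G)) ∧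
    (∀ v : L, ρ n (d1Tr ρ (P : Subgroup G) v) = d1Tr ρ (P : Subgroup G) (ρ n v)) ∧
    (∀ v ∈ tbSA p ρ (P : Subgroup G), ρ n v ∈ tbSA p ρ (P : Subgroup G)) ∧
    (∀ v ∈ tbB p ρ (P : Subgroup G), ρ n v ∈ tbB p ρ (P : Subgroup G)) ∧
    (∀ v ∈ d1Aug p ρ (P : Subgroup G), ρ n v ∈ d1Aug p ρ (P : Subgroup G)) := by
  classical
  have hnP : ∀ h : G, h ∈ (P : Subgroup G) ↔ n * h * n⁻¹ ∈ (P : Subgroup G) :=
    Subgroup.mem_normalizer_iff.mp hn
  -- conjugation by `n⁻¹` preserves the centralizer and the order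
  have hconjC : ∀ c ∈ Subgroup.centralizer ((P : Subgroup G) : Set G),
      n⁻¹ * c * n ∈ Subgroup.centralizer ((P : Subgroup G) : Set G) := by
    intro c hc
    rw [Subgroup.mem_centralizer_iff]
    intro h hh
    have h1 : n * h * n⁻¹ ∈ (P : Subgroup G) := (hnP h).mp hh
    have h2 : n * h * n⁻¹ * c = c * (n * h * n⁻¹) := Subgroup.mem_centralizer_iff.mp hc _ h1
    calc h * (n⁻¹ * c * n) = n⁻¹ * (n * h * n⁻¹ * c) * n := by group
      _ = n⁻¹ * (c * (n * h * n⁻¹)) * n := by rw [h2]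
      _ = n⁻¹ * c * n * h := by group
  have hord : ∀ c : G, orderOf (n⁻¹ * c * n) = orderOf c := by
    intro c
    have := orderOf_injective (MulAut.conj n⁻¹ : G ≃* G).toMonoidHom (MulAut.conj n⁻¹).injective c
    simpa [MulAut.conj_apply] using this
  have hcomm : ∀ (c : G) (v : L), ρ c (ρ n v) = ρ n (ρ (n⁻¹ * c * n) v) := by
    intro c v
    rw [← Module.End.mul_apply, ← map_mul, ← Module.End.mul_apply, ← map_mul]
    congr 2
    group
  have h1 : ∀ v ∈ d1FixC ρ (P : Subgroup G), ρ n v ∈ d1FixC ρ (P : Subgroup G) := by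
    intro v hv c hc
    rw [hcomm, hv _ (hconjC c hc)]
  have h2 : ∀ v ∈ d1FixK p ρ (P : Subgroup G), ρ n v ∈ d1FixK p ρ (P : Subgroup G) := by
    intro v hv c hc hcp
    rw [hcomm, hv _ (hconjC c hc) (by rw [hord]; exact hcp)]
  have h3 : ∀ v : L, ρ n (d1Tr ρ (P : Subgroup G) v) = d1Tr ρ (P : Subgroup G) (ρ n v) := by
    intro v
    rw [tbb_tr_apply, tbb_tr_apply, map_sum]
    have h := tbb_sum_reindex (P : Subgroup G) (MulAut.conj n).toEquiv
      (fun y => by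
        show n * y * n⁻¹ ∈ (P : Subgroup G) ↔ y ∈ (P : Subgroup G)
        exact (hnP y).symm)
      (fun y => ρ y (ρ n v))
    rw [← h]
    refine Finset.sum_congr rfl ?_
    intro y _
    by_cases hy : y ∈ (P : Subgroup G)
    · rw [if_pos hy, if_pos hy]
      show ρ n (ρ y v) = ρ (n * y * n⁻¹) (ρ n v)
      rw [← Module.End.mul_apply, ← map_mul, ← Module.End.mul_apply, ← map_mul]
      congr 2
      group
    · rw [if_neg hy, if_neg hy, map_zero]
  have h4 : ∀ v ∈ tbSA p ρ (P : Subgroup G), ρ n v ∈ tbSA p ρ (P : Subgroup G) := by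
    intro v hv
    rw [mem_tbSA] at hv ⊢
    obtain ⟨u, hu, rfl⟩ := hv
    exact ⟨ρ n u, h2 u hu, (h3 u).symm⟩
  have h5 : ∀ v ∈ tbB p ρ (P : Subgroup G), ρ n v ∈ tbB p ρ (P : Subgroup G) := by
    intro v hv
    rw [mem_tbB] at hv ⊢
    exact ⟨h2 v hv.1, by rw [← h3, hv.2, map_zero]⟩
  have h6 : ∀ v ∈ d1Aug p ρ (P : Subgroup G), ρ n v ∈ d1Aug p ρ (P : Subgroup G) := by
    have hle : d1Aug p ρ (P : Subgroup G) ≤ (d1Aug p ρ (P : Subgroup G)).comap (ρ n) := by
      conv_lhs => unfold d1Aug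
      rw [Submodule.span_le]
      rintro w ⟨y, hy, u, hu, rfl⟩
      show ρ n (ρ y u - u) ∈ d1Aug p ρ (P : Subgroup G)
      have e : ρ n (ρ y u - u) = ρ (n * y * n⁻¹) (ρ n u) - ρ n u := by
        rw [map_sub]
        congr 1
        rw [← Module.End.mul_apply, ← map_mul, ← Module.End.mul_apply, ← map_mul]
        congr 2
        group
      rw [e]
      exact Submodule.subset_span ⟨n * y * n⁻¹, (hnP y).mp hy, ρ n u, h2 u hu, rfl⟩
    exact fun v hv => hle hv
  exact ⟨h1, h2, h3, h4, h5, h6⟩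

end setting

end Cfsg.Agent.Lib.helper74.TB
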