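import Cfsg.Agent.Lib.helper74.TBDefs
import Cfsg.Agent.Lib.helper46.D1GS

/-!
# Group-theoretic input for SP-B (theorem TB), packaged from `helper46.D1GS`
-/

set_option autoImplicit false

namespace Cfsg.Agent.Lib.helper74.TB

open Cfsg.Agent.Lib.helper84

/-- PIECE G1.  `C_G(P) = P × K`, `K` = the `p`-regular elements of `C_G(P)`. -/
theorem tb_centralizer_structure {G : Type*} [Group G] [Fintype G] (p : ℕ) [Fact p.Prime]
    (P : Sylow p G) (hP : Nat.card P = p) :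
    ∃ K : Subgroup G,
      (∀ g : G, g ∈ K ↔ g ∈ Subgroup.centralizer ((P : Subgroup G) : Set G) ∧ ¬ p ∣ orderOf g) ∧
      ¬ p ∣ Nat.card K ∧ (P : Subgroup G) ≤ Subgroup.centralizer ((P : Subgroup G) : Set G) ∧
      ∀ c ∈ Subgroup.centralizer ((P : Subgroup G) : Set G),
        ∃ y ∈ (P : Subgroup G), ∃ k ∈ K, c = y * k := by
  have hp : p.Prime := Fact.out
  obtain ⟨K, hK, hdec, hcard⟩ := Cfsg.Agent.Lib.helper46.d1_exists_K p P hP
  refine ⟨K, hK, ?_, ?_, hdec⟩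
  · intro hdvd
    apply Cfsg.Agent.Lib.helper46.d1gs_not_sq_dvd p P hP
    have h1 : p ^ 2 ∣ Nat.card (Subgroup.centralizer ((P : Subgroup G) : Set G)) := by
      rw [hcard, pow_two]
      exact Nat.mul_dvd_mul_left p hdvd
    exact h1.trans (Subgroup.card_subgroup_dvd_card _)
  · obtain ⟨x, hx, hx1, hxo, hPx⟩ := Cfsg.Agent.Lib.helper46.d1_sylow_gen p P hP
    intro y hy
    rw [Subgroup.mem_centralizer_iff]
    intro z hz
    have hz' : z ∈ (P : Subgroup G) := hz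
    rw [hPx] at hy hz'
    obtain ⟨i, rfl⟩ := Subgroup.mem_zpowers_iff.mp hy
    obtain ⟨j, rfl⟩ := Subgroup.mem_zpowers_iff.mp hz'
    rw [← zpow_add, ← zpow_add, add_comm]

/-- PIECE G3.  `N_G(P)/C_G(P)` is cyclic of order dividing `p - 1`. -/
theorem tb_normalizer_cyclic {G : Type*} [Group G] [Fintype G] (p : ℕ) [Fact p.Prime]
    (P : Sylow p G) (hP : Nat.card P = p) :
    ∃ n₀ ∈ Subgroup.normalizer ((P : Subgroup G) : Set G),
      n₀ ^ (p - 1) ∈ Subgroup.centralizer ((P : Subgroup G) : Set G) ∧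
      ∀ n ∈ Subgroup.normalizer ((P : Subgroup G) : Set G),
        ∃ i : ℕ, ∃ c ∈ Subgroup.centralizer ((P : Subgroup G) : Set G), n = n₀ ^ i * c := by
  obtain ⟨n₀, h1, h2, h3⟩ := Cfsg.Agent.Lib.helper46.d1_normalizer_cyclic p P hP
  exact ⟨n₀, h1, h3, h2⟩

end Cfsg.Agent.Lib.helper74.TB
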