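import Cfsg.Agent.Lib.helper74.TBBasic
import Cfsg.Agent.Lib.helper52.TB_DIM
import Cfsg.Agent.Lib.helper80.TB_HT
import Cfsg.Agent.Lib.helper88.TB_REAL

/-!
# Theorem TB (`d1_tate_rank_bound`) for S4441 / S0960: final assembly of sub-project SP-B
-/

set_option autoImplicit false

namespace Cfsg.Agent.Lib.helper74.TB

open Cfsg.Agent.Lib.helper84

/-- If `δ` and `τ` agree modulo `V0` on `U0` and `δ` preserves `V0`, then so do all polynomials in
them. -/
theorem tbm_aeval_congr {L : Type*} [AddCommGroup L] (U0 V0 : Submodule ℤ L)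
    (τ : U0 →ₗ[ℤ] U0) (δ : L →ₗ[ℤ] L) (hδV : ∀ v ∈ V0, δ v ∈ V0)
    (hδτ : ∀ u : U0, δ (u : L) - (τ u : L) ∈ V0) (q : Polynomial ℤ) (u : U0) :
    Polynomial.aeval δ q (u : L) - ((Polynomial.aeval τ q u : U0) : L) ∈ V0 := by
  have hpow : ∀ (k : ℕ) (u : U0), (δ ^ k) (u : L) - (((τ ^ k) u : U0) : L) ∈ V0 := by
    intro k
    induction k with
    | zero =>
      intro u
      simp
    | succ k ih =>
      intro u
      have e : (δ ^ (k + 1)) (u : L) - (((τ ^ (k + 1)) u : U0) : L)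
          = δ ((δ ^ k) (u : L) - (((τ ^ k) u : U0) : L))
            + (δ (((τ ^ k) u : U0) : L) - ((τ ((τ ^ k) u) : U0) : L)) := by
        rw [pow_succ', pow_succ', Module.End.mul_apply, Module.End.mul_apply, map_sub]
        abel
      rw [e]
      exact V0.add_mem (hδV _ (ih u)) (hδτ _)
  rw [Polynomial.aeval_eq_sum_range, Polynomial.aeval_eq_sum_range]
  rw [LinearMap.sum_apply, LinearMap.sum_apply]
  have e : (∑ i ∈ Finset.range (q.natDegree + 1), (q.coeff i • δ ^ i) (u : L))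
        - ((∑ i ∈ Finset.range (q.natDegree + 1), (q.coeff i • τ ^ i) u : U0) : L)
      = ∑ i ∈ Finset.range (q.natDegree + 1),
          q.coeff i • ((δ ^ i) (u : L) - (((τ ^ i) u : U0) : L)) := by
    rw [Submodule.coe_sum, ← Finset.sum_sub_distrib]
    refine Finset.sum_congr rfl ?_
    intro i _
    rw [LinearMap.smul_apply, LinearMap.smul_apply, Submodule.coe_smul, smul_sub]
  rw [e]
  exact V0.sum_mem (fun i _ => V0.smul_mem _ (hpow i u))

/-- Commutation modulo `V` with `s` implies commutation modulo `V` with the powers of `s`. -/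
theorem tbm_pow_comm {U : Type*} [AddCommGroup U] (V : Submodule ℤ U) (s τ : U →ₗ[ℤ] U)
    (hsV : ∀ u ∈ V, s u ∈ V) (hτs : ∀ u : U, τ (s u) - s (τ u) ∈ V) (i : ℕ) (u : U) :
    τ ((s ^ i) u) - (s ^ i) (τ u) ∈ V := by
  induction i with
  | zero => simp
  | succ i ih =>
    have e : τ ((s ^ (i + 1)) u) - (s ^ (i + 1)) (τ u)
        = (τ (s ((s ^ i) u)) - s (τ ((s ^ i) u))) + s (τ ((s ^ i) u) - (s ^ i) (τ u)) := by
      rw [pow_succ', Module.End.mul_apply, Module.End.mul_apply, map_sub]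
      abel
    rw [e]
    exact V.add_mem (hτs _) (hsV _ ih)

/-- Powers of a restricted representation operator. -/
theorem tbm_restrict_pow {G : Type*} [Group G] {L : Type*} [AddCommGroup L]
    (ρ : Representation ℤ G L) (U0 : Submodule ℤ L) (n : G) (h : ∀ v ∈ U0, ρ n v ∈ U0) (i : ℕ)
    (u : U0) : ((((ρ n).restrict h) ^ i) u : L) = ρ (n ^ i) (u : L) := by
  induction i with
  | zero => simp
  | succ i ih =>
    rw [pow_succ', Module.End.mul_apply, LinearMap.coe_restrict_apply, ih, pow_succ', map_mul,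
      Module.End.mul_apply]

/-- Powers of an endomorphism preserving `V` preserve `V`. -/
theorem tbm_pow_mem {U : Type*} [AddCommGroup U] (V : Submodule ℤ U) (s : U →ₗ[ℤ] U)
    (hsV : ∀ u ∈ V, s u ∈ V) (i : ℕ) (u : U) (hu : u ∈ V) : (s ^ i) u ∈ V := by
  induction i with
  | zero => simpa using hu
  | succ i ih =>
    rw [pow_succ', Module.End.mul_apply]
    exact hsV _ ih

/-- FINAL: theorem TB. -/
theorem tb_main {G : Type*} [Group G] [Fintype G] (p : ℕ) [Fact p.Prime]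
    (P : Sylow p G) (hP : Nat.card P = p)
    {L : Type*} [AddCommGroup L] [Module.Free ℤ L] [Module.Finite ℤ L]
    (ρ : Representation ℤ G L) (D : ℕ)
    (hPI : ∀ δ : L →ₗ[ℤ] L, (∀ g : G, δ ∘ₗ ρ g = ρ g ∘ₗ δ) →
      ∃ q : Polynomial ℤ, q.natDegree ≤ D ∧ (∃ k, ¬ (p : ℤ) ∣ q.coeff k) ∧
        (∀ v ∈ d1FixC ρ (P : Subgroup G),
          Polynomial.aeval δ q v ∈ (d1FixK p ρ (P : Subgroup G)).map (d1Tr ρ (P : Subgroup G))) ∧
        (∀ v ∈ d1FixK p ρ (P : Subgroup G), d1Tr ρ (P : Subgroup G) v = 0 →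
          Polynomial.aeval δ q v ∈ d1Aug p ρ (P : Subgroup G))) :
    |(p : ℤ) * (Module.finrank ℤ (d1FixC ρ (P : Subgroup G)) : ℤ)
        - (Module.finrank ℤ (d1FixK p ρ (P : Subgroup G)) : ℤ)| ≤ ((p : ℤ) - 1) * D := by
  classical
  have hp : p.Prime := Fact.out
  obtain ⟨n₀, hn₀N, hn₀C, hgen⟩ := tb_normalizer_cyclic p P hP
  obtain ⟨K, hK, hKp, hPC, hdec⟩ := tb_centralizer_structure p P hP
  obtain ⟨hCK, hσA, hσC, hpC, haugB, hpB, hPA, hPσ⟩ := tb_basic p P hP ρ
  obtain ⟨hN1, hN2, hN3, hN4, hN5, hN6⟩ := tb_basic_N p P hP ρ n₀ hn₀N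
  -- the bound for `W0`
  have h0 : ∃ d : ℕ, d ≤ D ∧ (tbV0 p ρ (P : Subgroup G)).toAddSubgroup.index = p ^ d := by
    have hsV : ∀ u ∈ tbV0 p ρ (P : Subgroup G),
        ((ρ n₀).restrict hN1) u ∈ tbV0 p ρ (P : Subgroup G) := by
      intro u hu
      rw [mem_tbV0] at hu ⊢
      rw [LinearMap.coe_restrict_apply]
      exact hN4 _ hu
    refine tb_dim_bound p (tbV0 p ρ (P : Subgroup G)) ?_ ((ρ n₀).restrict hN1) hsV ?_ D ?_
    · intro u
      rw [mem_tbV0, Submodule.coe_smul]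
      exact hpC _ u.2
    · intro u
      have e : (((ρ n₀).restrict hN1) ^ (p - 1)) u = u := by
        apply Subtype.ext
        rw [tbm_restrict_pow]
        exact u.2 _ hn₀C
      rw [e, sub_self]
      exact Submodule.zero_mem _
    · intro τ hτV hτs
      have hτN : ∀ n ∈ Subgroup.normalizer ((P : Subgroup G) : Set G),
          ∀ u u' : d1FixC ρ (P : Subgroup G), (u' : L) = ρ n (u : L) →
          (τ u' : L) - ρ n (τ u : L) ∈ tbSA p ρ (P : Subgroup G) := by
        intro n hn u u' huu'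
        obtain ⟨i, c, hc, rfl⟩ := hgen n hn
        have h1 : ∀ w : d1FixC ρ (P : Subgroup G),
            ρ (n₀ ^ i * c) (w : L) = ((((ρ n₀).restrict hN1) ^ i) w : L) := by
          intro w
          rw [tbm_restrict_pow, map_mul, Module.End.mul_apply, w.2 c hc]
        have h2 : u' = (((ρ n₀).restrict hN1) ^ i) u := Subtype.ext (by rw [huu', h1])
        rw [h2, h1, ← Submodule.coe_sub, ← mem_tbV0]
        exact tbm_pow_comm _ _ _ hsV hτs i u
      obtain ⟨δ, hδG, hδ⟩ := tb_realize_W0 p P hP ρ τ hτV hτN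
      obtain ⟨q, hqD, hqp, hq0, hq1⟩ := hPI δ hδG
      refine ⟨q, hqD, hqp, ?_⟩
      intro u
      rw [mem_tbV0]
      have hδV := (tb_basic_F p P hP ρ δ (fun c _ => hδG c)).2.2.2.1
      have h3 := tbm_aeval_congr (d1FixC ρ (P : Subgroup G)) (tbSA p ρ (P : Subgroup G)) τ δ
        hδV hδ q u
      have h4 : Polynomial.aeval δ q (u : L) ∈ tbSA p ρ (P : Subgroup G) := hq0 _ u.2
      have h5 := Submodule.sub_mem _ h4 h3
      rwa [sub_sub_cancel] at h5
  -- the bound for `W1`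
  have h1 : ∃ d : ℕ, d ≤ D ∧ (tbV1 p ρ (P : Subgroup G)).toAddSubgroup.index = p ^ d := by
    have hsV : ∀ u ∈ tbV1 p ρ (P : Subgroup G),
        ((ρ n₀).restrict hN5) u ∈ tbV1 p ρ (P : Subgroup G) := by
      intro u hu
      rw [mem_tbV1] at hu ⊢
      rw [LinearMap.coe_restrict_apply]
      exact hN6 _ hu
    have hBA : ∀ w : tbB p ρ (P : Subgroup G), (w : L) ∈ d1FixK p ρ (P : Subgroup G) :=
      fun w => ((mem_tbB p ρ (P : Subgroup G) _).mp w.2).1
    have hKfix : ∀ k ∈ K, ∀ w ∈ d1FixK p ρ (P : Subgroup G), ρ k w = w :=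
      fun k hk w hw => hw k ((hK k).mp hk).1 ((hK k).mp hk).2
    have hPaug : ∀ y ∈ (P : Subgroup G), ∀ w ∈ d1FixK p ρ (P : Subgroup G),
        ρ y w - w ∈ d1Aug p ρ (P : Subgroup G) :=
      fun y hy w hw => Submodule.subset_span ⟨y, hy, w, hw, rfl⟩
    have hPB : ∀ y ∈ (P : Subgroup G), ∀ w ∈ tbB p ρ (P : Subgroup G),
        ρ y w ∈ tbB p ρ (P : Subgroup G) := by
      intro y hy w hw
      rw [mem_tbB] at hw ⊢
      exact ⟨hPA y hy w hw.1, by rw [(hPσ y hy w).1]; exact hw.2⟩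
    refine tb_dim_bound p (tbV1 p ρ (P : Subgroup G)) ?_ ((ρ n₀).restrict hN5) hsV ?_ D ?_
    · intro u
      rw [mem_tbV1, Submodule.coe_smul]
      exact hpB _ u.2
    · intro u
      rw [mem_tbV1, Submodule.coe_sub, tbm_restrict_pow]
      obtain ⟨y, hy, k, hk, hyk⟩ := hdec _ hn₀C
      rw [hyk, map_mul, Module.End.mul_apply, hKfix k hk _ (hBA u)]
      exact hPaug y hy _ (hBA u)
    · intro τ hτV hτs
      have hτN : ∀ n ∈ Subgroup.normalizer ((P : Subgroup G) : Set G),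
          ∀ u u' : tbB p ρ (P : Subgroup G), (u' : L) = ρ n (u : L) →
          (τ u' : L) - ρ n (τ u : L) ∈ d1Aug p ρ (P : Subgroup G) := by
        intro n hn u u' huu'
        obtain ⟨i, c, hc, rfl⟩ := hgen n hn
        obtain ⟨y, hy, k, hk, rfl⟩ := hdec c hc
        have h1 : ∀ w : tbB p ρ (P : Subgroup G),
            ρ (n₀ ^ i * (y * k)) (w : L)
              = ((((ρ n₀).restrict hN5) ^ i) ⟨ρ y (w : L), hPB y hy _ w.2⟩ : L) := by
          intro w
          rw [tbm_restrict_pow, map_mul, map_mul, Module.End.mul_apply, Module.End.mul_apply,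
            hKfix k hk _ (hBA w)]
        have hdiff : ∀ w : tbB p ρ (P : Subgroup G),
            (⟨ρ y (w : L), hPB y hy _ w.2⟩ : tbB p ρ (P : Subgroup G)) - w
              ∈ tbV1 p ρ (P : Subgroup G) := by
          intro w
          rw [mem_tbV1, Submodule.coe_sub]
          exact hPaug y hy _ (hBA w)
        have h2 : u' = (((ρ n₀).restrict hN5) ^ i) ⟨ρ y (u : L), hPB y hy _ u.2⟩ :=
          Subtype.ext (by rw [huu', h1])
        rw [h2, h1, ← Submodule.coe_sub, ← mem_tbV1]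
        have e : τ ((((ρ n₀).restrict hN5) ^ i) ⟨ρ y (u : L), hPB y hy _ u.2⟩)
              - (((ρ n₀).restrict hN5) ^ i) ⟨ρ y ((τ u : tbB p ρ (P : Subgroup G)) : L),
                  hPB y hy _ (τ u).2⟩
            = (τ ((((ρ n₀).restrict hN5) ^ i) ⟨ρ y (u : L), hPB y hy _ u.2⟩)
                - (((ρ n₀).restrict hN5) ^ i) (τ ⟨ρ y (u : L), hPB y hy _ u.2⟩))
              + ((((ρ n₀).restrict hN5) ^ i)
                    (τ ((⟨ρ y (u : L), hPB y hy _ u.2⟩ : tbB p ρ (P : Subgroup G)) - u))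
                - (((ρ n₀).restrict hN5) ^ i)
                    ((⟨ρ y ((τ u : tbB p ρ (P : Subgroup G)) : L), hPB y hy _ (τ u).2⟩ :
                      tbB p ρ (P : Subgroup G)) - τ u)) := by
          rw [map_sub, map_sub, map_sub]
          abel
        rw [e]
        exact Submodule.add_mem _ (tbm_pow_comm _ _ _ hsV hτs i _)
          (Submodule.sub_mem _ (tbm_pow_mem _ _ hsV i _ (hτV _ (hdiff u)))
            (tbm_pow_mem _ _ hsV i _ (hdiff (τ u))))
      obtain ⟨δ, hδG, hδ⟩ := tb_realize_W1 p P hP ρ τ hτV hτN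
      obtain ⟨q, hqD, hqp, hq0, hq1⟩ := hPI δ hδG
      refine ⟨q, hqD, hqp, ?_⟩
      intro u
      rw [mem_tbV1]
      have hδV := (tb_basic_F p P hP ρ δ (fun c _ => hδG c)).2.2.2.2.2
      have h3 := tbm_aeval_congr (tbB p ρ (P : Subgroup G)) (d1Aug p ρ (P : Subgroup G)) τ δ
        hδV hδ q u
      have h4 : Polynomial.aeval δ q (u : L) ∈ d1Aug p ρ (P : Subgroup G) :=
        hq1 _ (hBA u) ((mem_tbB p ρ (P : Subgroup G) _).mp u.2).2
      have h5 := Submodule.sub_mem _ h4 h3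
      rwa [sub_sub_cancel] at h5
  -- Herbrand
  obtain ⟨d0, d1, hd0, hd1, hrk⟩ := tb_herbrand_d1 p P hP ρ
  obtain ⟨e0, he0, he0'⟩ := h0
  obtain ⟨e1, he1, he1'⟩ := h1
  have hd0D : d0 ≤ D := by
    have : d0 = e0 := Nat.pow_right_injective hp.two_le (hd0.symm.trans he0')
    omega
  have hd1D : d1 ≤ D := by
    have : d1 = e1 := Nat.pow_right_injective hp.two_le (hd1.symm.trans he1')
    omega
  rw [← hrk, abs_mul]
  have hp1 : (0 : ℤ) ≤ (p : ℤ) - 1 := by
    have := hp.one_le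
    omega
  rw [abs_of_nonneg hp1]
  apply mul_le_mul_of_nonneg_left _ hp1
  rw [abs_le]
  constructor <;> omega

end Cfsg.Agent.Lib.helper74.TB
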