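import Mathlib

namespace Cfsg.Agent.Lib.helper74.Hup

open scoped commutatorElement

theorem comm_mul_left_of_commute {G : Type*} [Group G] (m d x : G) (h1 : Commute m d)
    (h2 : Commute m x) : ⁅m * d, x⁆ = ⁅d, x⁆ := by
  simp only [commutatorElement_def, mul_inv_rev]
  have h3 : Commute m (d * x * d⁻¹) := (h1.mul_right h2).mul_right h1.inv_right
  calc m * d * x * (d⁻¹ * m⁻¹) * x⁻¹ = m * (d * x * d⁻¹) * m⁻¹ * x⁻¹ := by group
    _ = (d * x * d⁻¹) * m * m⁻¹ * x⁻¹ := by rw [h3.eq]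
    _ = d * x * d⁻¹ * x⁻¹ := by group

theorem comm_mul_right_of_commute {G : Type*} [Group G] (m d x : G) (h1 : Commute m d)
    (h2 : Commute m x) : ⁅x, m * d⁆ = ⁅x, d⁆ := by
  rw [← commutatorElement_inv (m * d) x, comm_mul_left_of_commute m d x h1 h2,
    commutatorElement_inv]

theorem exists_class_two {G : Type*} [Group G] [Finite G] (hsol : IsSolvable G)
    (M C₀ : Subgroup G) (hMn : M.Normal) (hC₀n : C₀.Normal)
    (hMab : ∀ a ∈ M, ∀ b ∈ M, a * b = b * a)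
    (hMmax : ∀ A : Subgroup G, A.Normal → (∀ a ∈ A, ∀ b ∈ A, a * b = b * a) → M ≤ A → A = M)
    (hMC₀ : M < C₀) (hC₀ : ∀ g ∈ C₀, ∀ z ∈ M, g * z = z * g) :
    ∃ (r : ℕ) (N : Subgroup G), r.Prime ∧ N.Normal ∧ M < N ∧ N ≤ C₀ ∧
      (∀ g ∈ N, ∀ h ∈ N, g * h * g⁻¹ * h⁻¹ ∈ M) ∧ (∀ g ∈ N, g ^ r ∈ M) ∧
      (∀ g ∈ N, (∀ h ∈ N, g * h = h * g) → g ∈ M) := by
  classical
  -- a minimal normal subgroup N with M < N ≤ C₀
  let S : Set (Subgroup G) := {N | N.Normal ∧ M < N ∧ N ≤ C₀}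
  have hSne : S.Nonempty := ⟨C₀, hC₀n, hMC₀, le_rfl⟩
  obtain ⟨N, ⟨hNn, hMN, hNC⟩, hmin⟩ := wellFounded_lt.has_min S hSne
  have hmin' : ∀ K : Subgroup G, K.Normal → M < K → K ≤ N → K = N := by
    intro K hKn hMK hKN
    by_contra hne
    exact hmin K ⟨hKn, hMK, hKN.trans hNC⟩ (lt_of_le_of_ne hKN hne)
  have hcentral : ∀ g ∈ N, ∀ z ∈ M, g * z = z * g :=
    fun g hg z hz => hC₀ g (hNC hg) z hz
  -- (i) the commutator subgroup of N lies in M
  have hcomm : ⁅N, N⁆ ≤ M := by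
    have hDn : (⁅N, N⁆ : Subgroup G).Normal := Subgroup.commutator_normal N N
    have hDN : ⁅N, N⁆ ≤ N := Subgroup.commutator_le_left N N
    by_contra hDM
    have hK : M ⊔ ⁅N, N⁆ = N := by
      apply hmin' _ (Subgroup.sup_normal M ⁅N, N⁆) _ (sup_le hMN.le hDN)
      refine lt_of_le_of_ne le_sup_left ?_
      intro h
      apply hDM
      rw [h]
      exact le_sup_right
    have hperf : ⁅N, N⁆ ≤ ⁅⁅N, N⁆, ⁅N, N⁆⁆ := by
      rw [Subgroup.commutator_le]
      intro g₁ hg₁ g₂ hg₂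
      rw [← hK] at hg₁ hg₂
      obtain ⟨m₁, hm₁, d₁, hd₁, rfl⟩ := Subgroup.mem_sup_of_normal_right.mp hg₁
      obtain ⟨m₂, hm₂, d₂, hd₂, rfl⟩ := Subgroup.mem_sup_of_normal_right.mp hg₂
      have e1 : ⁅m₁ * d₁, m₂ * d₂⁆ = ⁅d₁, m₂ * d₂⁆ := by
        apply comm_mul_left_of_commute
        · exact (hcentral d₁ (hDN hd₁) m₁ hm₁).symm
        · exact (hcentral (m₂ * d₂) (N.mul_mem (hMN.le hm₂) (hDN hd₂)) m₁ hm₁).symm
      have e2 : ⁅d₁, m₂ * d₂⁆ = ⁅d₁, d₂⁆ := by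
        apply comm_mul_right_of_commute
        · exact (hcentral d₂ (hDN hd₂) m₂ hm₂).symm
        · exact (hcentral d₁ (hDN hd₁) m₂ hm₂).symm
      rw [e1, e2]
      exact Subgroup.commutator_mem_commutator hd₁ hd₂
    have hder : ∀ n, ⁅N, N⁆ ≤ derivedSeries G n := by
      intro n
      induction n with
      | zero => exact le_top
      | succ n ih =>
        rw [derivedSeries_succ]
        exact hperf.trans (Subgroup.commutator_mono ih ih)
    obtain ⟨n, hn⟩ := hsol.solvable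
    have hDbot : ⁅N, N⁆ = ⊥ := le_bot_iff.mp (hn ▸ hder n)
    rw [hDbot, sup_bot_eq] at hK
    exact hMN.ne hK
  have hcomm' : ∀ g ∈ N, ∀ h ∈ N, g * h * g⁻¹ * h⁻¹ ∈ M :=
    fun g hg h hh => hcomm (Subgroup.commutator_mem_commutator hg hh)
  -- images in G ⧸ M commute
  have hmodcomm : ∀ x ∈ N, ∀ y ∈ N,
      Commute (QuotientGroup.mk' M x) (QuotientGroup.mk' M y) := by
    intro x hx y hy
    have h1 : y⁻¹ * x⁻¹ * y⁻¹⁻¹ * x⁻¹⁻¹ ∈ M :=
      hcomm' y⁻¹ (N.inv_mem hy) x⁻¹ (N.inv_mem hx)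
    rw [inv_inv, inv_inv] at h1
    show QuotientGroup.mk' M x * QuotientGroup.mk' M y
      = QuotientGroup.mk' M y * QuotientGroup.mk' M x
    rw [← map_mul, ← map_mul, QuotientGroup.mk'_apply, QuotientGroup.mk'_apply,
      QuotientGroup.eq]
    have h2 : (x * y)⁻¹ * (y * x) = y⁻¹ * x⁻¹ * y * x := by group
    rw [h2]
    exact h1
  have hpowM : ∀ (r : ℕ) (x : G), x ^ r ∈ M ↔ (QuotientGroup.mk' M x) ^ r = 1 := by
    intro r x
    rw [← map_pow, QuotientGroup.mk'_apply, QuotientGroup.eq_one_iff]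
  -- (ii) the prime r
  obtain ⟨g, hgN, hgM⟩ := SetLike.exists_of_lt hMN
  have hex : ∃ k, 0 < k ∧ g ^ k ∈ M :=
    ⟨orderOf g, orderOf_pos g, by rw [pow_orderOf_eq_one]; exact M.one_mem⟩
  have hk0 : 0 < Nat.find hex := (Nat.find_spec hex).1
  have hkM : g ^ Nat.find hex ∈ M := (Nat.find_spec hex).2
  have hk1 : Nat.find hex ≠ 1 := by
    intro h
    rw [h, pow_one] at hkM
    exact hgM hkM
  have hrp : (Nat.find hex).minFac.Prime := Nat.minFac_prime hk1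
  obtain ⟨c, hc⟩ := Nat.minFac_dvd (Nat.find hex)
  have hc0 : 0 < c := by
    rcases Nat.eq_zero_or_pos c with h | h
    · rw [h, mul_zero] at hc
      omega
    · exact h
  have hck : c < Nat.find hex := by
    have := hrp.two_le
    calc c < 2 * c := by omega
      _ ≤ (Nat.find hex).minFac * c := Nat.mul_le_mul_right c this
      _ = Nat.find hex := hc.symm
  have hgc : g ^ c ∉ M := fun h => Nat.find_min hex hck ⟨hc0, h⟩
  have hgcr : (g ^ c) ^ (Nat.find hex).minFac ∈ M := by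
    rw [← pow_mul, mul_comm, ← hc]
    exact hkM
  let Nr : Subgroup G :=
    { carrier := {y | y ∈ N ∧ y ^ (Nat.find hex).minFac ∈ M}
      mul_mem' := by
        rintro x y ⟨hx, hxr⟩ ⟨hy, hyr⟩
        refine ⟨N.mul_mem hx hy, ?_⟩
        rw [hpowM] at hxr hyr ⊢
        rw [map_mul, (hmodcomm x hx y hy).mul_pow, hxr, hyr, one_mul]
      one_mem' := ⟨N.one_mem, by rw [one_pow]; exact M.one_mem⟩
      inv_mem' := by
        rintro x ⟨hx, hxr⟩
        exact ⟨N.inv_mem hx, by rw [inv_pow]; exact M.inv_mem hxr⟩ }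
  have hNrn : Nr.Normal := by
    constructor
    intro y hy g
    obtain ⟨hyN, hyr⟩ := hy
    exact ⟨hNn.conj_mem y hyN g, by rw [conj_pow]; exact hMn.conj_mem _ hyr g⟩
  have hNrN : Nr ≤ N := fun y hy => hy.1
  have hMNr : M < Nr := by
    refine lt_of_le_of_ne (fun m hm => ⟨hMN.le hm, M.pow_mem hm _⟩) ?_
    intro h
    apply hgc
    rw [h]
    exact ⟨N.pow_mem hgN c, hgcr⟩
  have hNrEq : Nr = N := hmin' Nr hNrn hMNr hNrN
  have hpow : ∀ g ∈ N, g ^ (Nat.find hex).minFac ∈ M := by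
    intro g hg
    rw [← hNrEq] at hg
    exact hg.2
  -- (iii) the centre of N is M
  have hZn : (N ⊓ Subgroup.centralizer (N : Set G)).Normal := by
    haveI := hNn
    haveI : (Subgroup.centralizer (N : Set G)).Normal := Subgroup.normal_centralizer
    exact Subgroup.normal_inf_normal N _
  have hZab : ∀ a ∈ N ⊓ Subgroup.centralizer (N : Set G),
      ∀ b ∈ N ⊓ Subgroup.centralizer (N : Set G), a * b = b * a := by
    intro a ha b hb
    exact (Subgroup.mem_centralizer_iff.mp hb.2 a ha.1)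
  have hMZ : M ≤ N ⊓ Subgroup.centralizer (N : Set G) := by
    intro m hm
    exact ⟨hMN.le hm, Subgroup.mem_centralizer_iff.mpr (fun h hh => hcentral h hh m hm)⟩
  have hZM : N ⊓ Subgroup.centralizer (N : Set G) = M := hMmax _ hZn hZab hMZ
  refine ⟨(Nat.find hex).minFac, N, hrp, hNn, hMN, hNC, hcomm', hpow, ?_⟩
  intro g hg hcen
  rw [← hZM]
  exact ⟨hg, Subgroup.mem_centralizer_iff.mpr (fun h hh => (hcen h hh).symm)⟩

end Cfsg.Agent.Lib.helper74.Hup
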