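import Mathlib

set_option autoImplicit false

/-!
# Quadratic offenders: definitions for S1935

`lim W ξ` is the "limit at infinity" of the conjugates `(1 - tξ) W (1 + tξ)` of an additive
subgroup `W` of a ring (with `ξ * ξ = 0`), written out explicitly.
-/

namespace Cfsg.Agent.Lib.helper74.QO

variable {R : Type*} [Ring R]

/-- The limit construction: all `a + b ξ - ξ b - ξ c ξ` with `a b c ∈ W`, `ξ a ξ ∈ W` and
`a ξ - ξ a - ξ b ξ ∈ W`. -/
def lim (W : AddSubgroup R) (ξ : R) : AddSubgroup R where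
  carrier := {l | ∃ a ∈ W, ∃ b ∈ W, ∃ c ∈ W, ξ * a * ξ ∈ W ∧ a * ξ - ξ * a - ξ * b * ξ ∈ W ∧
    l = a + b * ξ - ξ * b - ξ * c * ξ}
  zero_mem' := ⟨0, W.zero_mem, 0, W.zero_mem, 0, W.zero_mem, by simp, by simp, by simp⟩
  add_mem' := by
    rintro _ _ ⟨a, ha, b, hb, c, hc, h1, h2, rfl⟩ ⟨a', ha', b', hb', c', hc', h1', h2', rfl⟩
    refine ⟨a + a', W.add_mem ha ha', b + b', W.add_mem hb hb', c + c', W.add_mem hc hc',
      ?_, ?_, ?_⟩
    · have : ξ * (a + a') * ξ = ξ * a * ξ + ξ * a' * ξ := by noncomm_ring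
      rw [this]; exact W.add_mem h1 h1'
    · have : (a + a') * ξ - ξ * (a + a') - ξ * (b + b') * ξ
          = (a * ξ - ξ * a - ξ * b * ξ) + (a' * ξ - ξ * a' - ξ * b' * ξ) := by noncomm_ring
      rw [this]; exact W.add_mem h2 h2'
    · noncomm_ring
  neg_mem' := by
    rintro _ ⟨a, ha, b, hb, c, hc, h1, h2, rfl⟩
    refine ⟨-a, W.neg_mem ha, -b, W.neg_mem hb, -c, W.neg_mem hc, ?_, ?_, ?_⟩
    · have : ξ * (-a) * ξ = -(ξ * a * ξ) := by noncomm_ring
      rw [this]; exact W.neg_mem h1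
    · have : (-a) * ξ - ξ * (-a) - ξ * (-b) * ξ = -(a * ξ - ξ * a - ξ * b * ξ) := by
        noncomm_ring
      rw [this]; exact W.neg_mem h2
    · noncomm_ring

theorem mem_lim {W : AddSubgroup R} {ξ l : R} :
    l ∈ lim W ξ ↔ ∃ a ∈ W, ∃ b ∈ W, ∃ c ∈ W, ξ * a * ξ ∈ W ∧
      a * ξ - ξ * a - ξ * b * ξ ∈ W ∧ l = a + b * ξ - ξ * b - ξ * c * ξ := Iff.rfl

/-- A subgroup of units is *quadratic* when `(a - 1) * (a' - 1) = 0` for all its elements. -/
def Quad (A : Subgroup Rˣ) : Prop :=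
  ∀ a ∈ A, ∀ a' ∈ A, ((a : R) - 1) * ((a' : R) - 1) = 0

/-- The additive subgroup `A - 1` of a quadratic subgroup of units. -/
def addSub (A : Subgroup Rˣ) (hA : Quad A) : AddSubgroup R where
  carrier := {r | ∃ a ∈ A, (a : R) - 1 = r}
  zero_mem' := ⟨1, A.one_mem, by simp⟩
  add_mem' := by
    rintro _ _ ⟨a, ha, rfl⟩ ⟨a', ha', rfl⟩
    refine ⟨a * a', A.mul_mem ha ha', ?_⟩
    have h := hA a ha a' ha'
    have e : (a : R) * (a' : R) - 1
        = ((a : R) - 1) + ((a' : R) - 1) + ((a : R) - 1) * ((a' : R) - 1) := by noncomm_ring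
    rw [Units.val_mul, e, h, add_zero]
  neg_mem' := by
    rintro _ ⟨a, ha, rfl⟩
    refine ⟨a⁻¹, A.inv_mem ha, ?_⟩
    have h := hA a ha a⁻¹ (A.inv_mem ha)
    have e : (a : R) * ((a⁻¹ : Rˣ) : R) = 1 := by simp
    have e2 : ((a : R) - 1) * (((a⁻¹ : Rˣ) : R) - 1)
        = (a : R) * ((a⁻¹ : Rˣ) : R) - (a : R) - ((a⁻¹ : Rˣ) : R) + 1 := by noncomm_ring
    rw [e2, e] at h
    have e3 : ((a⁻¹ : Rˣ) : R) - 1 = -((a : R) - 1) - (1 - (a : R) - ((a⁻¹ : Rˣ) : R) + 1) := by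
      noncomm_ring
    rw [e3, h, sub_zero]

theorem mem_addSub {A : Subgroup Rˣ} {hA : Quad A} {r : R} :
    r ∈ addSub A hA ↔ ∃ a ∈ A, (a : R) - 1 = r := Iff.rfl

/-- The subgroup of units `1 + L` of an additive subgroup with `L * L = 0`. -/
def unitsOf (L : AddSubgroup R) (hL : ∀ l ∈ L, ∀ l' ∈ L, l * l' = 0) : Subgroup Rˣ where
  carrier := {u | (u : R) - 1 ∈ L}
  one_mem' := by simp
  mul_mem' := by
    intro u u' hu hu'
    have h := hL _ hu _ hu'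
    have e : ((u * u' : Rˣ) : R) - 1
        = ((u : R) - 1) + ((u' : R) - 1) + ((u : R) - 1) * ((u' : R) - 1) := by
      rw [Units.val_mul]; noncomm_ring
    show ((u * u' : Rˣ) : R) - 1 ∈ L
    rw [e, h, add_zero]
    exact L.add_mem hu hu'
  inv_mem' := by
    intro u hu
    have h := hL _ hu _ hu
    have e : ((u⁻¹ : Rˣ) : R) * (u : R) = 1 := by simp
    have e2 : ((u⁻¹ : Rˣ) : R) * (((u : R) - 1) * ((u : R) - 1))
        = (((u⁻¹ : Rˣ) : R) * (u : R)) * (u : R) - 2 * (((u⁻¹ : Rˣ) : R) * (u : R))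
          + ((u⁻¹ : Rˣ) : R) := by noncomm_ring
    rw [h, mul_zero, e] at e2
    have e3 : ((u⁻¹ : Rˣ) : R) - 1 = -((u : R) - 1) + (1 * (u : R) - 2 * 1 + ((u⁻¹ : Rˣ) : R)) := by
      noncomm_ring
    show ((u⁻¹ : Rˣ) : R) - 1 ∈ L
    rw [e3, ← e2, add_zero]
    exact L.neg_mem hu

theorem mem_unitsOf {L : AddSubgroup R} {hL : ∀ l ∈ L, ∀ l' ∈ L, l * l' = 0} {u : Rˣ} :
    u ∈ unitsOf L hL ↔ (u : R) - 1 ∈ L := Iff.rfl

/-- The potential of a subgroup of units with respect to a filtration `E`. -/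
noncomputable def pot (E : ℕ → AddSubgroup R) (n : ℕ) (A : Subgroup Rˣ) : ℕ :=
  ∑ i ∈ Finset.range n, Nat.card {a : Rˣ // a ∈ A ∧ (a : R) - 1 ∈ E i}

/-- The fixed points of a group of additive automorphisms. -/
def Fix {V : Type*} [AddCommGroup V] (A : Subgroup (AddMonoid.End V)ˣ) : Set V :=
  {v | ∀ a ∈ A, ((a : (AddMonoid.End V)ˣ) : AddMonoid.End V) v = v}

/-- `AddMonoid.End V` is finite for finite `V`. -/
instance finiteEnd {V : Type*} [AddCommGroup V] [Finite V] : Finite (AddMonoid.End V) :=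
  Finite.of_injective (fun f : AddMonoid.End V => (f : V → V)) DFunLike.coe_injective

end Cfsg.Agent.Lib.helper74.QO
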