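import Mathlib
import Cfsg.Prelude.Def_OddOrderLocal
import Cfsg.Agent.Lib.helper69.BGKappaA
import Cfsg.Agent.Lib.helper71.BGTenA
import Cfsg.Agent.S1350

/-!
# A step of the pair lemma of Bender–Glauberman 14.7

If a non-identity element `x` of a Hall `κ(M)`-subgroup `K` lies in `N_σ`, and `σ(M)`, `σ(N)` are
disjoint, then `M_σ ∩ N ≤ C_{M_σ}(K)`.
-/

namespace Cfsg.Agent.Lib.helper74.BGPairA

open Cfsg Subgroup

variable {G : Type*} [Group G]

/-- `M_σ ∩ N_σ = 1` when `σ(M)` and `σ(N)` are disjoint. -/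
theorem sigmaCore_inf_sigmaCore [Finite G] (hG : IsMinSimpleOddOrder G)
    (M N : Subgroup G) (hM : IsCoatom M) (hN : IsCoatom N)
    (hdisj : ∀ p : ℕ, p ∈ sigma M → p ∉ sigma N) : sigmaCore M ⊓ sigmaCore N = ⊥ := by
  have hHM := (Cfsg.Agent.S1350.result hG M hM).1
  have hHN := (Cfsg.Agent.S1350.result hG N hN).1
  rw [Subgroup.eq_bot_iff_forall]
  intro c hc
  by_contra hc1
  have hoc : orderOf c ≠ 1 := by rwa [Ne, orderOf_eq_one_iff]
  obtain ⟨p, hp, hpc⟩ := Nat.exists_prime_and_dvd hoc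
  have h1 : p ∈ sigma M :=
    hHM.2.1 p hp (hpc.trans (Subgroup.orderOf_dvd_natCard _ hc.1))
  have h2 : p ∈ sigma N :=
    hHN.2.1 p hp (hpc.trans (Subgroup.orderOf_dvd_natCard _ hc.2))
  exact hdisj p h1 h2

/-- (P5) of the pair lemma: `M_σ ∩ N ≤ C_{M_σ}(K)`; with `C_{M_σ}(K) ≤ N` this is an equality. -/
theorem sigmaCore_inf_le [Finite G] (hG : IsMinSimpleOddOrder G)
    (h30 : Cfsg.Agent.Lib.helper69.H1430 G)
    (M N : Subgroup G) (hM : IsCoatom M) (hN : IsCoatom N)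
    (K : Subgroup G) (hK : IsPiHallOf (kappa M) K M) (hK1 : K ≠ ⊥)
    (x : G) (hxK : x ∈ K) (hx1 : x ≠ 1) (hxN : x ∈ sigmaCore N)
    (hdisj : ∀ p : ℕ, p ∈ sigma M → p ∉ sigma N) :
    sigmaCore M ⊓ N ≤ sigmaCore M ⊓ centralizer (K : Set G) := by
  have hbot := sigmaCore_inf_sigmaCore hG M N hM hN hdisj
  rw [← (h30 M hM K hK hK1).1 x hxK hx1]
  intro d hd
  refine Subgroup.mem_inf.mpr ⟨hd.1, ?_⟩
  have hxM : x ∈ M := hK.1 hxK
  -- the commutator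
  have hcM : d * (x * d⁻¹ * x⁻¹) ∈ sigmaCore M := by
    refine (sigmaCore M).mul_mem hd.1 ?_
    have := (mem_normalizer_iff.mp (Cfsg.Agent.Lib.helper71.BGA.le_normalizer_sigmaCore M hxM)
      d⁻¹).mp ((sigmaCore M).inv_mem hd.1)
    exact this
  have hcN : (d * x * d⁻¹) * x⁻¹ ∈ sigmaCore N := by
    refine (sigmaCore N).mul_mem ?_ ((sigmaCore N).inv_mem hxN)
    exact (mem_normalizer_iff.mp (Cfsg.Agent.Lib.helper71.BGA.le_normalizer_sigmaCore N hd.2)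
      x).mp hxN
  have hc : d * x * d⁻¹ * x⁻¹ ∈ sigmaCore M ⊓ sigmaCore N := by
    refine ⟨?_, hcN⟩
    have e : d * x * d⁻¹ * x⁻¹ = d * (x * d⁻¹ * x⁻¹) := by group
    rw [e]; exact hcM
  rw [hbot, mem_bot] at hc
  rw [mem_centralizer_iff]
  intro y hy
  rw [Set.mem_singleton_iff] at hy
  subst hy
  have : d * y = y * d := by
    have e : d * y = (d * y * d⁻¹ * y⁻¹) * (y * d) := by group
    rw [e, hc, one_mul]
  exact this.symm

/-- (P5), equality form. -/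
theorem sigmaCore_inf_eq [Finite G] (hG : IsMinSimpleOddOrder G)
    (h30 : Cfsg.Agent.Lib.helper69.H1430 G)
    (M N : Subgroup G) (hM : IsCoatom M) (hN : IsCoatom N)
    (K : Subgroup G) (hK : IsPiHallOf (kappa M) K M) (hK1 : K ≠ ⊥)
    (x : G) (hxK : x ∈ K) (hx1 : x ≠ 1) (hxN : x ∈ sigmaCore N)
    (hdisj : ∀ p : ℕ, p ∈ sigma M → p ∉ sigma N)
    (hKsN : sigmaCore M ⊓ centralizer (K : Set G) ≤ N) :
    sigmaCore M ⊓ N = sigmaCore M ⊓ centralizer (K : Set G) :=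
  le_antisymm (sigmaCore_inf_le hG h30 M N hM hN K hK hK1 x hxK hx1 hxN hdisj)
    (le_inf inf_le_left hKsN)

end Cfsg.Agent.Lib.helper74.BGPairA
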