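import Mathlib

/-!
# Groups of exponent six: the module computation

`exp6_alg`: the formal identity behind the Hall--Higman argument for groups of exponent `6`.
On a commutative group `Y` of exponent `3`, let `X` be an operator "of order three" and `T0, T1, T2`
three commuting involutive operators cyclically permuted by `X`. If `1 + g + g^2 = 0` for
`g = X` and for its three conjugates `T_i X T_i`, then `T0 T1` acts trivially.
-/

namespace Cfsg.Agent.Lib.helper74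

theorem exp6_alg {Y : Type*} [Group Y] (hcomm : ∀ u v : Y, u * v = v * u) (h3 : ∀ u : Y, u ^ 3 = 1)
    (X T0 T1 T2 : Y → Y)
    (h00 : ∀ u, T0 (T0 u) = u) (h11 : ∀ u, T1 (T1 u) = u) (h22 : ∀ u, T2 (T2 u) = u)
    (h10 : ∀ u, T1 (T0 u) = T0 (T1 u)) (h20 : ∀ u, T2 (T0 u) = T0 (T2 u))
    (h21 : ∀ u, T2 (T1 u) = T1 (T2 u))
    (hX0 : ∀ u, X (T0 u) = T1 (X u)) (hX1 : ∀ u, X (T1 u) = T2 (X u))
    (hX2 : ∀ u, X (T2 u) = T0 (X u))
    (R0 : ∀ w, X w * X (X w) * w = 1)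
    (R1 : ∀ w, T0 (T1 (X w)) * T0 (T2 (X (X w))) * w = 1)
    (R2 : ∀ w, T1 (T2 (X w)) * T0 (T1 (X (X w))) * w = 1)
    (R3 : ∀ w, T0 (T2 (X w)) * T1 (T2 (X (X w))) * w = 1) (w : Y) :
    T0 (T1 w) = w := by
  letI : CommGroup Y := { (inferInstance : Group Y) with mul_comm := hcomm }
  have e4 : ∀ u : Y, u ^ 4 = u := fun u => by rw [pow_succ, h3, one_mul]
  have key : ∀ w, (X w * T0 (T1 (X w)) * T1 (T2 (X w)) * T0 (T2 (X w))) *
      (X (X w) * T0 (T1 (X (X w))) * T1 (T2 (X (X w))) * T0 (T2 (X (X w)))) * w = 1 := by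
    intro w
    have e : (X w * T0 (T1 (X w)) * T1 (T2 (X w)) * T0 (T2 (X w))) *
        (X (X w) * T0 (T1 (X (X w))) * T1 (T2 (X (X w))) * T0 (T2 (X (X w)))) * w ^ 4
        = (X w * X (X w) * w) * (T0 (T1 (X w)) * T0 (T2 (X (X w))) * w) *
          (T1 (T2 (X w)) * T0 (T1 (X (X w))) * w) * (T0 (T2 (X w)) * T1 (T2 (X (X w))) * w) := by
      simp only [pow_succ, pow_zero, one_mul]
      ac_rfl
    rw [e4, R0, R1, R2, R3] at e
    simpa using e
  have k1 := key w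
  have k2 := key (T0 (T1 w))
  simp only [hX0, hX1, hX2, h00, h11, h22, h10, h20, h21] at k2
  refine mul_left_cancel (Eq.trans ?_ k1.symm)
  rw [← k2]
  ac_rfl

end Cfsg.Agent.Lib.helper74
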