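import Mathlib
import Cfsg.Agent.Lib.helper74.Exp6Alg
import Cfsg.Agent.Lib.helper66.PLengthSeries

/-!
# Groups of exponent six: the key centralizing lemma

`exp6_core`: let `V` be a normal subgroup of the finite group `H` such that every cube lying in `V`
is trivial (so `V` has exponent `3`). If `x` has order `3` modulo `V`, `t` is an involution modulo
`V` and `t` commutes modulo `V` with its conjugate `x t x⁻¹`, then some `3`-power of
`a = t · x t x⁻¹` centralizes `V`.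
-/

namespace Cfsg.Agent.Lib.helper74

universe u

/-- `1 + g + g^2 = 0` on `V` for an element `g` whose cube lies in `V`. -/
theorem exp6_rel {H : Type*} [Group H] (V : Subgroup H) [V.Normal]
    (h3 : ∀ g : H, g ^ 3 ∈ V → g ^ 3 = 1) (g : H) (hg : g ^ 3 ∈ V) (w : H) (hw : w ∈ V) :
    (g * w * g⁻¹) * (g * (g * w * g⁻¹) * g⁻¹) * w = 1 := by
  have h1 : g ^ 3 = 1 := h3 g hg
  have h2 : (g * w) ^ 3 = 1 := by
    apply h3
    have e : ((g * w : H) : H ⧸ V) = (g : H ⧸ V) := by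
      rw [QuotientGroup.mk_mul, (QuotientGroup.eq_one_iff w).mpr hw, mul_one]
    rw [← QuotientGroup.eq_one_iff, QuotientGroup.mk_pow, e, ← QuotientGroup.mk_pow,
      QuotientGroup.eq_one_iff]
    exact hg
  have h5 : g⁻¹ * g⁻¹ = g := by
    calc g⁻¹ * g⁻¹ = g⁻¹ * g⁻¹ * g ^ 3 := by rw [h1, mul_one]
      _ = g := by group
  calc (g * w * g⁻¹) * (g * (g * w * g⁻¹) * g⁻¹) * w
      = g * w * (g * w) * (g⁻¹ * g⁻¹) * w := by group
    _ = (g * w) ^ 3 := by rw [h5]; simp only [pow_succ, pow_zero, one_mul, mul_assoc]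
    _ = 1 := h2

/-- Conjugation by `g` on a normal subgroup `Z`. -/
def conjOn {H : Type*} [Group H] (Z : Subgroup H) [hZ : Z.Normal] (g : H) (z : Z) : Z :=
  ⟨g * z.1 * g⁻¹, hZ.conj_mem z.1 z.2 g⟩

theorem conjOn_mul {H : Type*} [Group H] (Z : Subgroup H) [hZ : Z.Normal] (g h : H) (z : Z) :
    conjOn Z (g * h) z = conjOn Z g (conjOn Z h z) := by
  apply Subtype.ext
  show g * h * z.1 * (g * h)⁻¹ = g * (h * z.1 * h⁻¹) * g⁻¹
  group

/-- Identities in a group with `A^3 = 1`, `B^2 = 1` and `B` commuting with `A B A⁻¹`. -/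
theorem exp6_quot_rules {Q : Type*} [Group Q] (A B : Q) (hA : A ^ 3 = 1) (hB : B ^ 2 = 1)
    (hC : B * (A * B * A⁻¹) = (A * B * A⁻¹) * B) :
    B * B = 1 ∧ (A * B * A⁻¹) * (A * B * A⁻¹) = 1 ∧
    (A * (A * B * A⁻¹) * A⁻¹) * (A * (A * B * A⁻¹) * A⁻¹) = 1 ∧
    (A * B * A⁻¹) * B = B * (A * B * A⁻¹) ∧
    (A * (A * B * A⁻¹) * A⁻¹) * B = B * (A * (A * B * A⁻¹) * A⁻¹) ∧
    (A * (A * B * A⁻¹) * A⁻¹) * (A * B * A⁻¹) = (A * B * A⁻¹) * (A * (A * B * A⁻¹) * A⁻¹) ∧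
    A * B = (A * B * A⁻¹) * A ∧ A * (A * B * A⁻¹) = (A * (A * B * A⁻¹) * A⁻¹) * A ∧
    A * (A * (A * B * A⁻¹) * A⁻¹) = B * A ∧
    (∀ U : Q, U * U = 1 → (U * A * U) ^ 3 = 1) := by
  have hA3 : A * A * A = 1 := by rw [← hA]; simp only [pow_succ, pow_zero, one_mul]
  have hB2 : B * B = 1 := by rw [← hB]; simp only [pow_succ, pow_zero, one_mul]
  have h11 : (A * B * A⁻¹) * (A * B * A⁻¹) = 1 := by
    calc (A * B * A⁻¹) * (A * B * A⁻¹) = A * (B * B) * A⁻¹ := by group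
      _ = 1 := by rw [hB2]; group
  have h22 : (A * (A * B * A⁻¹) * A⁻¹) * (A * (A * B * A⁻¹) * A⁻¹) = 1 := by
    calc (A * (A * B * A⁻¹) * A⁻¹) * (A * (A * B * A⁻¹) * A⁻¹)
        = A * A * (B * B) * A⁻¹ * A⁻¹ := by group
      _ = 1 := by rw [hB2]; group
  have h21 : (A * (A * B * A⁻¹) * A⁻¹) * (A * B * A⁻¹)
      = (A * B * A⁻¹) * (A * (A * B * A⁻¹) * A⁻¹) := by
    calc (A * (A * B * A⁻¹) * A⁻¹) * (A * B * A⁻¹) = A * ((A * B * A⁻¹) * B) * A⁻¹ := by group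
      _ = A * (B * (A * B * A⁻¹)) * A⁻¹ := by rw [← hC]
      _ = (A * B * A⁻¹) * (A * (A * B * A⁻¹) * A⁻¹) := by group
  have hB' : A * (A * (A * B * A⁻¹) * A⁻¹) * A⁻¹ = B := by
    calc A * (A * (A * B * A⁻¹) * A⁻¹) * A⁻¹ = (A * A * A) * B * (A * A * A)⁻¹ := by group
      _ = B := by rw [hA3]; group
  have h20 : (A * (A * B * A⁻¹) * A⁻¹) * B = B * (A * (A * B * A⁻¹) * A⁻¹) := by
    have e : (A * (A * (A * B * A⁻¹) * A⁻¹) * A⁻¹) * (A * (A * B * A⁻¹) * A⁻¹)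
        = (A * (A * B * A⁻¹) * A⁻¹) * (A * (A * (A * B * A⁻¹) * A⁻¹) * A⁻¹) := by
      calc (A * (A * (A * B * A⁻¹) * A⁻¹) * A⁻¹) * (A * (A * B * A⁻¹) * A⁻¹)
          = A * ((A * (A * B * A⁻¹) * A⁻¹) * (A * B * A⁻¹)) * A⁻¹ := by group
        _ = A * ((A * B * A⁻¹) * (A * (A * B * A⁻¹) * A⁻¹)) * A⁻¹ := by rw [h21]
        _ = (A * (A * B * A⁻¹) * A⁻¹) * (A * (A * (A * B * A⁻¹) * A⁻¹) * A⁻¹) := by group
    rw [hB'] at e
    exact e.symm
  have hX2 : A * (A * (A * B * A⁻¹) * A⁻¹) = B * A := by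
    calc A * (A * (A * B * A⁻¹) * A⁻¹) = (A * A * A) * B * (A * A * A)⁻¹ * A := by group
      _ = B * A := by rw [hA3]; group
  refine ⟨hB2, h11, h22, hC.symm, h20, h21, by group, by group, hX2, ?_⟩
  intro U hU
  calc (U * A * U) ^ 3 = U * A * (U * U) * A * (U * U) * A * U := by
        simp only [pow_succ, pow_zero, one_mul, mul_assoc]
    _ = U * (A * A * A) * U := by rw [hU]; simp only [mul_one, mul_assoc]
    _ = 1 := by rw [hA3, mul_one, hU]

/-- The key lemma, by induction on the order of `V`. -/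
theorem exp6_core_aux : ∀ (n : ℕ) (H : Type u) [Group H] [Finite H] (V : Subgroup H) [V.Normal],
    Nat.card V = n → (∀ g : H, g ^ 3 ∈ V → g ^ 3 = 1) →
    ∀ x t : H, x ^ 3 ∈ V → t ^ 2 ∈ V → t * (x * t * x⁻¹) * t⁻¹ * (x * t * x⁻¹)⁻¹ ∈ V →
    ∃ K : ℕ, ∀ v ∈ V, (t * (x * t * x⁻¹)) ^ 3 ^ K * v = v * (t * (x * t * x⁻¹)) ^ 3 ^ K := by
  intro n
  induction n using Nat.strong_induction_on with
  | _ n ih =>
  intro H _ _ V hVnormal hVn h3 x t hx ht hc
  by_cases hV : V = ⊥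
  · refine ⟨0, fun v hv => ?_⟩
    rw [hV, Subgroup.mem_bot] at hv
    rw [hv, mul_one, one_mul]
  -- the centre of `V`
  obtain ⟨Z, hZdef⟩ : ∃ Z : Subgroup H, Z = V ⊓ Subgroup.centralizer (V : Set H) := ⟨_, rfl⟩
  have hZn : Z.Normal := by rw [hZdef]; infer_instance
  have hZV : Z ≤ V := by rw [hZdef]; exact inf_le_left
  have hZC : Z ≤ Subgroup.centralizer (V : Set H) := by rw [hZdef]; exact inf_le_right
  have hV3 : ∀ v ∈ V, v ^ 3 = 1 := fun v hv => h3 v (V.pow_mem hv 3)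
  have hZne : Z ≠ ⊥ := by
    have hVp : IsPGroup 3 V := by
      intro v
      refine ⟨1, ?_⟩
      apply Subtype.ext
      rw [pow_one, Subgroup.coe_pow, Subgroup.coe_one]
      exact hV3 v.1 v.2
    have : Nontrivial V := (Subgroup.nontrivial_iff_ne_bot V).mpr hV
    have : Fact (Nat.Prime 3) := ⟨Nat.prime_three⟩
    have : Nontrivial (Subgroup.center V) := hVp.center_nontrivial
    obtain ⟨c, hc1⟩ := exists_ne (1 : Subgroup.center V)
    intro hbot
    have hcZ : (c.1 : H) ∈ Z := by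
      rw [hZdef]
      refine Subgroup.mem_inf.mpr ⟨c.1.2, ?_⟩
      rw [Subgroup.mem_centralizer_iff]
      intro v hv
      have := (Subgroup.mem_center_iff.mp c.2) ⟨v, hv⟩
      exact congrArg Subtype.val this
    rw [hbot, Subgroup.mem_bot] at hcZ
    apply hc1
    apply Subtype.ext
    apply Subtype.ext
    exact hcZ
  -- Step 1: `a` centralizes `Z`
  have step1 : ∀ z ∈ Z, (t * (x * t * x⁻¹)) * z = z * (t * (x * t * x⁻¹)) := by
    have cj_V : ∀ g h : H, (g : H ⧸ V) = (h : H ⧸ V) → ∀ z, conjOn Z g z = conjOn Z h z := by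
      intro g h hgh z
      apply Subtype.ext
      show g * z.1 * g⁻¹ = h * z.1 * h⁻¹
      have hv : h⁻¹ * g ∈ V := QuotientGroup.eq.mp hgh.symm
      have hz : z.1 ∈ Subgroup.centralizer (V : Set H) := hZC z.2
      have e := Subgroup.mem_centralizer_iff.mp hz (h⁻¹ * g) hv
      calc g * z.1 * g⁻¹ = h * ((h⁻¹ * g) * z.1) * g⁻¹ := by group
        _ = h * (z.1 * (h⁻¹ * g)) * g⁻¹ := by rw [e]
        _ = h * z.1 * h⁻¹ := by group
    have cj_one : ∀ z, conjOn Z (1 : H) z = z := by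
      intro z
      apply Subtype.ext
      show 1 * z.1 * (1 : H)⁻¹ = z.1
      group
    have cj2 : ∀ a b c d : H, ((a * b : H) : H ⧸ V) = ((c * d : H) : H ⧸ V) →
        ∀ u, conjOn Z a (conjOn Z b u) = conjOn Z c (conjOn Z d u) := by
      intro a b c d h u
      rw [← conjOn_mul, ← conjOn_mul]
      exact cj_V _ _ h u
    have cj2' : ∀ a b : H, ((a * b : H) : H ⧸ V) = 1 →
        ∀ u, conjOn Z a (conjOn Z b u) = u := by
      intro a b h u
      rw [← conjOn_mul, cj_V (a * b) 1 (by rw [h]; rfl), cj_one]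
    have hqx : ((x : H ⧸ V)) ^ 3 = 1 := by
      rw [← QuotientGroup.mk_pow, QuotientGroup.eq_one_iff]; exact hx
    have hqt : ((t : H ⧸ V)) ^ 2 = 1 := by
      rw [← QuotientGroup.mk_pow, QuotientGroup.eq_one_iff]; exact ht
    have hqc : (t : H ⧸ V) * ((x : H ⧸ V) * (t : H ⧸ V) * (x : H ⧸ V)⁻¹)
        = ((x : H ⧸ V) * (t : H ⧸ V) * (x : H ⧸ V)⁻¹) * (t : H ⧸ V) := by
      have h1 : ((t * (x * t * x⁻¹) * t⁻¹ * (x * t * x⁻¹)⁻¹ : H) : H ⧸ V) = 1 :=
        (QuotientGroup.eq_one_iff _).mpr hc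
      simp only [QuotientGroup.mk_mul, QuotientGroup.mk_inv] at h1
      have h2 := mul_eq_one_iff_eq_inv.mp h1
      rw [inv_inv] at h2
      have h3' := mul_inv_eq_iff_eq_mul.mp h2
      exact h3'
    obtain ⟨r00, r11, r22, r10, r20, r21, rX0, rX1, rX2, rU⟩ :=
      exp6_quot_rules (x : H ⧸ V) (t : H ⧸ V) hqx hqt hqc
    have rel : ∀ g : H, ((g : H ⧸ V)) ^ 3 = 1 → ∀ w : Z,
        conjOn Z g w * conjOn Z g (conjOn Z g w) * w = 1 := by
      intro g hg w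
      apply Subtype.ext
      have hg' : g ^ 3 ∈ V := by
        rw [← QuotientGroup.eq_one_iff, QuotientGroup.mk_pow]; exact hg
      exact exp6_rel V h3 g hg' w.1 (hZV w.2)
    have h00 : ∀ u, conjOn Z t (conjOn Z t u) = u :=
      cj2' t t (by rw [QuotientGroup.mk_mul]; exact r00)
    have h11 : ∀ u, conjOn Z (x * t * x⁻¹) (conjOn Z (x * t * x⁻¹) u) = u :=
      cj2' _ _ (by simp only [QuotientGroup.mk_mul, QuotientGroup.mk_inv]; exact r11)
    have h22 : ∀ u, conjOn Z (x * (x * t * x⁻¹) * x⁻¹) (conjOn Z (x * (x * t * x⁻¹) * x⁻¹) u) = u :=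
      cj2' _ _ (by simp only [QuotientGroup.mk_mul, QuotientGroup.mk_inv]; exact r22)
    have h10 : ∀ u, conjOn Z (x * t * x⁻¹) (conjOn Z t u) = conjOn Z t (conjOn Z (x * t * x⁻¹) u) :=
      cj2 _ _ _ _ (by simp only [QuotientGroup.mk_mul, QuotientGroup.mk_inv]; exact r10)
    have h20 : ∀ u, conjOn Z (x * (x * t * x⁻¹) * x⁻¹) (conjOn Z t u)
        = conjOn Z t (conjOn Z (x * (x * t * x⁻¹) * x⁻¹) u) :=
      cj2 _ _ _ _ (by simp only [QuotientGroup.mk_mul, QuotientGroup.mk_inv]; exact r20)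
    have h21 : ∀ u, conjOn Z (x * (x * t * x⁻¹) * x⁻¹) (conjOn Z (x * t * x⁻¹) u)
        = conjOn Z (x * t * x⁻¹) (conjOn Z (x * (x * t * x⁻¹) * x⁻¹) u) :=
      cj2 _ _ _ _ (by simp only [QuotientGroup.mk_mul, QuotientGroup.mk_inv]; exact r21)
    have hX0 : ∀ u, conjOn Z x (conjOn Z t u) = conjOn Z (x * t * x⁻¹) (conjOn Z x u) :=
      cj2 _ _ _ _ (by simp only [QuotientGroup.mk_mul, QuotientGroup.mk_inv]; exact rX0)
    have hX1 : ∀ u, conjOn Z x (conjOn Z (x * t * x⁻¹) u)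
        = conjOn Z (x * (x * t * x⁻¹) * x⁻¹) (conjOn Z x u) :=
      cj2 _ _ _ _ (by simp only [QuotientGroup.mk_mul, QuotientGroup.mk_inv]; exact rX1)
    have hX2 : ∀ u, conjOn Z x (conjOn Z (x * (x * t * x⁻¹) * x⁻¹) u) = conjOn Z t (conjOn Z x u) :=
      cj2 _ _ _ _ (by simp only [QuotientGroup.mk_mul, QuotientGroup.mk_inv]; exact rX2)
    have R0 : ∀ w, conjOn Z x w * conjOn Z x (conjOn Z x w) * w = 1 := rel x hqx
    have R1 : ∀ w, conjOn Z t (conjOn Z (x * t * x⁻¹) (conjOn Z x w)) *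
        conjOn Z t (conjOn Z (x * (x * t * x⁻¹) * x⁻¹) (conjOn Z x (conjOn Z x w))) * w = 1 := by
      intro w
      have h := rel (t * x * t) (by
        simp only [QuotientGroup.mk_mul]; exact rU _ r00) w
      simpa only [conjOn_mul Z (t * x) t, conjOn_mul Z t x, hX0, hX1, hX2, h00, h11, h22, h10, h20,
        h21] using h
    have R2 : ∀ w, conjOn Z (x * t * x⁻¹) (conjOn Z (x * (x * t * x⁻¹) * x⁻¹) (conjOn Z x w)) *
        conjOn Z t (conjOn Z (x * t * x⁻¹) (conjOn Z x (conjOn Z x w))) * w = 1 := by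
      intro w
      have h := rel ((x * t * x⁻¹) * x * (x * t * x⁻¹)) (by
        simp only [QuotientGroup.mk_mul, QuotientGroup.mk_inv]; exact rU _ r11) w
      simpa only [conjOn_mul Z ((x * t * x⁻¹) * x) (x * t * x⁻¹), conjOn_mul Z (x * t * x⁻¹) x,
        hX0, hX1, hX2, h00, h11, h22, h10, h20, h21] using h
    have R3 : ∀ w, conjOn Z t (conjOn Z (x * (x * t * x⁻¹) * x⁻¹) (conjOn Z x w)) *
        conjOn Z (x * t * x⁻¹) (conjOn Z (x * (x * t * x⁻¹) * x⁻¹) (conjOn Z x (conjOn Z x w))) * w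
        = 1 := by
      intro w
      have h := rel ((x * (x * t * x⁻¹) * x⁻¹) * x * (x * (x * t * x⁻¹) * x⁻¹)) (by
        simp only [QuotientGroup.mk_mul, QuotientGroup.mk_inv]; exact rU _ r22) w
      simpa only [conjOn_mul Z ((x * (x * t * x⁻¹) * x⁻¹) * x) (x * (x * t * x⁻¹) * x⁻¹),
        conjOn_mul Z (x * (x * t * x⁻¹) * x⁻¹) x,
        hX0, hX1, hX2, h00, h11, h22, h10, h20, h21] using h
    have hcommZ : ∀ u v : Z, u * v = v * u := by
      intro u v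
      apply Subtype.ext
      exact Subgroup.mem_centralizer_iff.mp (hZC v.2) u.1 (hZV u.2)
    have hZ3 : ∀ u : Z, u ^ 3 = 1 := by
      intro u
      apply Subtype.ext
      rw [Subgroup.coe_pow, Subgroup.coe_one]
      exact hV3 u.1 (hZV u.2)
    have main := exp6_alg hcommZ hZ3 (conjOn Z x) (conjOn Z t) (conjOn Z (x * t * x⁻¹))
      (conjOn Z (x * (x * t * x⁻¹) * x⁻¹)) h00 h11 h22 h10 h20 h21 hX0 hX1 hX2 R0 R1 R2 R3
    intro z hz
    have e := congrArg Subtype.val (main ⟨z, hz⟩)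
    have e' : t * ((x * t * x⁻¹) * z * (x * t * x⁻¹)⁻¹) * t⁻¹ = z := e
    calc (t * (x * t * x⁻¹)) * z
        = (t * ((x * t * x⁻¹) * z * (x * t * x⁻¹)⁻¹) * t⁻¹) * (t * (x * t * x⁻¹)) := by group
      _ = z * (t * (x * t * x⁻¹)) := by rw [e']
  -- Step 2: induction in `H ⧸ Z`
  have hZcard : 1 < Nat.card Z := Z.one_lt_card_iff_ne_bot.mpr hZne
  have hlt : Nat.card (V.map (QuotientGroup.mk' Z)) < n := by
    rw [Cfsg.Agent.Lib.helper66.card_map_mk'_eq_relIndex Z V, ← hVn]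
    have h1 := Subgroup.relIndex_mul_relIndex (⊥ : Subgroup H) Z V bot_le hZV
    rw [Subgroup.relIndex_bot_left, Subgroup.relIndex_bot_left] at h1
    have hpos : 0 < Nat.card V := Nat.card_pos
    have hr : 0 < Z.relIndex V := by
      rcases Nat.eq_zero_or_pos (Z.relIndex V) with h0 | h0
      · rw [h0, mul_zero] at h1; omega
      · exact h0
    nlinarith
  have hV'n : (V.map (QuotientGroup.mk' Z)).Normal :=
    Subgroup.Normal.map hVnormal _ (QuotientGroup.mk'_surjective Z)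
  have h3' : ∀ g : H ⧸ Z, g ^ 3 ∈ V.map (QuotientGroup.mk' Z) → g ^ 3 = 1 := by
    intro g' hg'
    obtain ⟨g, rfl⟩ := QuotientGroup.mk'_surjective Z g'
    rw [← map_pow] at hg' ⊢
    have hmem : g ^ 3 ∈ (V.map (QuotientGroup.mk' Z)).comap (QuotientGroup.mk' Z) := hg'
    rw [Subgroup.comap_map_eq, QuotientGroup.ker_mk', sup_eq_left.mpr hZV] at hmem
    rw [h3 g hmem, map_one]
  have hx' : (QuotientGroup.mk' Z x) ^ 3 ∈ V.map (QuotientGroup.mk' Z) := by
    rw [← map_pow]; exact Subgroup.mem_map_of_mem _ hx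
  have ht' : (QuotientGroup.mk' Z t) ^ 2 ∈ V.map (QuotientGroup.mk' Z) := by
    rw [← map_pow]; exact Subgroup.mem_map_of_mem _ ht
  have hc' : (QuotientGroup.mk' Z t) * ((QuotientGroup.mk' Z x) * (QuotientGroup.mk' Z t) *
      (QuotientGroup.mk' Z x)⁻¹) * (QuotientGroup.mk' Z t)⁻¹ * ((QuotientGroup.mk' Z x) *
      (QuotientGroup.mk' Z t) * (QuotientGroup.mk' Z x)⁻¹)⁻¹ ∈ V.map (QuotientGroup.mk' Z) := by
    have := Subgroup.mem_map_of_mem (QuotientGroup.mk' Z) hc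
    simpa only [map_mul, map_inv] using this
  obtain ⟨K, hK⟩ := ih _ hlt (H ⧸ Z) (V.map (QuotientGroup.mk' Z)) rfl h3' _ _ hx' ht' hc'
  -- Step 3
  refine ⟨K + 1, fun v hv => ?_⟩
  obtain ⟨d, hd⟩ : ∃ d : H, d = (t * (x * t * x⁻¹)) ^ 3 ^ K := ⟨_, rfl⟩
  have hpow : (t * (x * t * x⁻¹)) ^ 3 ^ (K + 1) = d ^ 3 := by
    rw [hd, ← pow_mul, pow_succ]
  rw [hpow]
  have hq : QuotientGroup.mk' Z (d * v) = QuotientGroup.mk' Z (v * d) := by
    have := hK (QuotientGroup.mk' Z v) (Subgroup.mem_map_of_mem _ hv)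
    rw [hd]
    simpa only [map_mul, map_inv, map_pow] using this
  obtain ⟨z, hzdef⟩ : ∃ z : H, z = d * v * d⁻¹ * v⁻¹ := ⟨_, rfl⟩
  have hzZ : z ∈ Z := by
    have h1 : QuotientGroup.mk' Z z = 1 := by
      have e : z = (d * v) * (v * d)⁻¹ := by rw [hzdef]; group
      rw [e, map_mul, hq, map_inv, mul_inv_cancel]
    exact (QuotientGroup.eq_one_iff z).mp h1
  have hdz : Commute d z := by
    rw [hd]
    exact Commute.pow_left (step1 z hzZ) _
  have hz3 : z ^ 3 = 1 := hV3 z (hZV hzZ)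
  have hdv : d * v = z * v * d := by rw [hzdef]; group
  have gen : ∀ k : ℕ, d ^ k * v = z ^ k * v * d ^ k := by
    intro k
    induction k with
    | zero => simp
    | succ k ihk =>
      calc d ^ (k + 1) * v = d ^ k * (d * v) := by rw [pow_succ, mul_assoc]
        _ = d ^ k * (z * v * d) := by rw [hdv]
        _ = (d ^ k * z) * v * d := by simp only [mul_assoc]
        _ = (z * d ^ k) * v * d := by rw [(Commute.pow_left hdz k).eq]
        _ = z * (d ^ k * v) * d := by simp only [mul_assoc]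
        _ = z * (z ^ k * v * d ^ k) * d := by rw [ihk]
        _ = z ^ (k + 1) * v * d ^ (k + 1) := by
          rw [pow_succ' z k, pow_succ d k]; simp only [mul_assoc]
  rw [gen 3, hz3, one_mul]

end Cfsg.Agent.Lib.helper74
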