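import Mathlib
import Cfsg.Agent.Lib.helper74.Exp6Core
import Cfsg.Agent.Lib.helper66.PLengthSeries
import Cfsg.Agent.Lib.helper4.BurnsidePQ
import Cfsg.Agent.Lib.helper38.HallHigman
import Cfsg.Agent.Lib.helper53.PIrr
import Cfsg.Agent.Lib.helper40.Cores
import Cfsg.Agent.Lib.helper1.Hall

/-!
# Groups of exponent six have `2`-length and `3`-length at most one

Also of general use:
* `isPSolvable_of_normal_of_quotient`: an extension of a `p`-soluble group by a normal `p`-group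
  or `p'`-group is `p`-soluble;
* `isPSolvable_of_isSolvable`: a finite soluble group is `p`-soluble;
* `plength_one_of_index_coprime`: if `O_p(G/O_{p'}(G))` has index prime to `p` in `G/O_{p'}(G)`,
  then `G` has `p`-length at most one.
-/

namespace Cfsg.Agent.Lib.helper74

universe u

open Cfsg

/-- An extension of a `p`-soluble group by a normal `p`-group or `p'`-group is `p`-soluble. -/
theorem isPSolvable_of_normal_of_quotient {G : Type*} [Group G] (p : ℕ) (N : Subgroup G) [N.Normal]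
    (hN : (∃ m : ℕ, Nat.card N = p ^ m) ∨ (Nat.card N).Coprime p)
    (hQ : IsPSolvable p (G ⧸ N)) : IsPSolvable p G := by
  obtain ⟨n, H', h0, hlast, hmono, hnorm, hstep⟩ := hQ
  refine ⟨n + 1, Fin.cons ⊥ (fun i => (H' i).comap (QuotientGroup.mk' N)), ?_, ?_, ?_, ?_, ?_⟩
  · rfl
  · rw [← Fin.succ_last, Fin.cons_succ, hlast, Subgroup.comap_top]
  · rw [Fin.monotone_iff_le_succ]
    intro i
    refine Fin.cases ?_ (fun j => ?_) i
    · exact bot_le
    · rw [← Fin.succ_castSucc, Fin.cons_succ, Fin.cons_succ]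
      exact Subgroup.comap_mono (hmono (Fin.castSucc_lt_succ).le)
  · intro i
    refine Fin.cases ?_ (fun j => ?_) i
    · rw [Fin.cons_zero]; infer_instance
    · rw [Fin.cons_succ]; exact Subgroup.Normal.comap (hnorm j) _
  · intro i
    refine Fin.cases ?_ (fun j => ?_) i
    · have e1 : (Fin.cons ⊥ (fun i => (H' i).comap (QuotientGroup.mk' N)) :
          Fin (n + 2) → Subgroup G) (Fin.castSucc 0) = ⊥ := rfl
      have e2 : (Fin.cons ⊥ (fun i => (H' i).comap (QuotientGroup.mk' N)) :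
          Fin (n + 2) → Subgroup G) (Fin.succ 0) = N := by
        rw [Fin.cons_succ, h0, MonoidHom.comap_bot, QuotientGroup.ker_mk']
      rw [e1, e2, Subgroup.relIndex_bot_left]
      exact hN
    · have e1 : (Fin.cons ⊥ (fun i => (H' i).comap (QuotientGroup.mk' N)) :
          Fin (n + 2) → Subgroup G) (Fin.castSucc (Fin.succ j))
          = (H' j.castSucc).comap (QuotientGroup.mk' N) := by
        rw [← Fin.succ_castSucc, Fin.cons_succ]
      have e2 : (Fin.cons ⊥ (fun i => (H' i).comap (QuotientGroup.mk' N)) :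
          Fin (n + 2) → Subgroup G) (Fin.succ (Fin.succ j))
          = (H' j.succ).comap (QuotientGroup.mk' N) := by
        rw [Fin.cons_succ]
      rw [e1, e2, Subgroup.relIndex_comap,
        Subgroup.map_comap_eq_self_of_surjective (QuotientGroup.mk'_surjective N)]
      exact hstep j

theorem isPSolvable_of_isSolvable_aux (p : ℕ) [Fact p.Prime] :
    ∀ (n : ℕ) (G : Type u) [Group G] [Finite G],
    Nat.card G = n → Group.IsSolvable G → IsPSolvable p G := by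
  intro n
  induction n using Nat.strong_induction_on with
  | _ n ih =>
  intro G _ _ hn hsol
  rcases subsingleton_or_nontrivial G with hsub | hnt
  · exact ⟨0, fun _ => ⊥, rfl, (Subgroup.eq_bot_of_subsingleton ⊤).symm, monotone_const,
      fun _ => inferInstance, fun i => i.elim0⟩
  · obtain ⟨q, M, hq, hMn, hMne, hMq⟩ := Cfsg.Agent.Lib.helper1.exists_normal_pgroup (G := G)
    have hMcard : 1 < Nat.card M := M.one_lt_card_iff_ne_bot.mpr hMne
    have hcard := Subgroup.card_eq_card_quotient_mul_card_subgroup M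
    have hlt : Nat.card (G ⧸ M) < n := by
      have hpos : 0 < Nat.card (G ⧸ M) := Nat.card_pos
      rw [← hn, hcard]
      nlinarith
    have hQ := ih _ hlt (G ⧸ M) rfl inferInstance
    refine isPSolvable_of_normal_of_quotient p M ?_ hQ
    have : Fact q.Prime := ⟨hq⟩
    obtain ⟨m, hm⟩ := IsPGroup.iff_card.mp hMq
    by_cases hqp : q = p
    · left; exact ⟨m, by rw [hm, hqp]⟩
    · right
      rw [hm]
      exact Nat.Coprime.pow_left m ((Nat.coprime_primes hq Fact.out).mpr hqp)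

/-- A finite soluble group is `p`-soluble. -/
theorem isPSolvable_of_isSolvable (p : ℕ) [Fact p.Prime] {G : Type u} [Group G] [Finite G]
    (h : Group.IsSolvable G) : IsPSolvable p G :=
  isPSolvable_of_isSolvable_aux p _ G rfl h

/-- A finite group of exponent dividing `6` is soluble (Burnside). -/
theorem exp6_isSolvable {G : Type u} [Group G] [Finite G] (h : ∀ x : G, x ^ 6 = 1) :
    Group.IsSolvable G := by
  have hprime : ∀ q : ℕ, q.Prime → q ∣ Nat.card G → q = 2 ∨ q = 3 := by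
    intro q hq hdvd
    have : Fact q.Prime := ⟨hq⟩
    obtain ⟨x, hx⟩ := exists_prime_orderOf_dvd_card' q hdvd
    have h6 : q ∣ 6 := by rw [← hx]; exact orderOf_dvd_of_pow_eq_one (h x)
    have hle : q ≤ 6 := Nat.le_of_dvd (by norm_num) h6
    interval_cases q <;> revert hq h6 <;> decide
  obtain ⟨a, m, hm, hcard⟩ :=
    Nat.exists_eq_pow_mul_and_not_dvd (Nat.card_pos (α := G)).ne' 2 (by norm_num)
  have hm0 : m ≠ 0 := by rintro rfl; exact hm (dvd_zero 2)
  have hm3 : m = 3 ^ m.primeFactorsList.length := Nat.eq_prime_pow_of_unique_prime_dvd hm0 (by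
    intro d hd hdm
    rcases hprime d hd (hcard ▸ Dvd.dvd.mul_left hdm _) with h2 | h3
    · exact absurd (h2 ▸ hdm) hm
    · exact h3)
  rw [hm3] at hcard
  exact Cfsg.Agent.Lib.helper4.isSolvable_of_card_eq_prime_pow_mul_prime_pow 2 3 a _
    Nat.prime_two Nat.prime_three hcard

/-- If `O_p(G/O_{p'}(G))` has index prime to `p`, then `G` has `p`-length at most one. -/
theorem plength_one_of_index_coprime {G : Type u} [Group G] [Finite G] (p : ℕ) [Fact p.Prime]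
    (hidx : ((pCore p (G ⧸ pPrimeCore p G)).index).Coprime p) : PLengthLE p 1 G := by
  have h1 : PLengthLE p 1 (G ⧸ pPrimeCore p G) := by
    have hN : PLengthLE p 1 (pCore p (G ⧸ pPrimeCore p G)) := by
      obtain ⟨m, hm⟩ := IsPGroup.iff_card.mp
        (Cfsg.Agent.Lib.helper40.pCore_isPGroup p (G ⧸ pPrimeCore p G))
      exact Cfsg.Agent.Lib.helper66.PLengthLE.one_of_card_eq_pow hm
    have hQ : PLengthLE p 0 ((G ⧸ pPrimeCore p G) ⧸ pCore p (G ⧸ pPrimeCore p G)) := by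
      apply Cfsg.Agent.Lib.helper66.PLengthLE.zero_of_coprime
      rw [← Subgroup.index_eq_card]; exact hidx
    exact Cfsg.Agent.Lib.helper66.PLengthLE.of_normal_of_quotient _ hN hQ
  have h0 : PLengthLE p 0 (pPrimeCore p G) :=
    Cfsg.Agent.Lib.helper66.PLengthLE.zero_of_coprime
      (Cfsg.Agent.Lib.helper40.pPrimeCore_card_coprime p G)
  exact Cfsg.Agent.Lib.helper66.PLengthLE.of_normal_of_quotient (pPrimeCore p G) h0 h1

theorem index_coprime_of_sylow_le {G : Type*} [Group G] [Finite G] {p : ℕ} [Fact p.Prime]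
    (V : Subgroup G) (P : Sylow p G) (h : (P : Subgroup G) ≤ V) : V.index.Coprime p := by
  have h1 : V.index ∣ (P : Subgroup G).index := Subgroup.index_dvd_of_le h
  have h2 : ¬ p ∣ (P : Subgroup G).index := P.not_dvd_index
  exact ((Nat.Prime.coprime_iff_not_dvd Fact.out).mpr (fun hd => h2 (dvd_trans hd h1))).symm

theorem exp6_sq {G : Type*} [Group G] {x : G} (h6 : x ^ 6 = 1) {k : ℕ} (hk : x ^ 2 ^ k = 1) :
    x ^ 2 = 1 := by
  have h1 : (x ^ 2) ^ 3 = 1 := by rw [← pow_mul]; exact h6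
  have h2 : (x ^ 2) ^ 2 ^ k = 1 := by rw [← pow_mul, mul_comm, pow_mul, hk, one_pow]
  have h3 := pow_gcd_eq_one.mpr ⟨h1, h2⟩
  have h4 : Nat.gcd 3 (2 ^ k) = 1 := Nat.Coprime.pow_right k (by norm_num)
  rwa [h4, pow_one] at h3

theorem exp6_cube {G : Type*} [Group G] {x : G} (h6 : x ^ 6 = 1) {k : ℕ} (hk : x ^ 3 ^ k = 1) :
    x ^ 3 = 1 := by
  have h1 : (x ^ 3) ^ 2 = 1 := by rw [← pow_mul]; exact h6
  have h2 : (x ^ 3) ^ 3 ^ k = 1 := by rw [← pow_mul, mul_comm, pow_mul, hk, one_pow]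
  have h3 := pow_gcd_eq_one.mpr ⟨h1, h2⟩
  have h4 : Nat.gcd 2 (3 ^ k) = 1 := Nat.Coprime.pow_right k (by norm_num)
  rwa [h4, pow_one] at h3

theorem mul_comm_of_sq_eq_one {G : Type*} [Group G] {u v : G} (hu : u ^ 2 = 1) (hv : v ^ 2 = 1)
    (huv : (u * v) ^ 2 = 1) : u * v = v * u := by
  have hu' : u⁻¹ = u := by rw [inv_eq_iff_mul_eq_one, ← pow_two]; exact hu
  have hv' : v⁻¹ = v := by rw [inv_eq_iff_mul_eq_one, ← pow_two]; exact hv
  have h1 : (u * v)⁻¹ = u * v := by rw [inv_eq_iff_mul_eq_one, ← pow_two]; exact huv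
  rw [mul_inv_rev, hu', hv'] at h1
  exact h1.symm

/-- Exponent `6`, `O_{2'}(G) = 1`: `O_2(G)` is a Sylow `2`-subgroup. -/
theorem exp6_two {G : Type u} [Group G] [Finite G] (h : ∀ x : G, x ^ 6 = 1)
    (hcore : pPrimeCore 2 G = ⊥) : (pCore 2 G).index.Coprime 2 := by
  have : Fact (Nat.Prime 2) := ⟨Nat.prime_two⟩
  have hsol : IsPSolvable 2 G := isPSolvable_of_isSolvable 2 (exp6_isSolvable h)
  have hC := Cfsg.Agent.Lib.helper38.centralizer_pCore_le_of_isPSolvable hsol hcore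
  obtain ⟨P⟩ : Nonempty (Sylow 2 G) := inferInstance
  apply index_coprime_of_sylow_le _ P
  have hsq : ∀ s ∈ (P : Subgroup G), s ^ 2 = 1 := by
    intro s hs
    obtain ⟨k, hk⟩ := P.isPGroup' ⟨s, hs⟩
    exact exp6_sq (h s) (by simpa using congrArg Subtype.val hk)
  have hVP : pCore 2 G ≤ P :=
    (Cfsg.Agent.Lib.helper40.pCore_isPGroup 2 G).le_sylow_of_normal P
  intro s hs
  apply hC
  rw [Subgroup.mem_centralizer_iff]
  intro v hv
  have hv' := hVP hv
  exact mul_comm_of_sq_eq_one (hsq v hv') (hsq s hs) (hsq (v * s) (mul_mem hv' hs))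

/-- Exponent `6`, `O_{3'}(G) = 1`: `O_3(G)` is a Sylow `3`-subgroup. -/
theorem exp6_three {G : Type u} [Group G] [Finite G] (h : ∀ x : G, x ^ 6 = 1)
    (hcore : pPrimeCore 3 G = ⊥) : (pCore 3 G).index.Coprime 3 := by
  have : Fact (Nat.Prime 3) := ⟨Nat.prime_three⟩
  have : Fact (Nat.Prime 2) := ⟨Nat.prime_two⟩
  have hsol : IsPSolvable 3 G := isPSolvable_of_isSolvable 3 (exp6_isSolvable h)
  have hC := Cfsg.Agent.Lib.helper38.centralizer_pCore_le_of_isPSolvable hsol hcore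
  obtain ⟨V, hVdef⟩ : ∃ V : Subgroup G, V = pCore 3 G := ⟨_, rfl⟩
  have hVn : V.Normal := by rw [hVdef]; infer_instance
  have hVp : IsPGroup 3 V := by rw [hVdef]; exact Cfsg.Agent.Lib.helper40.pCore_isPGroup 3 G
  rw [← hVdef] at hC ⊢
  have h3 : ∀ g : G, g ^ 3 ∈ V → g ^ 3 = 1 := by
    intro g hg
    obtain ⟨k, hk⟩ := hVp ⟨g ^ 3, hg⟩
    have hk' : (g ^ 3) ^ 3 ^ k = 1 := by simpa using congrArg Subtype.val hk
    have h2 : (g ^ 3) ^ 2 = 1 := by rw [← pow_mul]; exact h g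
    have := pow_gcd_eq_one.mpr ⟨h2, hk'⟩
    have h4 : Nat.gcd 2 (3 ^ k) = 1 := Nat.Coprime.pow_right k (by norm_num)
    rwa [h4, pow_one] at this
  obtain ⟨P⟩ : Nonempty (Sylow 3 G) := inferInstance
  apply index_coprime_of_sylow_le _ P
  intro x hxP
  have hx3 : x ^ 3 = 1 := by
    obtain ⟨k, hk⟩ := P.isPGroup' ⟨x, hxP⟩
    exact exp6_cube (h x) (by simpa using congrArg Subtype.val hk)
  by_contra hxV
  have hQ6 : ∀ q : G ⧸ V, q ^ 6 = 1 := by
    intro q
    obtain ⟨g, rfl⟩ := QuotientGroup.mk_surjective q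
    rw [← QuotientGroup.mk_pow, h g]; rfl
  have hQ3 : pCore 3 (G ⧸ V) = ⊥ := by
    rw [eq_bot_iff]
    intro q hq
    obtain ⟨g, rfl⟩ := QuotientGroup.mk_surjective q
    have hg : g ∈ (pCore 3 (G ⧸ V)).comap (QuotientGroup.mk' V) := hq
    rw [Cfsg.Agent.Lib.helper53.comap_pCore_quotient V hVp, ← hVdef] at hg
    exact (Subgroup.mem_bot).mpr ((QuotientGroup.eq_one_iff g).mpr hg)
  have hQ2' : pPrimeCore 2 (G ⧸ V) = ⊥ := by
    rw [← le_bot_iff, ← hQ3]
    apply Cfsg.Agent.Lib.helper40.le_pCore _ inferInstance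
    intro y
    refine ⟨1, ?_⟩
    rw [pow_one]
    have hc := Cfsg.Agent.Lib.helper40.pPrimeCore_card_coprime 2 (G ⧸ V)
    have h1 : (y ^ 3) ^ 2 = 1 := by
      apply Subtype.ext
      rw [← pow_mul]
      simpa using hQ6 y.1
    have h2 : (y ^ 3) ^ Nat.card (pPrimeCore 2 (G ⧸ V)) = 1 := pow_card_eq_one'
    have h5 := pow_gcd_eq_one.mpr ⟨h1, h2⟩
    rwa [Nat.Coprime.gcd_eq_one hc.symm, pow_one] at h5
  have hsolQ : IsPSolvable 2 (G ⧸ V) := isPSolvable_of_isSolvable 2 (exp6_isSolvable hQ6)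
  have hCQ := Cfsg.Agent.Lib.helper38.centralizer_pCore_le_of_isPSolvable hsolQ hQ2'
  have hW2 : ∀ q ∈ pCore 2 (G ⧸ V), q ^ 2 = 1 := by
    intro q hq
    obtain ⟨k, hk⟩ := (Cfsg.Agent.Lib.helper40.pCore_isPGroup 2 (G ⧸ V)) ⟨q, hq⟩
    exact exp6_sq (hQ6 q) (by simpa using congrArg Subtype.val hk)
  have hxQ : (x : G ⧸ V) ≠ 1 := fun h1 => hxV ((QuotientGroup.eq_one_iff x).mp h1)
  have hxQ3 : (x : G ⧸ V) ^ 3 = 1 := by rw [← QuotientGroup.mk_pow, hx3]; rfl
  have hxW : (x : G ⧸ V) ∉ pCore 2 (G ⧸ V) := by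
    intro hmem
    have h2 := hW2 _ hmem
    have h5 := pow_gcd_eq_one.mpr ⟨hxQ3, h2⟩
    exact hxQ (by simpa using h5)
  have hxC : (x : G ⧸ V) ∉ Subgroup.centralizer (pCore 2 (G ⧸ V) : Set (G ⧸ V)) :=
    fun hmem => hxW (hCQ hmem)
  rw [Subgroup.mem_centralizer_iff] at hxC
  push Not at hxC
  obtain ⟨tq, htqW, htq⟩ := hxC
  obtain ⟨t, rfl⟩ := QuotientGroup.mk_surjective tq
  have ht2 : t ^ 2 ∈ V := by
    rw [← QuotientGroup.eq_one_iff, QuotientGroup.mk_pow]; exact hW2 _ htqW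
  have hWn : (pCore 2 (G ⧸ V)).Normal := inferInstance
  have ht1W : (x : G ⧸ V) * (t : G ⧸ V) * (x : G ⧸ V)⁻¹ ∈ pCore 2 (G ⧸ V) :=
    hWn.conj_mem _ htqW _
  have hcomm : (t : G ⧸ V) * ((x : G ⧸ V) * (t : G ⧸ V) * (x : G ⧸ V)⁻¹)
      = ((x : G ⧸ V) * (t : G ⧸ V) * (x : G ⧸ V)⁻¹) * (t : G ⧸ V) :=
    mul_comm_of_sq_eq_one (hW2 _ htqW) (hW2 _ ht1W) (hW2 _ (mul_mem htqW ht1W))
  have hc : t * (x * t * x⁻¹) * t⁻¹ * (x * t * x⁻¹)⁻¹ ∈ V := by
    rw [← QuotientGroup.eq_one_iff]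
    simp only [QuotientGroup.mk_mul, QuotientGroup.mk_inv]
    rw [hcomm]; group
  obtain ⟨K, hK⟩ := exp6_core_aux _ G V rfl h3 x t (by rw [hx3]; exact V.one_mem) ht2 hc
  have haV : (t * (x * t * x⁻¹)) ^ 3 ^ K ∈ V := by
    apply hC
    rw [Subgroup.mem_centralizer_iff]
    intro v hv
    exact (hK v hv).symm
  have haQ : ((t : G ⧸ V) * ((x : G ⧸ V) * (t : G ⧸ V) * (x : G ⧸ V)⁻¹)) ^ 3 ^ K = 1 := by
    have h5 := (QuotientGroup.eq_one_iff _).mpr haV
    simpa only [QuotientGroup.mk_pow, QuotientGroup.mk_mul, QuotientGroup.mk_inv] using h5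
  have ha2 : ((t : G ⧸ V) * ((x : G ⧸ V) * (t : G ⧸ V) * (x : G ⧸ V)⁻¹)) ^ 2 = 1 :=
    hW2 _ (mul_mem htqW ht1W)
  have ha1 : (t : G ⧸ V) * ((x : G ⧸ V) * (t : G ⧸ V) * (x : G ⧸ V)⁻¹) = 1 := by
    have h5 := pow_gcd_eq_one.mpr ⟨ha2, haQ⟩
    have h4 : Nat.gcd 2 (3 ^ K) = 1 := Nat.Coprime.pow_right K (by norm_num)
    rwa [h4, pow_one] at h5
  apply htq
  have htinv : (t : G ⧸ V)⁻¹ = t := by
    rw [inv_eq_iff_mul_eq_one, ← pow_two]; exact hW2 _ htqW
  have h5 : (x : G ⧸ V) * t * (x : G ⧸ V)⁻¹ = t := by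
    have h6 := eq_inv_of_mul_eq_one_right ha1
    rw [htinv] at h6; exact h6
  calc (t : G ⧸ V) * x = ((x : G ⧸ V) * t * (x : G ⧸ V)⁻¹) * x := by rw [h5]
    _ = x * t := by group

/-- A finite group of exponent dividing `6` has `2`-length and `3`-length at most one. -/
theorem exp6_plength {G : Type u} [Group G] [Finite G] (h : ∀ x : G, x ^ 6 = 1) :
    PLengthLE 2 1 G ∧ PLengthLE 3 1 G := by
  have : Fact (Nat.Prime 2) := ⟨Nat.prime_two⟩
  have : Fact (Nat.Prime 3) := ⟨Nat.prime_three⟩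
  have hQ : ∀ (p : ℕ) (q : G ⧸ pPrimeCore p G), q ^ 6 = 1 := by
    intro p q
    obtain ⟨g, rfl⟩ := QuotientGroup.mk_surjective q
    rw [← QuotientGroup.mk_pow, h g]; rfl
  exact ⟨plength_one_of_index_coprime 2
      (exp6_two (hQ 2) (Cfsg.Agent.Lib.helper66.pPrimeCore_quotient_pPrimeCore 2)),
    plength_one_of_index_coprime 3
      (exp6_three (hQ 3) (Cfsg.Agent.Lib.helper66.pPrimeCore_quotient_pPrimeCore 3))⟩

end Cfsg.Agent.Lib.helper74
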