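import Mathlib
import Cfsg.Prelude.Def_LieTypeChar
import Cfsg.Agent.Lib.helper44.LODefs
import Cfsg.Agent.Lib.helper6.LOARITH
import Cfsg.Agent.S1163

/-! S2363 piece SZ (racing copy by helper74). -/

set_option autoImplicit false

namespace Cfsg.Agent.Lib.helper44.LO

open Cfsg

/-- arithmetic core of SZ -/
theorem h74_lo_sz_core (f : ℕ) (hf : 1 ≤ f) (n : ℕ)
    (h : n = (2 ^ f) ^ 2 * (2 ^ f - 1) * ((2 ^ f) ^ 2 + 1)) : LOGood 2 n := by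
  obtain ⟨q, hq⟩ : ∃ q, q = 2 ^ f := ⟨_, rfl⟩
  rw [← hq] at h
  have h2q : 2 ∣ q := by rw [hq]; exact dvd_pow_self 2 (by omega)
  have hq2 : 2 ≤ q := Nat.le_of_dvd (by rw [hq]; positivity) h2q
  refine lo_good Nat.prime_two f hf 1 n 2 ((q - 1) * (q ^ 2 + 1)) 3 ?_ (by norm_num) ?_ ?_
    (by norm_num) (by norm_num)
  · rw [← hq, h]; ring
  · intro hd
    obtain ⟨s, hs⟩ : 2 ∣ q ^ 2 := dvd_pow h2q (by norm_num)
    obtain ⟨t, ht⟩ := h2q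
    rcases (Nat.Prime.dvd_mul Nat.prime_two).1 hd with h1 | h1
    · omega
    · omega
  · rw [← hq, one_mul]
    obtain ⟨t, rfl⟩ : ∃ t, q = t + 1 := ⟨q - 1, by omega⟩
    rw [Nat.add_sub_cancel]
    nlinarith [sq_nonneg t]

theorem h74_lo_sz {F : Type} [Field F] [Fintype F] (m : ℕ) (hm : 1 ≤ m)
    (hF : Fintype.card F = 2 ^ (2 * m + 1)) :
    LOGood 2 (Nat.card ↥(Cfsg.Lie.Sz F (2 ^ (m + 1)))) :=
  h74_lo_sz_core (2 * m + 1) (by omega) _ (Cfsg.Agent.S1163.result hm hF).1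

end Cfsg.Agent.Lib.helper44.LO
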