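import Mathlib
import Cfsg.Agent.Lib.helper74.CG12

/-!
# Tools for the prime graph on class sizes of `p`-singular elements

Relative version of `Far`, `p`-elements central modulo a normal `p'`-subgroup, Sylow theory
inside a subgroup, normal closures of commuting conjugates, the second centre of a `p`-group.
-/

set_option autoImplicit false
set_option linter.unusedSectionVars false

namespace Cfsg.Agent.Lib.helper74

variable {G : Type*} [Group G]

/-- `r` and `s` are far apart in the prime graph on the class sizes of the elements of type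
`S`. -/
structure FarS (S : G → Prop) (r s : ℕ) : Prop where
  hr : r.Prime
  hs : s.Prime
  H : ∀ x y e : G, S x → S y → S e → r ∣ csz x → s ∣ csz y →
    (csz e).Coprime (csz x) ∨ (csz e).Coprime (csz y)

theorem FarS.symm {S : G → Prop} {r s : ℕ} (h : FarS S r s) : FarS S s r :=
  ⟨h.hs, h.hr, fun x y e hx hy he hsx hry => (h.H y x e hy hx he hry hsx).symm⟩

/-- The negation of "distance at most 3" gives `FarS`. -/
theorem farS_of_not {S : G → Prop} {r s : ℕ} (hr : r.Prime) (hs : s.Prime) (hrs : r ≠ s)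
    (h1 : ¬ ∃ x : G, S x ∧ r * s ∣ csz x)
    (h2 : ¬ ∃ t : ℕ, (t.Prime ∧ ∃ x : G, S x ∧ t ∣ csz x) ∧ t ≠ r ∧ t ≠ s ∧
      (∃ x : G, S x ∧ r * t ∣ csz x) ∧ (∃ x : G, S x ∧ t * s ∣ csz x))
    (h3 : ¬ ∃ t u : ℕ, (t.Prime ∧ ∃ x : G, S x ∧ t ∣ csz x) ∧
      (u.Prime ∧ ∃ x : G, S x ∧ u ∣ csz x) ∧ t ≠ r ∧ u ≠ s ∧ t ≠ u ∧
      (∃ x : G, S x ∧ r * t ∣ csz x) ∧ (∃ x : G, S x ∧ t * u ∣ csz x) ∧
      (∃ x : G, S x ∧ u * s ∣ csz x)) :
    FarS S r s := by
  refine ⟨hr, hs, fun x y e hx hy he hrx hsy => ?_⟩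
  by_contra hne
  rw [not_or] at hne
  obtain ⟨t, ht, hte, htx⟩ := Nat.Prime.not_coprime_iff_dvd.mp hne.1
  obtain ⟨u, hu, hue, huy⟩ := Nat.Prime.not_coprime_iff_dvd.mp hne.2
  have md : ∀ {a b n : ℕ}, a.Prime → b.Prime → a ≠ b → a ∣ n → b ∣ n → a * b ∣ n :=
    fun ha hb hab han hbn => ((Nat.coprime_primes ha hb).mpr hab).mul_dvd_of_dvd_of_dvd han hbn
  have hts : t ≠ s := fun h => h1 ⟨x, hx, md hr hs hrs hrx (h ▸ htx)⟩
  have hur : u ≠ r := fun h => h1 ⟨y, hy, md hr hs hrs (h ▸ huy) hsy⟩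
  by_cases htr : t = r
  · rw [htr] at hte
    by_cases hus : u = s
    · rw [hus] at hue
      exact h1 ⟨e, he, md hr hs hrs hte hue⟩
    · exact h2 ⟨u, ⟨hu, e, he, hue⟩, hur, hus, ⟨e, he, md hr hu (Ne.symm hur) hte hue⟩,
        ⟨y, hy, md hu hs hus huy hsy⟩⟩
  · by_cases hus : u = s
    · rw [hus] at hue
      exact h2 ⟨t, ⟨ht, e, he, hte⟩, htr, hts, ⟨x, hx, md hr ht (Ne.symm htr) hrx htx⟩,
        ⟨e, he, md ht hs hts hte hue⟩⟩
    · by_cases htu : t = u
      · rw [← htu] at huy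
        exact h2 ⟨t, ⟨ht, e, he, hte⟩, htr, hts, ⟨x, hx, md hr ht (Ne.symm htr) hrx htx⟩,
          ⟨y, hy, md ht hs hts huy hsy⟩⟩
      · exact h3 ⟨t, u, ⟨ht, e, he, hte⟩, ⟨hu, e, he, hue⟩, htr, hus, htu,
          ⟨x, hx, md hr ht (Ne.symm htr) hrx htx⟩, ⟨e, he, md ht hu htu hte hue⟩,
          ⟨y, hy, md hu hs hus huy hsy⟩⟩

section
variable [Finite G] {p : ℕ}

theorem FarS.cop {S : G → Prop} {r s : ℕ} (h : FarS S r s) {x y : G} (hx : S x) (hy : S y)
    (hrx : r ∣ csz x) (hsy : s ∣ csz y) : (csz x).Coprime (csz y) := by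
  rcases h.H x y x hx hy hx hrx hsy with h1 | h1
  · have h2 : csz x = 1 := (Nat.coprime_self _).mp h1
    rw [h2] at hrx
    exact absurd (Nat.dvd_one.mp hrx) h.hr.one_lt.ne'
  · exact h1

theorem not_mem_center_of_dvd_orderOf (hZ : ¬ p ∣ Nat.card ↥(Subgroup.center G)) {x : G}
    (hx : p ∣ orderOf x) : x ∉ Subgroup.center G := by
  intro hc
  apply hZ
  have h1 : orderOf (⟨x, hc⟩ : Subgroup.center G) ∣ Nat.card (Subgroup.center G) :=
    orderOf_dvd_natCard _
  rw [Subgroup.orderOf_mk] at h1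
  exact hx.trans h1

theorem csz_ne_one_of_dvd_orderOf (hZ : ¬ p ∣ Nat.card ↥(Subgroup.center G)) {x : G}
    (hx : p ∣ orderOf x) : csz x ≠ 1 :=
  fun h => not_mem_center_of_dvd_orderOf hZ hx ((csz_eq_one_iff x).mp h)

theorem csz_central_mul {c : G} (hc : c ∈ Subgroup.center G) (g : G) :
    csz (c * g) = csz g := by
  have hcx := Subgroup.mem_center_iff.mp hc
  have : Subgroup.centralizer ({c * g} : Set G) = Subgroup.centralizer ({g} : Set G) := by
    ext x
    rw [mem_cent_sing, mem_cent_sing]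
    constructor
    · intro h
      apply mul_left_cancel (a := c)
      calc c * (g * x) = c * g * x := by rw [mul_assoc]
        _ = x * (c * g) := h
        _ = (x * c) * g := by rw [mul_assoc]
        _ = (c * x) * g := by rw [hcx x]
        _ = c * (x * g) := by rw [mul_assoc]
    · intro h
      calc c * g * x = c * (g * x) := by rw [mul_assoc]
        _ = c * (x * g) := by rw [h]
        _ = (c * x) * g := by rw [mul_assoc]
        _ = (x * c) * g := by rw [hcx x]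
        _ = x * (c * g) := by rw [mul_assoc]
  show (Subgroup.centralizer ({c * g} : Set G)).index = (Subgroup.centralizer ({g} : Set G)).index
  rw [this]

/-- A `p`-subgroup central modulo a normal `p'`-subgroup `M` fixes a point of every coset
of `M`. -/
theorem exists_fixed_coset_pg [Fact p.Prime] (Q : Subgroup G) (hQ : IsPGroup p Q)
    (M : Subgroup G) [hMn : M.Normal] (hM : ¬ p ∣ Nat.card M)
    (hc : ∀ z ∈ Q, ∀ g : G, z * g * z⁻¹ * g⁻¹ ∈ M) (g : G) :
    ∃ w : G, w * g⁻¹ ∈ M ∧ ∀ z ∈ Q, z * w * z⁻¹ = w := by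
  let _ : MulAction Q {w : G // w * g⁻¹ ∈ M} :=
    { smul := fun z w => ⟨z.1 * w.1 * z.1⁻¹, by
        have h1 := hc z.1 z.2 g
        have h2 := hMn.conj_mem _ w.2 z.1
        have e : z.1 * w.1 * z.1⁻¹ * g⁻¹
            = (z.1 * (w.1 * g⁻¹) * z.1⁻¹) * (z.1 * g * z.1⁻¹ * g⁻¹) := by group
        rw [e]; exact M.mul_mem h2 h1⟩
      one_smul := fun w => Subtype.ext (by
        show ((1 : Q) : G) * w.1 * ((1 : Q) : G)⁻¹ = w.1
        simp)
      mul_smul := fun a b w => Subtype.ext (by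
        show ((a * b : Q) : G) * w.1 * ((a * b : Q) : G)⁻¹
          = a.1 * (b.1 * w.1 * b.1⁻¹) * a.1⁻¹
        simp [mul_assoc]) }
  have hcard : Nat.card {w : G // w * g⁻¹ ∈ M} = Nat.card M :=
    Nat.card_congr
      { toFun := fun w => ⟨w.1 * g⁻¹, w.2⟩
        invFun := fun m => ⟨m.1 * g, by simp⟩
        left_inv := fun w => Subtype.ext (by simp)
        right_inv := fun m => Subtype.ext (by simp) }
  obtain ⟨w, hw⟩ := hQ.nonempty_fixed_point_of_prime_not_dvd_card
    {w : G // w * g⁻¹ ∈ M} (by rwa [hcard])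
  exact ⟨w.1, w.2, fun z hz => congrArg Subtype.val (hw ⟨z, hz⟩)⟩

/-- Elements of a `p`-subgroup which is central modulo a normal `p'`-subgroup `M` have
class size dividing `|M|`. -/
theorem csz_dvd_card_of_central_mod_pg [Fact p.Prime] (Q : Subgroup G) (hQ : IsPGroup p Q)
    (M : Subgroup G) [hMn : M.Normal] (hM : ¬ p ∣ Nat.card M)
    (hc : ∀ z ∈ Q, ∀ g : G, z * g * z⁻¹ * g⁻¹ ∈ M) {u : G}
    (hu : u ∈ Q) : csz u ∣ Nat.card M := by
  have htop : Subgroup.centralizer ({u} : Set G) ⊔ M = ⊤ := by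
    rw [eq_top_iff]
    intro g _
    obtain ⟨w, hw, hfix⟩ := exists_fixed_coset_pg Q hQ M hM hc g
    have hwC : w ∈ Subgroup.centralizer ({u} : Set G) := by
      rw [mem_cent_sing]
      have h1 := hfix u hu
      calc u * w = (u * w * u⁻¹) * u := by group
        _ = w * u := by rw [h1]
    have e : g = (w * g⁻¹)⁻¹ * w := by group
    rw [e, sup_comm]
    exact Subgroup.mul_mem_sup (M.inv_mem hw) hwC
  have h1 : csz u = (Subgroup.centralizer ({u} : Set G)).relIndex
      (Subgroup.centralizer ({u} : Set G) ⊔ M) := by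
    rw [htop, Subgroup.relIndex_top_right]
  rw [h1, relIndex_sup_of_normal]
  exact Subgroup.relIndex_dvd_card _ _

/-- A `p`-element which is central modulo a normal `p'`-subgroup `M` has class size dividing
`|M|`. -/
theorem csz_dvd_card_of_comm_mem [Fact p.Prime] {u : G} {i : ℕ} (hu : orderOf u = p ^ i)
    (M : Subgroup G) [hMn : M.Normal] (hM : ¬ p ∣ Nat.card M)
    (hc : ∀ g : G, u * g * u⁻¹ * g⁻¹ ∈ M) : csz u ∣ Nat.card M := by
  have hQ : IsPGroup p (Subgroup.zpowers u) :=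
    IsPGroup.of_card (n := i) (by rw [Nat.card_zpowers, hu])
  refine csz_dvd_card_of_central_mod_pg (Subgroup.zpowers u) hQ M hM ?_ (Subgroup.mem_zpowers u)
  have hle : Subgroup.zpowers u ≤ (Subgroup.center (G ⧸ M)).comap (QuotientGroup.mk' M) := by
    rw [Subgroup.zpowers_le, Subgroup.mem_comap, Subgroup.mem_center_iff]
    intro q
    induction q using QuotientGroup.induction_on with
    | H k =>
      show ((k * u : G) : G ⧸ M) = ((u * k : G) : G ⧸ M)
      rw [QuotientGroup.eq]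
      have h2 := hMn.conj_mem _ (M.inv_mem (hc k⁻¹)) u⁻¹
      have e : (k * u)⁻¹ * (u * k) = u⁻¹ * (u * k⁻¹ * u⁻¹ * k⁻¹⁻¹)⁻¹ * u⁻¹⁻¹ := by group
      rw [e]; exact h2
  intro z hz g
  have hz' : (QuotientGroup.mk z : G ⧸ M) ∈ Subgroup.center (G ⧸ M) := hle hz
  have h3 := Subgroup.mem_center_iff.mp hz' (QuotientGroup.mk g)
  rw [← QuotientGroup.eq_one_iff]
  show ((z * g * z⁻¹ * g⁻¹ : G) : G ⧸ M) = 1
  rw [QuotientGroup.mk_mul, QuotientGroup.mk_mul, QuotientGroup.mk_mul, QuotientGroup.mk_inv,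
    QuotientGroup.mk_inv, ← h3]
  group

/-- The commutator subgroup of a class whose product with `y` has the class size of `y` has
order dividing the class size of `y`. -/
theorem card_comSub_dvd {a y : G} (h : (csz a).Coprime (csz y)) (heq : csz (a * y) = csz y) :
    Nat.card (comSub (fun z => IsConj a z)) ∣ csz y := by
  refine card_dvd_csz_of_stab _ y (stab_gen _ (fun a' ha' => ?_))
  obtain ⟨g, rfl⟩ := isConj_iff.mp ha'
  refine ⟨by rw [csz_conj]; exact h, ?_⟩
  rw [csz_of_isConj (isConj_mul_of_coprime h g)]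
  exact heq

theorem comm_mem_comSub (a g : G) : a * g * a⁻¹ * g⁻¹ ∈ comSub (fun z => IsConj a z) := by
  have h1 := mem_comSub_gen (T := fun z => IsConj a z) (IsConj.refl a) g 1
  have h2 := (comSub_normal (fun z => IsConj a z)).conj_mem _ ((comSub _).inv_mem h1) a
  have e : a * g * a⁻¹ * g⁻¹ = a * ((1 * a * 1⁻¹)⁻¹ * (g * a * g⁻¹))⁻¹ * a⁻¹ := by group
  rw [e]; exact h2

/-- Sylow's theorem inside a subgroup containing a Sylow subgroup of the whole group. -/
theorem exists_conj_mem_sylow [Fact p.Prime] (P : Sylow p G) (H : Subgroup G)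
    (hle : (P : Subgroup G) ≤ H) {z : G} (hz : z ∈ H) {i : ℕ} (hzp : orderOf z = p ^ i) :
    ∃ h ∈ H, h⁻¹ * z * h ∈ (P : Subgroup G) := by
  have hZ : IsPGroup p (Subgroup.zpowers (⟨z, hz⟩ : H)) :=
    IsPGroup.of_card (n := i) (by rw [Nat.card_zpowers, Subgroup.orderOf_mk, hzp])
  have hcard : ¬ p ∣ Nat.card (H ⧸ (P : Subgroup G).subgroupOf H) := by
    rw [← Subgroup.index_eq_card]
    intro hd
    have h1 := Subgroup.relIndex_mul_index hle
    apply P.not_dvd_index
    rw [← h1]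
    exact Dvd.dvd.mul_right hd _
  obtain ⟨q, hq⟩ := hZ.nonempty_fixed_point_of_prime_not_dvd_card
    (H ⧸ (P : Subgroup G).subgroupOf H) hcard
  induction q using QuotientGroup.induction_on with
  | H k =>
    refine ⟨k.1, k.2, ?_⟩
    have h1 := hq ⟨⟨z, hz⟩, Subgroup.mem_zpowers _⟩
    have h2 : (((⟨z, hz⟩ : H) * k : H) : H ⧸ (P : Subgroup G).subgroupOf H)
        = (k : H ⧸ (P : Subgroup G).subgroupOf H) := h1
    rw [QuotientGroup.eq, Subgroup.mem_subgroupOf] at h2
    have h3 := (P : Subgroup G).inv_mem h2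
    have e : ((((⟨z, hz⟩ : H) * k)⁻¹ * k : H) : G)⁻¹ = k.1⁻¹ * z * k.1 := by
      simp [mul_assoc]
    rw [e] at h3; exact h3

/-- Relative version of `exists_conj_commute`: the conjugating element can be taken in a
normal subgroup containing the `p`-subgroup. -/
theorem exists_conj_commute_rel [Fact p.Prime] (H : Subgroup G) [H.Normal] (U : Subgroup G)
    (hU : IsPGroup p U) (hUH : U ≤ H) (y : G) (hy : ¬ p ∣ csz y) :
    ∃ g ∈ H, ∀ u ∈ U, (g * u * g⁻¹) * y = y * (g * u * g⁻¹) := by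
  have hU' : IsPGroup p (U.subgroupOf H) := hU.comap_subtype
  have hcard : ¬ p ∣ Nat.card (H ⧸ (Subgroup.centralizer ({y} : Set G)).subgroupOf H) := by
    rw [← Subgroup.index_eq_card]
    intro hd
    apply hy
    have h1 : (Subgroup.centralizer ({y} : Set G)).relIndex H ∣ csz y := by
      rw [← relIndex_sup_of_normal]
      exact Subgroup.relIndex_dvd_index_of_le le_sup_left
    exact hd.trans h1
  obtain ⟨q, hq⟩ := hU'.nonempty_fixed_point_of_prime_not_dvd_card
    (H ⧸ (Subgroup.centralizer ({y} : Set G)).subgroupOf H) hcard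
  induction q using QuotientGroup.induction_on with
  | H k =>
    refine ⟨k.1⁻¹, H.inv_mem k.2, fun u hu => ?_⟩
    have h1 := hq ⟨⟨u, hUH hu⟩, Subgroup.mem_subgroupOf.mpr hu⟩
    have h2 : (((⟨u, hUH hu⟩ : H) * k : H) : H ⧸ (Subgroup.centralizer ({y} : Set G)).subgroupOf H)
        = (k : H ⧸ (Subgroup.centralizer ({y} : Set G)).subgroupOf H) := h1
    rw [QuotientGroup.eq, Subgroup.mem_subgroupOf] at h2
    have h3 := mem_cent_sing.mp h2
    have e : ((((⟨u, hUH hu⟩ : H) * k)⁻¹ * k : H) : G) = k.1⁻¹ * u⁻¹ * k.1 := by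
      simp [mul_assoc]
    rw [e] at h3
    calc k.1⁻¹ * u * k.1⁻¹⁻¹ * y
        = (k.1⁻¹ * u⁻¹ * k.1)⁻¹ * (y * (k.1⁻¹ * u⁻¹ * k.1)) * (k.1⁻¹ * u⁻¹ * k.1)⁻¹ := by
          group
      _ = (k.1⁻¹ * u⁻¹ * k.1)⁻¹ * ((k.1⁻¹ * u⁻¹ * k.1) * y) * (k.1⁻¹ * u⁻¹ * k.1)⁻¹ := by
          rw [h3]
      _ = y * (k.1⁻¹ * u * k.1⁻¹⁻¹) := by group

/-- A `p`-element normalising a Sylow `p`-subgroup lies in it. -/
theorem mem_sylow_of_mem_normalizer [Fact p.Prime] (P : Sylow p G) {z : G} {i : ℕ}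
    (hzp : orderOf z = p ^ i) (hn : z ∈ Subgroup.normalizer ((P : Subgroup G) : Set G)) : z ∈ (P : Subgroup G) := by
  have hQ : IsPGroup p (Subgroup.zpowers z) :=
    IsPGroup.of_card (n := i) (by rw [Nat.card_zpowers, hzp])
  have hle : Subgroup.zpowers z ≤ Subgroup.normalizer ((P : Subgroup G) : Set G) := by
    rwa [Subgroup.zpowers_le]
  have h1 : IsPGroup p (Subgroup.zpowers z ⊔ (P : Subgroup G) : Subgroup G) :=
    hQ.to_sup_of_normal_right' P.isPGroup' hle
  have h2 := P.is_maximal' h1 le_sup_right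
  have h3 : z ∈ Subgroup.zpowers z ⊔ (P : Subgroup G) :=
    Subgroup.mem_sup_left (Subgroup.mem_zpowers z)
  rw [h2] at h3; exact h3

/-- The normal closure of a `p`-element commuting with all its conjugates is a `p`-group. -/
theorem isPGroup_normalClosure {w : G} {j : ℕ} (hw : orderOf w = p ^ j)
    (hcomm : ∀ g : G, Commute w (g * w * g⁻¹)) :
    IsPGroup p (Subgroup.normalClosure ({w} : Set G)) := by
  have hS : ∀ a ∈ Group.conjugatesOfSet ({w} : Set G), ∃ g : G, a = g * w * g⁻¹ := by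
    intro a ha
    rw [Group.mem_conjugatesOfSet_iff] at ha
    obtain ⟨b, hb, hba⟩ := ha
    rw [Set.mem_singleton_iff] at hb
    subst hb
    obtain ⟨g, rfl⟩ := isConj_iff.mp hba
    exact ⟨g, rfl⟩
  have hSc : ∀ a ∈ Group.conjugatesOfSet ({w} : Set G),
      ∀ b ∈ Group.conjugatesOfSet ({w} : Set G), a * b = b * a := by
    intro a ha b hb
    obtain ⟨g, rfl⟩ := hS a ha
    obtain ⟨k, rfl⟩ := hS b hb
    have h1 := (hcomm (g⁻¹ * k)).eq
    calc g * w * g⁻¹ * (k * w * k⁻¹)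
        = g * (w * (g⁻¹ * k * w * (g⁻¹ * k)⁻¹)) * g⁻¹ := by group
      _ = g * ((g⁻¹ * k * w * (g⁻¹ * k)⁻¹) * w) * g⁻¹ := by rw [h1]
      _ = k * w * k⁻¹ * (g * w * g⁻¹) := by group
  have hcm : ∀ x ∈ Subgroup.closure (Group.conjugatesOfSet ({w} : Set G)),
      ∀ y ∈ Subgroup.closure (Group.conjugatesOfSet ({w} : Set G)), Commute x y := by
    have h1 : ∀ x ∈ Subgroup.closure (Group.conjugatesOfSet ({w} : Set G)),
        ∀ b ∈ Group.conjugatesOfSet ({w} : Set G), b * x = x * b := by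
      intro x hx
      have : Subgroup.closure (Group.conjugatesOfSet ({w} : Set G))
          ≤ Subgroup.centralizer (Group.conjugatesOfSet ({w} : Set G)) := by
        rw [Subgroup.closure_le]
        intro a ha
        exact Subgroup.mem_centralizer_iff.mpr (fun b hb => hSc b hb a ha)
      exact Subgroup.mem_centralizer_iff.mp (this hx)
    intro x hx y hy
    have h2 : Subgroup.closure (Group.conjugatesOfSet ({w} : Set G))
        ≤ Subgroup.centralizer ({x} : Set G) := by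
      rw [Subgroup.closure_le]
      intro b hb
      exact mem_cent_sing.mpr (h1 x hx b hb).symm
    exact mem_cent_sing.mp (h2 hy)
  have key : ∀ z ∈ Subgroup.closure (Group.conjugatesOfSet ({w} : Set G)),
      ∃ k : ℕ, z ^ p ^ k = 1 := by
    intro z hz
    induction hz using Subgroup.closure_induction with
    | mem a ha =>
      obtain ⟨g, rfl⟩ := hS a ha
      refine ⟨j, ?_⟩
      rw [← orderOf_dvd_iff_pow_eq_one, orderOf_conj', hw]
    | one => exact ⟨0, by simp⟩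
    | mul x y hx hy ihx ihy =>
      obtain ⟨a, ha⟩ := ihx
      obtain ⟨b, hb⟩ := ihy
      refine ⟨a + b, ?_⟩
      have hc : Commute x y := hcm x hx y hy
      rw [hc.mul_pow, pow_add, pow_mul, ha, one_pow, mul_comm (p ^ a), pow_mul, hb, one_pow,
        one_mul]
    | inv x hx ihx =>
      obtain ⟨a, ha⟩ := ihx
      exact ⟨a, by rw [inv_pow, ha, inv_one]⟩
  intro z
  obtain ⟨k, hk⟩ := key z.1 z.2
  exact ⟨k, Subtype.ext (by simpa using hk)⟩

/-- A non-commutative finite `p`-group has an element of the second centre outside the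
centre. -/
theorem exists_second_center {H : Type*} [Group H] [Finite H] [Fact p.Prime]
    (hH : IsPGroup p H) (hnc : ∃ a b : H, a * b ≠ b * a) :
    ∃ u : H, u ∉ Subgroup.center H ∧ ∀ h : H, h * u * h⁻¹ * u⁻¹ ∈ Subgroup.center H := by
  have hne : Subgroup.center H ≠ ⊤ := by
    intro htop
    obtain ⟨a, b, hab⟩ := hnc
    have : a ∈ Subgroup.center H := by rw [htop]; trivial
    exact hab ((Subgroup.mem_center_iff.mp this b).symm)
  have : Nontrivial (H ⧸ Subgroup.center H) := by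
    have h1 : 1 < (Subgroup.center H).index := Subgroup.one_lt_index_of_ne_top hne
    rw [Subgroup.index] at h1
    exact (Finite.one_lt_card_iff_nontrivial).mp h1
  have hq : IsPGroup p (H ⧸ Subgroup.center H) := hH.to_quotient _
  have := hq.center_nontrivial
  obtain ⟨⟨q, hq1⟩, hq2⟩ := exists_ne (1 : Subgroup.center (H ⧸ Subgroup.center H))
  obtain ⟨u, rfl⟩ := QuotientGroup.mk_surjective q
  refine ⟨u, ?_, fun h => ?_⟩
  · intro hu
    apply hq2
    apply Subtype.ext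
    exact (QuotientGroup.eq_one_iff u).mpr hu
  · rw [← QuotientGroup.eq_one_iff]
    have h3 := Subgroup.mem_center_iff.mp hq1 (QuotientGroup.mk h)
    show ((h * u * h⁻¹ * u⁻¹ : H) : H ⧸ Subgroup.center H) = 1
    rw [QuotientGroup.mk_mul, QuotientGroup.mk_mul, QuotientGroup.mk_mul, QuotientGroup.mk_inv,
      QuotientGroup.mk_inv, h3]
    group

end

theorem conj_calc {u h h' a ζ : G} (ha : h * u * h⁻¹ = a * u) (hζ : h'⁻¹ * u * h' = ζ * u)
    (c1 : Commute ζ h) (c2 : Commute ζ h') (c3 : Commute a h') (c4 : Commute a ζ) :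
    (h' * h * h'⁻¹) * u * (h' * h * h'⁻¹)⁻¹ = a * u := by
  have e1 : h' * u * h'⁻¹ = ζ⁻¹ * u := by
    have h0 : ζ * (h' * u * h'⁻¹) = u := by
      calc ζ * (h' * u * h'⁻¹) = (ζ * h') * u * h'⁻¹ := by group
        _ = (h' * ζ) * u * h'⁻¹ := by rw [c2.eq]
        _ = h' * (ζ * u) * h'⁻¹ := by group
        _ = h' * (h'⁻¹ * u * h') * h'⁻¹ := by rw [hζ]
        _ = u := by group
    calc h' * u * h'⁻¹ = ζ⁻¹ * (ζ * (h' * u * h'⁻¹)) := by group
      _ = ζ⁻¹ * u := by rw [h0]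
  calc (h' * h * h'⁻¹) * u * (h' * h * h'⁻¹)⁻¹
      = h' * h * (h'⁻¹ * u * h') * h⁻¹ * h'⁻¹ := by group
    _ = h' * h * (ζ * u) * h⁻¹ * h'⁻¹ := by rw [hζ]
    _ = h' * (h * ζ) * u * h⁻¹ * h'⁻¹ := by group
    _ = h' * (ζ * h) * u * h⁻¹ * h'⁻¹ := by rw [c1.eq]
    _ = (h' * ζ) * (h * u * h⁻¹) * h'⁻¹ := by group
    _ = (ζ * h') * (a * u) * h'⁻¹ := by rw [c2.eq, ha]
    _ = ζ * (h' * a) * u * h'⁻¹ := by group
    _ = ζ * (a * h') * u * h'⁻¹ := by rw [c3.eq]
    _ = ζ * a * (h' * u * h'⁻¹) := by group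
    _ = ζ * a * (ζ⁻¹ * u) := by rw [e1]
    _ = (ζ * a) * ζ⁻¹ * u := by group
    _ = (a * ζ) * ζ⁻¹ * u := by rw [c4.eq]
    _ = a * u := by group

theorem pow_conj_calc {τ w a : G} (hc : Commute τ a) (ha : τ * w * τ⁻¹ = w * a) (n : ℕ) :
    τ ^ n * w = w * a ^ n * τ ^ n := by
  induction n with
  | zero => simp
  | succ n ih =>
    have h1 : τ * w = w * a * τ := by rw [← ha]; group
    calc τ ^ (n + 1) * w = τ * (τ ^ n * w) := by rw [pow_succ']; group
      _ = τ * (w * a ^ n * τ ^ n) := by rw [ih]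
      _ = (τ * w) * a ^ n * τ ^ n := by group
      _ = (w * a * τ) * a ^ n * τ ^ n := by rw [h1]
      _ = w * a * (τ * a ^ n) * τ ^ n := by group
      _ = w * a * (a ^ n * τ) * τ ^ n := by rw [(hc.pow_right n).eq]
      _ = w * a ^ (n + 1) * τ ^ (n + 1) := by rw [pow_succ', pow_succ']; group

end Cfsg.Agent.Lib.helper74
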