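import Mathlib
import Cfsg.Agent.Lib.helper74.CG13
import Cfsg.Agent.Lib.helper74.CG3
import Cfsg.Agent.S4134

/-!
# Class sizes `{1, n, m, nm}` with `n`, `m` coprime: shared lemmas and Part A

`partA`: non-commuting `a`, `b` with class sizes `n`, `m` have `a ^ m`, `b ^ n` central.
-/

set_option autoImplicit false
set_option linter.unusedSectionVars false

namespace Cfsg.Agent.Lib.helper74

variable {G : Type*} [Group G] [Finite G]

/-- An element `z` of `E` central in `E` has `z ^ |E : M| ∈ M` for every subgroup `M ≤ E`. -/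
theorem pow_relIndex_mem_of_central (M E : Subgroup G) (hME : M ≤ E) {z : G} (hzE : z ∈ E)
    (hz : ∀ g ∈ E, g * z = z * g) : z ^ (M.relIndex E) ∈ M := by
  set T : Subgroup G := M ⊔ Subgroup.zpowers z with hT
  have hMT : M ≤ T := le_sup_left
  have hzT : z ∈ T := (le_sup_right : Subgroup.zpowers z ≤ T) (Subgroup.mem_zpowers z)
  have hTE : T ≤ E := sup_le hME (by rw [Subgroup.zpowers_le]; exact hzE)
  have hTN : T ≤ Subgroup.normalizer (M : Set G) := by
    refine sup_le Subgroup.le_normalizer ?_
    rw [Subgroup.zpowers_le]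
    exact Subgroup.centralizer_le_normalizer _
      (Subgroup.mem_centralizer_iff.mpr (fun h hh => hz h (hME hh)))
  have hn : (M.subgroupOf T).Normal := Subgroup.normal_subgroupOf_of_le_normalizer hTN
  have h1 : (⟨z, hzT⟩ : T) ^ (M.subgroupOf T).index ∈ M.subgroupOf T :=
    Subgroup.pow_index_mem _ _
  have h2 : z ^ (M.relIndex T) ∈ M := by
    rw [Subgroup.mem_subgroupOf] at h1
    show z ^ (M.subgroupOf T).index ∈ M
    simpa using h1
  have h3 : M.relIndex T * T.relIndex E = M.relIndex E :=
    Subgroup.relIndex_mul_relIndex M T E hMT hTE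
  rw [← h3, pow_mul]
  exact M.pow_mem h2 _

/-- The four possible class sizes. -/
theorem csz_cases {n m : ℕ}
    (h : Set.range (fun x : G => (Subgroup.centralizer ({x} : Set G)).index)
      = ({1, n, m, n * m} : Set ℕ)) (g : G) :
    csz g = 1 ∨ csz g = n ∨ csz g = m ∨ csz g = n * m := by
  have : csz g ∈ Set.range (fun x : G => (Subgroup.centralizer ({x} : Set G)).index) := ⟨g, rfl⟩
  rw [h] at this
  simpa using this

theorem csz_cases_swap {n m : ℕ}
    (hall : ∀ g : G, csz g = 1 ∨ csz g = n ∨ csz g = m ∨ csz g = n * m) (g : G) :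
    csz g = 1 ∨ csz g = m ∨ csz g = n ∨ csz g = m * n := by
  rcases hall g with h | h | h | h
  · exact Or.inl h
  · exact Or.inr (Or.inr (Or.inl h))
  · exact Or.inr (Or.inl h)
  · exact Or.inr (Or.inr (Or.inr (by rw [h, mul_comm])))

theorem partA_aux {n m : ℕ} (hcop : n.Coprime m)
    (hall : ∀ g : G, csz g = 1 ∨ csz g = n ∨ csz g = m ∨ csz g = n * m) (a b : G)
    (ha : csz a = n) (hb : csz b = m) (hab : a * b ≠ b * a) : b ^ n ∈ Subgroup.center G := by
  have hn1 : n ≠ 1 := by
    rintro rfl
    have := (csz_eq_one_iff a).mp ha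
    exact hab ((Subgroup.mem_center_iff.mp this b).symm)
  have hmpos : 0 < m := by rw [← hb]; exact csz_pos b
  have hnpos : 0 < n := by rw [← ha]; exact csz_pos a
  set M := Subgroup.centralizer ({a} : Set G) ⊓ Subgroup.centralizer ({b} : Set G) with hM
  have ha' : (Subgroup.centralizer ({a} : Set G)).index = n := ha
  have hb' : (Subgroup.centralizer ({b} : Set G)).index = m := hb
  have hMi : M.index = n * m := by
    rw [hM, Cfsg.Agent.Lib.helper12.index_inf_of_coprime _ _ (by rw [ha', hb']; exact hcop),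
      ha', hb']
  have hrel : M.relIndex (Subgroup.centralizer ({b} : Set G)) = n := by
    have h1 := Subgroup.relIndex_mul_index (inf_le_right : M ≤ Subgroup.centralizer ({b} : Set G))
    rw [hMi, hb'] at h1
    exact Nat.eq_of_mul_eq_mul_right hmpos h1
  have hbn : b ^ n ∈ M := by
    have := pow_relIndex_mem_of_central M (Subgroup.centralizer ({b} : Set G)) inf_le_right
      (z := b) (mem_cent_sing.mpr rfl) (fun g hg => (mem_cent_sing.mp hg).symm)
    rwa [hrel] at this
  have hcomm : a * b ^ n = b ^ n * a := mem_cent_sing.mp hbn.1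
  have hdvd : csz (b ^ n) ∣ m := by rw [← hb]; exact csz_pow_dvd b n
  rcases hall (b ^ n) with h | h | h | h
  · exact (csz_eq_one_iff _).mp h
  · exfalso
    rw [h] at hdvd
    exact hn1 (hcop.eq_one_of_dvd hdvd)
  · exfalso
    have hle : Subgroup.centralizer ({b} : Set G) ≤ Subgroup.centralizer ({b ^ n} : Set G) :=
      cent_le_cent_pow b n
    have h2 := le_of_le_of_index_le hle (by
      rw [hb', show (Subgroup.centralizer ({b ^ n} : Set G)).index = m from h])
    have h3 : a ∈ Subgroup.centralizer ({b ^ n} : Set G) := mem_cent_sing.mpr hcomm.symm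
    exact hab (mem_cent_sing.mp (h2 h3)).symm
  · exfalso
    rw [h] at hdvd
    have h1 : n * m ≤ 1 * m := by rw [one_mul]; exact Nat.le_of_dvd hmpos hdvd
    have h2 := Nat.le_of_mul_le_mul_right h1 hmpos
    omega

/-- **Part A.** Non-commuting elements of class sizes `n` and `m`. -/
theorem partA {n m : ℕ} (hcop : n.Coprime m)
    (h : Set.range (fun x : G => (Subgroup.centralizer ({x} : Set G)).index)
      = ({1, n, m, n * m} : Set ℕ))
    (a b : G) (ha : (Subgroup.centralizer ({a} : Set G)).index = n)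
    (hb : (Subgroup.centralizer ({b} : Set G)).index = m) (hab : a * b ≠ b * a) :
    a ^ m ∈ Subgroup.center G ∧ b ^ n ∈ Subgroup.center G :=
  ⟨partA_aux hcop.symm (csz_cases_swap (csz_cases h)) b a hb ha (Ne.symm hab),
    partA_aux hcop (csz_cases h) a b ha hb hab⟩

/-- If a prime `r` divides no class size, every `r`-element is central. -/
theorem central_of_not_dvd (r : ℕ) [Fact r.Prime] (h : ∀ g : G, ¬ r ∣ csz g) {x : G} {k : ℕ}
    (hx : orderOf x = r ^ k) : x ∈ Subgroup.center G := by
  obtain ⟨P, hxP⟩ := exists_sylow_mem (p := r) hx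
  have hK : Subgroup.centralizer ((P : Subgroup G) : Set G) = ⊤ := by
    apply Cfsg.Agent.S4127.eq_top_of_forall_conj_mem
    intro g
    obtain ⟨c, hc⟩ := exists_conj_commute P g (h g)
    refine ⟨c, ?_⟩
    rw [Subgroup.mem_centralizer_iff]
    intro u hu
    have := hc u hu
    calc u * (c⁻¹ * g * c) = c⁻¹ * ((c * u * c⁻¹) * g) * c := by group
      _ = c⁻¹ * (g * (c * u * c⁻¹)) * c := by rw [this]
      _ = c⁻¹ * g * c * u := by group
  rw [Subgroup.mem_center_iff]
  intro g
  have hg : g ∈ Subgroup.centralizer ((P : Subgroup G) : Set G) := by rw [hK]; trivial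
  exact (Subgroup.mem_centralizer_iff.mp hg x hxP).symm

/-- A non-central element has a non-central power of prime power order. -/
theorem exists_primary_pow_aux : ∀ (N : ℕ) (x : G), orderOf x = N → x ∉ Subgroup.center G →
    ∃ (p k j : ℕ), p.Prime ∧ orderOf (x ^ j) = p ^ k ∧ x ^ j ∉ Subgroup.center G := by
  intro N
  induction N using Nat.strong_induction_on with
  | _ N ih =>
    intro x hxN hx
    have hN1 : N ≠ 1 := by
      rintro rfl
      rw [orderOf_eq_one_iff] at hxN
      exact hx (hxN ▸ Subgroup.one_mem _)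
    have hNpos : 0 < N := hxN ▸ orderOf_pos x
    have hqp : (N.minFac).Prime := Nat.minFac_prime hN1
    obtain ⟨x', x'', hx', hx'', hxe, hco, i, hi⟩ := exists_pq_decomp x hqp
    by_cases hc : x'' ∈ Subgroup.center G
    · have hx'n : x' ∉ Subgroup.center G := fun h' => hx (hxe ▸ Subgroup.mul_mem _ h' hc)
      have hd : orderOf x' ∣ N := by rw [← hxN]; exact orderOf_dvd_of_mem_zpowers hx'
      have hlt : orderOf x' < N := by
        rcases (Nat.le_of_dvd hNpos hd).lt_or_eq with h | h
        · exact h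
        · exfalso
          rw [h] at hco
          exact hqp.ne_one (Nat.Coprime.eq_one_of_dvd hco.symm (Nat.minFac_dvd N))
      obtain ⟨p, k, j, hp, ho, hnc⟩ := ih _ hlt x' rfl hx'n
      obtain ⟨e, he⟩ := (mem_powers_iff_mem_zpowers.mpr hx')
      have he' : x ^ e = x' := he
      refine ⟨p, k, e * j, hp, ?_, ?_⟩
      · rw [pow_mul, he']; exact ho
      · rw [pow_mul, he']; exact hnc
    · obtain ⟨e, he⟩ := (mem_powers_iff_mem_zpowers.mpr hx'')
      have he' : x ^ e = x'' := he
      exact ⟨N.minFac, i, e, hqp, by rw [he']; exact hi, by rw [he']; exact hc⟩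

/-- A non-central element whose class size is minimal for divisibility has a primary power
with the same centralizer. -/
theorem exists_primary_same_cent {a : G} (ha : a ∉ Subgroup.center G)
    (hmin : ∀ g : G, csz g ∣ csz a → csz g = 1 ∨ csz g = csz a) :
    ∃ (a' : G) (p k : ℕ), p.Prime ∧ orderOf a' = p ^ k ∧ csz a' = csz a ∧
      Subgroup.centralizer ({a'} : Set G) = Subgroup.centralizer ({a} : Set G) ∧
      a' ∈ Subgroup.zpowers a := by
  obtain ⟨p, k, j, hp, ho, hnc⟩ := exists_primary_pow_aux _ a rfl ha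
  have h1 : csz (a ^ j) = csz a := by
    rcases hmin (a ^ j) (csz_pow_dvd a j) with h | h
    · exact absurd ((csz_eq_one_iff _).mp h) hnc
    · exact h
  refine ⟨a ^ j, p, k, hp, ho, h1, ?_, ⟨(j : ℤ), by simp⟩⟩
  apply le_antisymm
  · exact le_of_le_of_index_le (cent_le_cent_pow a j) (le_of_eq h1.symm)
  · exact cent_le_cent_pow a j

/-- Divisors of `n` among the class sizes. -/
theorem csz_min_left {n m : ℕ} (hcop : n.Coprime m) (hn : 1 < n) (hm : 1 < m)
    (hall : ∀ g : G, csz g = 1 ∨ csz g = n ∨ csz g = m ∨ csz g = n * m) (g : G)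
    (hg : csz g ∣ n) : csz g = 1 ∨ csz g = n := by
  rcases hall g with h | h | h | h
  · exact Or.inl h
  · exact Or.inr h
  · exfalso
    rw [h] at hg
    have := hcop.symm.eq_one_of_dvd hg
    omega
  · exfalso
    rw [h] at hg
    have h1 : n * m ≤ n * 1 := by rw [mul_one]; exact Nat.le_of_dvd (by omega) hg
    have h2 := Nat.le_of_mul_le_mul_left h1 (by omega)
    omega

theorem csz_min_right {n m : ℕ} (hcop : n.Coprime m) (hn : 1 < n) (hm : 1 < m)
    (hall : ∀ g : G, csz g = 1 ∨ csz g = n ∨ csz g = m ∨ csz g = n * m) (g : G)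
    (hg : csz g ∣ m) : csz g = 1 ∨ csz g = m :=
  csz_min_left hcop.symm hm hn (csz_cases_swap hall) g hg

/-- (F3) If `w` has the largest class size, `h` commutes with `w` and the orders are coprime,
then `C(w) ≤ C(h)`. -/
theorem cent_le_of_max {w h : G} (hmax : ∀ g : G, csz g ≤ csz w) (hc : Commute w h)
    (ho : (orderOf w).Coprime (orderOf h)) :
    Subgroup.centralizer ({w} : Set G) ≤ Subgroup.centralizer ({h} : Set G) := by
  have h1 := cent_mul_le hc ho
  have h2 : Subgroup.centralizer ({w} : Set G) ≤ Subgroup.centralizer ({w * h} : Set G) :=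
    le_of_le_of_index_le (h1.trans inf_le_left) (hmax (w * h))
  exact h2.trans (h1.trans inf_le_right)

/-- Class sizes are at most `n * m`. -/
theorem csz_le_nm {n m : ℕ} (hn : 1 < n) (hm : 1 < m)
    (hall : ∀ g : G, csz g = 1 ∨ csz g = n ∨ csz g = m ∨ csz g = n * m) (g : G) :
    csz g ≤ n * m := by
  rcases hall g with h | h | h | h <;> rw [h] <;> nlinarith

end Cfsg.Agent.Lib.helper74
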