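import Mathlib
import Cfsg.Agent.Lib.helper74.CG15

/-!
# Class sizes `{1, n, m, nm}`: the cross case is impossible (Part C2)

Covering argument: if every primary element of class size `n` has order prime to `n`, the same
for `m`, and elements of class sizes `n` and `m` commute, then `G` is the union of the
conjugates of the centralizer of one element of class size `n * m`.
-/

set_option autoImplicit false
set_option linter.unusedSectionVars false

namespace Cfsg.Agent.Lib.helper74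

variable {G : Type*} [Group G] [Finite G]

/-- Elements of a `p`-subgroup have prime power order. -/
theorem orderOf_of_mem_pgroup {p : ℕ} [Fact p.Prime] {R : Subgroup G} (hR : IsPGroup p R)
    {x : G} (hx : x ∈ R) : ∃ k : ℕ, orderOf x = p ^ k := by
  obtain ⟨k, hk⟩ := hR ⟨x, hx⟩
  have h1 : x ^ p ^ k = 1 := by
    have := congrArg Subtype.val hk
    simpa using this
  obtain ⟨j, -, hj⟩ := (Nat.dvd_prime_pow (Fact.out : p.Prime)).mp (orderOf_dvd_of_pow_eq_one h1)
  exact ⟨j, hj⟩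

theorem not_dvd_of_coprime {n m p : ℕ} (hp : p.Prime) (hcop : n.Coprime m) (h1 : p ∣ n) :
    ¬ p ∣ m := by
  intro h2
  have h3 : p ∣ Nat.gcd n m := Nat.dvd_gcd h1 h2
  rw [hcop.gcd_eq_one] at h3
  exact hp.one_lt.ne' (Nat.dvd_one.mp h3)

/-- A Sylow `p`-subgroup of `G` containing a given `p`-element `u` of `E` and meeting `E` in a
Sylow `p`-subgroup of `E`. -/
theorem exists_sylow_relIndex (p : ℕ) [Fact p.Prime] (E : Subgroup G) {u : G} (huE : u ∈ E)
    {k : ℕ} (hu : orderOf u = p ^ k) :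
    ∃ P : Sylow p G, u ∈ (P : Subgroup G) ∧ ¬ p ∣ (P : Subgroup G).relIndex E := by
  have hz : IsPGroup p (Subgroup.zpowers (⟨u, huE⟩ : E)) :=
    IsPGroup.of_card (n := k) (by rw [Nat.card_zpowers, Subgroup.orderOf_mk, hu])
  obtain ⟨R, hR⟩ := hz.exists_le_sylow
  obtain ⟨P, hP⟩ := Sylow.exists_comap_subtype_eq R
  refine ⟨P, ?_, ?_⟩
  · have h1 : (⟨u, huE⟩ : E) ∈ (R : Subgroup E) := hR (Subgroup.mem_zpowers _)
    rw [← hP] at h1
    exact h1
  · have h2 := R.not_dvd_index
    rw [← hP] at h2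
    exact h2

/-- A `p`-subgroup `R ≤ E` is conjugate in `E` into any `K` with `p ∤ |E : K ∩ E|`. -/
theorem exists_conj_le_of_coprime_relIndex (p : ℕ) [Fact p.Prime] (R K E : Subgroup G)
    (hR : IsPGroup p R) (hRE : R ≤ E) (hp : ¬ p ∣ K.relIndex E) :
    ∃ e ∈ E, ∀ r ∈ R, e⁻¹ * r * e ∈ K := by
  have hR' : IsPGroup p (R.subgroupOf E) := hR.comap_subtype
  have hcard : ¬ p ∣ Nat.card (E ⧸ K.subgroupOf E) := by
    rw [← Subgroup.index_eq_card]; exact hp
  obtain ⟨q, hq⟩ := hR'.nonempty_fixed_point_of_prime_not_dvd_card (E ⧸ K.subgroupOf E) hcard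
  induction q using QuotientGroup.induction_on with
  | H k =>
    refine ⟨k.1, k.2, fun r hr => ?_⟩
    have h1 := hq ⟨⟨r, hRE hr⟩, Subgroup.mem_subgroupOf.mpr hr⟩
    have h2 : (((⟨r, hRE hr⟩ : E) * k : E) : E ⧸ K.subgroupOf E)
        = (k : E ⧸ K.subgroupOf E) := h1
    rw [QuotientGroup.eq, Subgroup.mem_subgroupOf] at h2
    have h3 := K.inv_mem h2
    have e : ((((⟨r, hRE hr⟩ : E) * k)⁻¹ * k : E) : G)⁻¹ = k.1⁻¹ * r * k.1 := by
      simp [mul_assoc]
    rw [e] at h3; exact h3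

/-- `E ≤ L` as soon as `L` contains all primary elements of `E` for the primes `t ≠ p` and a
subgroup `R` with `p ∤ |E : R ∩ E|`. -/
theorem le_of_primary_mem (p : ℕ) [Fact p.Prime] (E L R : Subgroup G)
    (h1 : ∀ (t : ℕ), t.Prime → t ≠ p → ∀ g ∈ E, ∀ k : ℕ, orderOf g = t ^ k → g ∈ L)
    (hRL : R ≤ L) (hR : ¬ p ∣ R.relIndex E) : E ≤ L := by
  rw [← Subgroup.relIndex_eq_one, Nat.eq_one_iff_not_exists_prime_dvd]
  intro t ht htd
  by_cases htp : t = p
  · subst htp
    exact hR (htd.trans (Subgroup.relIndex_dvd_of_le_left E hRL))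
  · haveI : Fact t.Prime := ⟨ht⟩
    obtain ⟨T⟩ := (inferInstance : Nonempty (Sylow t E))
    have hTL : (T : Subgroup E) ≤ L.subgroupOf E := by
      intro x hx
      rw [Subgroup.mem_subgroupOf]
      obtain ⟨k, hk⟩ := orderOf_of_mem_pgroup T.isPGroup' hx
      exact h1 t ht htp x.1 x.2 k (by rw [Subgroup.orderOf_coe]; exact hk)
    have h2 : (L.subgroupOf E).index ∣ (T : Subgroup E).index := Subgroup.index_dvd_of_le hTL
    exact T.not_dvd_index (htd.trans h2)

/-- **Lemma K.** Let `u` be a `p`-element of largest class size, `C(u) ≤ E` and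
`p ∤ |E : C_E(y)|`.  Then `C(u)` centralizes an `E`-conjugate of `y`. -/
theorem exists_cent_le_conj (p : ℕ) [Fact p.Prime] {u : G} {i : ℕ} (hu : orderOf u = p ^ i)
    (hmax : ∀ g : G, csz g ≤ csz u) (E : Subgroup G)
    (hE : Subgroup.centralizer ({u} : Set G) ≤ E) (y : G)
    (hy : ¬ p ∣ (Subgroup.centralizer ({y} : Set G) ⊓ E).relIndex E) :
    ∃ e ∈ E, Subgroup.centralizer ({u} : Set G)
      ≤ Subgroup.centralizer ({e⁻¹ * y * e} : Set G) := by
  obtain ⟨P, huP, hP⟩ := exists_sylow_relIndex p (Subgroup.centralizer ({u} : Set G))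
    (mem_cent_sing.mpr rfl) hu
  set R : Subgroup G := (P : Subgroup G) ⊓ Subgroup.centralizer ({u} : Set G) with hRdef
  have hRp : IsPGroup p R := P.isPGroup'.to_le inf_le_left
  have hRE : R ≤ E := inf_le_right.trans hE
  obtain ⟨e, heE, he⟩ := exists_conj_le_of_coprime_relIndex p R _ E hRp hRE hy
  refine ⟨e⁻¹, E.inv_mem heE, ?_⟩
  rw [inv_inv]
  have hRy : R ≤ Subgroup.centralizer ({e * y * e⁻¹} : Set G) := by
    intro r hr
    have h1 : e⁻¹ * r * e ∈ Subgroup.centralizer ({y} : Set G) := (he r hr).1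
    rw [mem_cent_sing] at h1 ⊢
    calc e * y * e⁻¹ * r = e * (y * (e⁻¹ * r * e)) * e⁻¹ := by group
      _ = e * ((e⁻¹ * r * e) * y) * e⁻¹ := by rw [h1]
      _ = r * (e * y * e⁻¹) := by group
  have huR : u ∈ R := ⟨huP, mem_cent_sing.mpr rfl⟩
  have hyu : e * y * e⁻¹ ∈ Subgroup.centralizer ({u} : Set G) := by
    have := hRy huR
    rw [mem_cent_sing] at this ⊢
    exact this.symm
  refine le_of_primary_mem p _ _ R ?_ hRy ?_
  · intro t ht htp g hg k hk
    have hcg : Commute u g := mem_cent_sing.mp hg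
    have hco : (orderOf u).Coprime (orderOf g) := by
      rw [hu, hk]
      exact Nat.Coprime.pow _ _ ((Nat.coprime_primes (Fact.out : p.Prime) ht).mpr (Ne.symm htp))
    have := cent_le_of_max hmax hcg hco hyu
    rw [mem_cent_sing] at this ⊢
    exact this.symm
  · rw [hRdef, Subgroup.inf_relIndex_right]; exact hP

theorem mem_cent_conj {c u g : G} :
    g ∈ Subgroup.centralizer ({c * u * c⁻¹} : Set G)
      ↔ c⁻¹ * g * c ∈ Subgroup.centralizer ({u} : Set G) := by
  rw [mem_cent_sing, mem_cent_sing]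
  constructor
  · intro h
    calc u * (c⁻¹ * g * c) = c⁻¹ * ((c * u * c⁻¹) * g) * c := by group
      _ = c⁻¹ * (g * (c * u * c⁻¹)) * c := by rw [h]
      _ = c⁻¹ * g * c * u := by group
  · intro h
    calc c * u * c⁻¹ * g = c * (u * (c⁻¹ * g * c)) * c⁻¹ := by group
      _ = c * ((c⁻¹ * g * c) * u) * c⁻¹ := by rw [h]
      _ = g * (c * u * c⁻¹) := by group

theorem mem_cent_conj' {c x g : G} :
    c⁻¹ * g * c ∈ Subgroup.centralizer ({c⁻¹ * x * c} : Set G)
      ↔ g ∈ Subgroup.centralizer ({x} : Set G) := by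
  rw [mem_cent_sing, mem_cent_sing]
  constructor
  · intro h
    calc x * g = c * ((c⁻¹ * x * c) * (c⁻¹ * g * c)) * c⁻¹ := by group
      _ = c * ((c⁻¹ * g * c) * (c⁻¹ * x * c)) * c⁻¹ := by rw [h]
      _ = g * x := by group
  · intro h
    calc c⁻¹ * x * c * (c⁻¹ * g * c) = c⁻¹ * (x * g) * c := by group
      _ = c⁻¹ * (g * x) * c := by rw [h]
      _ = c⁻¹ * g * c * (c⁻¹ * x * c) := by group

/-- A central `p`-element lies in every Sylow `p`-subgroup. -/
theorem central_mem_sylow {p : ℕ} [Fact p.Prime] (P : Sylow p G) {z : G}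
    (hz : z ∈ Subgroup.center G) {i : ℕ} (hzp : orderOf z = p ^ i) : z ∈ (P : Subgroup G) := by
  obtain ⟨h, -, hh⟩ := exists_conj_mem_sylow P ⊤ le_top (Subgroup.mem_top z) hzp
  have e : h⁻¹ * z * h = z := by
    have := Subgroup.mem_center_iff.mp hz h
    rw [mul_assoc, ← this, inv_mul_cancel_left]
  rwa [e] at hh

theorem card_inf_mul_relIndex (H E : Subgroup G) :
    Nat.card (H ⊓ E : Subgroup G) * H.relIndex E = Nat.card E := by
  have h1 := Subgroup.relIndex_mul_index (inf_le_right : H ⊓ E ≤ E)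
  have h2 := Subgroup.card_mul_index (H ⊓ E)
  have h3 := Subgroup.card_mul_index E
  have h4 : 0 < E.index := Nat.pos_of_ne_zero Subgroup.index_ne_zero_of_finite
  rw [Subgroup.inf_relIndex_right] at h1
  have : Nat.card (H ⊓ E : Subgroup G) * H.relIndex E * E.index = Nat.card E * E.index := by
    rw [mul_assoc, h1, h2, h3]
  exact Nat.eq_of_mul_eq_mul_right h4 this

/-- Sylow subgroups of two subgroups of the same order have the same order. -/
theorem card_inf_eq_of_sylow (p : ℕ) [Fact p.Prime] (P₁ P₂ : Sylow p G) (E₁ E₂ : Subgroup G)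
    (hE : Nat.card E₁ = Nat.card E₂) (h1 : ¬ p ∣ (P₁ : Subgroup G).relIndex E₁)
    (h2 : ¬ p ∣ (P₂ : Subgroup G).relIndex E₂) :
    Nat.card ((P₁ : Subgroup G) ⊓ E₁ : Subgroup G)
      = Nat.card ((P₂ : Subgroup G) ⊓ E₂ : Subgroup G) := by
  have hp : p.Prime := Fact.out
  obtain ⟨a, ha⟩ := (IsPGroup.iff_card.mp
    (P₁.isPGroup'.to_le (inf_le_left : (P₁ : Subgroup G) ⊓ E₁ ≤ P₁)))
  obtain ⟨b, hb⟩ := (IsPGroup.iff_card.mp
    (P₂.isPGroup'.to_le (inf_le_left : (P₂ : Subgroup G) ⊓ E₂ ≤ P₂)))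
  have e1 := card_inf_mul_relIndex (P₁ : Subgroup G) E₁
  have e2 := card_inf_mul_relIndex (P₂ : Subgroup G) E₂
  rw [ha] at e1; rw [hb] at e2
  rw [ha, hb]
  have e3 : p ^ a * (P₁ : Subgroup G).relIndex E₁ = p ^ b * (P₂ : Subgroup G).relIndex E₂ := by
    rw [e1, e2, hE]
  have hab : a ≤ b := by
    have hd : p ^ a ∣ p ^ b * (P₂ : Subgroup G).relIndex E₂ := Dvd.intro _ e3
    have hc : (p ^ a).Coprime ((P₂ : Subgroup G).relIndex E₂) :=
      Nat.Coprime.pow_left a ((Nat.Prime.coprime_iff_not_dvd hp).mpr h2)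
    exact (Nat.pow_dvd_pow_iff_le_right hp.one_lt).mp (hc.dvd_of_dvd_mul_right hd)
  have hba : b ≤ a := by
    have hd : p ^ b ∣ p ^ a * (P₁ : Subgroup G).relIndex E₁ := Dvd.intro _ e3.symm
    have hc : (p ^ b).Coprime ((P₁ : Subgroup G).relIndex E₁) :=
      Nat.Coprime.pow_left b ((Nat.Prime.coprime_iff_not_dvd hp).mpr h1)
    exact (Nat.pow_dvd_pow_iff_le_right hp.one_lt).mp (hc.dvd_of_dvd_mul_right hd)
  rw [le_antisymm hab hba]

/-- The "cross case" hypotheses. -/
structure Cross (G : Type*) [Group G] (n m : ℕ) : Prop where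
  hn : 1 < n
  hm : 1 < m
  hcop : n.Coprime m
  hall : ∀ g : G, csz g = 1 ∨ csz g = n ∨ csz g = m ∨ csz g = n * m
  exn : ∃ g : G, csz g = n
  exm : ∃ g : G, csz g = m
  hX : ∀ (a : G) (p k : ℕ), p.Prime → orderOf a = p ^ k → csz a = n → p ∣ m
  hY : ∀ (b : G) (p k : ℕ), p.Prime → orderOf b = p ^ k → csz b = m → p ∣ n
  hcomm : ∀ a b : G, csz a = n → csz b = m → a * b = b * a

theorem Cross.symm {n m : ℕ} (h : Cross G n m) : Cross G m n where
  hn := h.hm
  hm := h.hn
  hcop := h.hcop.symm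
  hall := csz_cases_swap h.hall
  exn := h.exm
  exm := h.exn
  hX := h.hY
  hY := h.hX
  hcomm := fun a b ha hb => (h.hcomm b a hb ha).symm

theorem Cross.csz_le {n m : ℕ} (h : Cross G n m) {v : G} (hv : csz v = n * m) (g : G) :
    csz g ≤ csz v := by
  rw [hv]; exact csz_le_nm h.hn h.hm h.hall g

/-- (C3) For a prime `p ∣ n` there is a `p`-element of class size `n * m`. -/
theorem Cross.exists_W {n m : ℕ} (h : Cross G n m) {p : ℕ} [Fact p.Prime] (hp : p ∣ n) :
    ∃ (u : G) (i : ℕ), orderOf u = p ^ i ∧ csz u = n * m := by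
  obtain ⟨a₀, ha₀⟩ := h.exn
  obtain ⟨P⟩ := (inferInstance : Nonempty (Sylow p G))
  have hpm : ¬ p ∣ m := not_dvd_of_coprime Fact.out h.hcop hp
  have hex : ∃ g ∈ (P : Subgroup G), ¬ (a₀ * g = g * a₀) := by
    by_contra hcon
    push Not at hcon
    have hle : (P : Subgroup G) ≤ Subgroup.centralizer ({a₀} : Set G) :=
      fun g hg => mem_cent_sing.mpr (hcon g hg)
    have h1 : csz a₀ ∣ (P : Subgroup G).index := Subgroup.index_dvd_of_le hle
    rw [ha₀] at h1
    exact P.not_dvd_index (hp.trans h1)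
  obtain ⟨g, hgP, hg⟩ := hex
  obtain ⟨i, hi⟩ := orderOf_of_mem_pgroup P.isPGroup' hgP
  refine ⟨g, i, hi, ?_⟩
  rcases h.hall g with h1 | h1 | h1 | h1
  · exfalso
    have := (csz_eq_one_iff g).mp h1
    exact hg (Subgroup.mem_center_iff.mp this a₀)
  · exfalso
    exact hpm (h.hX g p i Fact.out hi h1)
  · exfalso
    exact hg (h.hcomm a₀ g ha₀ h1)
  · exact h1

/-- (C5) Every element of class size `n * m` commutes with an element of class size `m`. -/
theorem Cross.exists_comm_Y {n m : ℕ} (h : Cross G n m) {w : G} (hw : csz w = n * m) :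
    ∃ b : G, csz b = m ∧ w * b = b * w := by
  obtain ⟨p, hp, hpn⟩ := Nat.exists_prime_and_dvd (show n ≠ 1 from (by have := h.hn; omega))
  haveI : Fact p.Prime := ⟨hp⟩
  have hpm : ¬ p ∣ m := not_dvd_of_coprime hp h.hcop hpn
  obtain ⟨u₀, i, hu₀, hu₀c⟩ := h.exists_W hpn
  obtain ⟨y₀, hy₀⟩ := h.exm
  have hnm : 1 < n * m := by nlinarith [h.hn, h.hm]
  have key : ∃ (x : G) (j : ℕ), orderOf x = p ^ j ∧ x ∉ Subgroup.center G ∧ w * x = x * w := by
    obtain ⟨P₁, -, hP₁⟩ := exists_sylow_relIndex p (Subgroup.centralizer ({w} : Set G))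
      (Subgroup.one_mem _) (k := 0) (by simp)
    obtain ⟨P₂, hu₀P, hP₂⟩ := exists_sylow_relIndex p (Subgroup.centralizer ({u₀} : Set G))
      (mem_cent_sing.mpr rfl) hu₀
    by_contra hcon
    push Not at hcon
    have hcard : Nat.card (Subgroup.centralizer ({w} : Set G))
        = Nat.card (Subgroup.centralizer ({u₀} : Set G)) := by
      have e1 := Subgroup.card_mul_index (Subgroup.centralizer ({w} : Set G))
      have e2 := Subgroup.card_mul_index (Subgroup.centralizer ({u₀} : Set G))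
      have hw' : (Subgroup.centralizer ({w} : Set G)).index = n * m := hw
      have hu' : (Subgroup.centralizer ({u₀} : Set G)).index = n * m := hu₀c
      rw [hw'] at e1; rw [hu', ← e1] at e2
      exact (Nat.eq_of_mul_eq_mul_right (by omega) e2).symm
    have hcardeq := card_inf_eq_of_sylow p P₁ P₂ _ _ hcard hP₁ hP₂
    have hle : (P₁ : Subgroup G) ⊓ Subgroup.centralizer ({w} : Set G)
        ≤ (P₂ : Subgroup G) ⊓ Subgroup.centralizer ({u₀} : Set G) := by
      intro x hx
      obtain ⟨j, hj⟩ := orderOf_of_mem_pgroup P₁.isPGroup' hx.1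
      have hxc : x ∈ Subgroup.center G := by
        by_contra hxc
        exact hcon x j hj hxc (mem_cent_sing.mp hx.2)
      exact ⟨central_mem_sylow P₂ hxc hj, mem_cent_sing.mpr (Subgroup.mem_center_iff.mp hxc u₀)⟩
    have heq := Subgroup.eq_of_le_of_card_ge hle (le_of_eq hcardeq.symm)
    have hu₀mem : u₀ ∈ (P₂ : Subgroup G) ⊓ Subgroup.centralizer ({u₀} : Set G) :=
      ⟨hu₀P, mem_cent_sing.mpr rfl⟩
    rw [← heq] at hu₀mem
    have hc : u₀ ∈ Subgroup.center G := by
      by_contra hc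
      exact hcon u₀ i hu₀ hc (mem_cent_sing.mp hu₀mem.2)
    have := (csz_eq_one_iff u₀).mpr hc
    rw [hu₀c] at this
    omega
  obtain ⟨x, j, hxo, hxc, hwx⟩ := key
  rcases h.hall x with h1 | h1 | h1 | h1
  · exact absurd ((csz_eq_one_iff x).mp h1) hxc
  · exact absurd (h.hX x p j hp hxo h1) hpm
  · exact ⟨x, h1, hwx⟩
  · obtain ⟨e, -, he⟩ := exists_cent_le_conj p hxo (h.csz_le h1) ⊤ le_top y₀ (by
      rw [inf_top_eq, Subgroup.relIndex_top_right,
        show (Subgroup.centralizer ({y₀} : Set G)).index = m from hy₀]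
      exact hpm)
    refine ⟨e⁻¹ * y₀ * e, ?_, ?_⟩
    · have := csz_conj e⁻¹ y₀
      rw [inv_inv] at this
      rw [this, hy₀]
    · have hwmem : w ∈ Subgroup.centralizer ({x} : Set G) := mem_cent_sing.mpr hwx.symm
      exact (mem_cent_sing.mp (he hwmem)).symm

/-- The cross case is impossible. -/
theorem Cross.false {n m : ℕ} (h : Cross G n m) : False := by
  obtain ⟨p, hp, hpn⟩ := Nat.exists_prime_and_dvd (show n ≠ 1 from (by have := h.hn; omega))
  haveI : Fact p.Prime := ⟨hp⟩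
  have hpm : ¬ p ∣ m := not_dvd_of_coprime hp h.hcop hpn
  obtain ⟨u, i, hu, huc⟩ := h.exists_W hpn
  obtain ⟨y₀, hy₀⟩ := h.exm
  obtain ⟨x₀, hx₀⟩ := h.exn
  have hnm : 1 < n * m := by nlinarith [h.hn, h.hm]
  have hn0 : 0 < n := by have := h.hn; omega
  have hm0 : 0 < m := by have := h.hm; omega
  -- an element `b` of class size `m` with `C(u) ≤ C(b)`
  obtain ⟨e₀, -, he₀⟩ := exists_cent_le_conj p hu (h.csz_le huc) ⊤ le_top y₀ (by
    rw [inf_top_eq, Subgroup.relIndex_top_right,
      show (Subgroup.centralizer ({y₀} : Set G)).index = m from hy₀]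
    exact hpm)
  have hb : csz (e₀⁻¹ * y₀ * e₀) = m := by
    have := csz_conj e₀⁻¹ y₀
    rw [inv_inv] at this
    rw [this, hy₀]
  have hrel : (Subgroup.centralizer ({u} : Set G)).relIndex
      (Subgroup.centralizer ({e₀⁻¹ * y₀ * e₀} : Set G)) = n := by
    have h1 := Subgroup.relIndex_mul_index he₀
    rw [show (Subgroup.centralizer ({e₀⁻¹ * y₀ * e₀} : Set G)).index = m from hb,
      show (Subgroup.centralizer ({u} : Set G)).index = n * m from huc] at h1
    exact Nat.eq_of_mul_eq_mul_right hm0 h1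
  -- (C7) every element of class size `n` contains the centralizer of a conjugate of `u`
  have c7 : ∀ x : G, csz x = n → ∃ c : G, Subgroup.centralizer ({c * u * c⁻¹} : Set G)
      ≤ Subgroup.centralizer ({x} : Set G) := by
    intro x hx
    have hxnc : x ∉ Subgroup.center G := fun hc => by
      have := (csz_eq_one_iff x).mpr hc
      rw [hx] at this; have := h.hn; omega
    obtain ⟨x₁, q, k, hq, hx₁o, hx₁c, hx₁cent, -⟩ := exists_primary_same_cent hxnc (fun g hg => by
      rw [hx] at hg ⊢; exact csz_min_left h.hcop h.hn h.hm h.hall g hg)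
    rw [hx] at hx₁c
    have hqm : q ∣ m := h.hX x₁ q k hq hx₁o hx₁c
    have hqn : ¬ q ∣ n := not_dvd_of_coprime hq h.hcop.symm hqm
    haveI : Fact q.Prime := ⟨hq⟩
    have hx₁b : x₁ ∈ Subgroup.centralizer ({e₀⁻¹ * y₀ * e₀} : Set G) :=
      mem_cent_sing.mpr (h.hcomm x₁ _ hx₁c hb).symm
    have hzp : IsPGroup q (Subgroup.zpowers x₁) :=
      IsPGroup.of_card (n := k) (by rw [Nat.card_zpowers, hx₁o])
    obtain ⟨c, hcb, hc⟩ := exists_conj_le_of_coprime_relIndex q (Subgroup.zpowers x₁)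
      (Subgroup.centralizer ({u} : Set G)) (Subgroup.centralizer ({e₀⁻¹ * y₀ * e₀} : Set G)) hzp
      (by rw [Subgroup.zpowers_le]; exact hx₁b) (by rw [hrel]; exact hqn)
    have hx' : c⁻¹ * x₁ * c ∈ Subgroup.centralizer ({u} : Set G) :=
      hc x₁ (Subgroup.mem_zpowers x₁)
    have hco : (orderOf u).Coprime (orderOf (c⁻¹ * x₁ * c)) := by
      have e : orderOf (c⁻¹ * x₁ * c) = orderOf x₁ := by
        have := orderOf_conj' c⁻¹ x₁
        rwa [inv_inv] at this
      rw [e, hu, hx₁o]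
      exact Nat.Coprime.pow _ _ ((Nat.coprime_primes hp hq).mpr (fun hpq => hqn (hpq ▸ hpn)))
    have hle := cent_le_of_max (h.csz_le huc) (mem_cent_sing.mp hx') hco
    refine ⟨c, ?_⟩
    rw [← hx₁cent]
    intro g hg
    exact mem_cent_conj'.mp (hle (mem_cent_conj.mp hg))
  -- (C8) `C(x) ⊓ C(y)` is the centralizer of a conjugate of `u`
  have c8 : ∀ x y : G, csz x = n → csz y = m → ∃ c : G,
      Subgroup.centralizer ({x} : Set G) ⊓ Subgroup.centralizer ({y} : Set G)
        ≤ Subgroup.centralizer ({c * u * c⁻¹} : Set G) := by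
    intro x y hx hy
    have hx' : (Subgroup.centralizer ({x} : Set G)).index = n := hx
    have hy' : (Subgroup.centralizer ({y} : Set G)).index = m := hy
    obtain ⟨c, hc⟩ := c7 x hx
    have hu'o : orderOf (c * u * c⁻¹) = p ^ i := by rw [orderOf_conj', hu]
    have hu'c : csz (c * u * c⁻¹) = n * m := by rw [csz_conj, huc]
    have hxy : (Subgroup.centralizer ({y} : Set G) ⊓ Subgroup.centralizer ({x} : Set G)).relIndex
        (Subgroup.centralizer ({x} : Set G)) = m := by
      have hi : (Subgroup.centralizer ({y} : Set G) ⊓ Subgroup.centralizer ({x} : Set G)).index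
          = m * n := by
        rw [Cfsg.Agent.Lib.helper12.index_inf_of_coprime _ _ (by
          rw [hx', hy']; exact h.hcop.symm), hx', hy']
      have h1 := Subgroup.relIndex_mul_index (inf_le_right :
        Subgroup.centralizer ({y} : Set G) ⊓ Subgroup.centralizer ({x} : Set G)
          ≤ Subgroup.centralizer ({x} : Set G))
      rw [hi, hx'] at h1
      exact Nat.eq_of_mul_eq_mul_right hn0 h1
    obtain ⟨e, heE, he⟩ := exists_cent_le_conj p hu'o (h.csz_le hu'c)
      (Subgroup.centralizer ({x} : Set G)) hc y (by rw [hxy]; exact hpm)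
    refine ⟨e * c, ?_⟩
    have hu'' : e * c * u * (e * c)⁻¹ = e * (c * u * c⁻¹) * e⁻¹ := by group
    rw [hu'']
    have hle : Subgroup.centralizer ({e * (c * u * c⁻¹) * e⁻¹} : Set G)
        ≤ Subgroup.centralizer ({x} : Set G) ⊓ Subgroup.centralizer ({y} : Set G) := by
      intro g hg
      have h1 : e⁻¹ * g * e ∈ Subgroup.centralizer ({c * u * c⁻¹} : Set G) :=
        mem_cent_conj.mp hg
      refine ⟨?_, mem_cent_conj'.mp (he h1)⟩
      have h2 := hc h1
      have h3 : g = e * (e⁻¹ * g * e) * e⁻¹ := by group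
      rw [h3]
      exact Subgroup.mul_mem _ (Subgroup.mul_mem _ heE h2) (Subgroup.inv_mem _ heE)
    apply le_of_le_of_index_le hle
    rw [show (Subgroup.centralizer ({e * (c * u * c⁻¹) * e⁻¹} : Set G)).index = n * m from (by
      have := csz_conj e (c * u * c⁻¹); rw [hu'c] at this; exact this)]
    rw [Cfsg.Agent.Lib.helper12.index_inf_of_coprime _ _ (by rw [hx', hy']; exact h.hcop),
      hx', hy']
  -- (C10) the conjugates of `C(u)` cover `G`
  have hcov : ∀ g : G, ∃ c : G, c⁻¹ * g * c ∈ Subgroup.centralizer ({u} : Set G) := by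
    intro g
    have aux : ∀ x y : G, csz x = n → csz y = m → x * g = g * x → y * g = g * y →
        ∃ c : G, c⁻¹ * g * c ∈ Subgroup.centralizer ({u} : Set G) := by
      intro x y hx hy hxg hyg
      obtain ⟨c, hc⟩ := c8 x y hx hy
      exact ⟨c, mem_cent_conj.mp (hc ⟨mem_cent_sing.mpr hxg, mem_cent_sing.mpr hyg⟩)⟩
    rcases h.hall g with h1 | h1 | h1 | h1
    · refine ⟨1, ?_⟩
      have := (csz_eq_one_iff g).mp h1
      rw [mem_cent_sing]
      simp only [inv_one, one_mul, mul_one]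
      exact (Subgroup.mem_center_iff.mp this u)
    · exact aux g y₀ h1 hy₀ rfl (h.hcomm g y₀ h1 hy₀).symm
    · exact aux x₀ g hx₀ h1 (h.hcomm x₀ g hx₀ h1) rfl
    · obtain ⟨bb, hbb, hgb⟩ := h.exists_comm_Y h1
      obtain ⟨aa, haa, hga⟩ := h.symm.exists_comm_Y (show csz g = m * n by rw [h1, mul_comm])
      exact aux aa bb haa hbb hga.symm hgb.symm
  have htop := Cfsg.Agent.S4127.eq_top_of_forall_conj_mem _ hcov
  have h1 : csz u = 1 := by
    show (Subgroup.centralizer ({u} : Set G)).index = 1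
    rw [htop, Subgroup.index_top]
  rw [huc] at h1
  omega

/-- **Part C2.** The cross case with commuting classes is impossible. -/
theorem partC2 (n m : ℕ) (hn : 1 < n) (hm : 1 < m) (hcop : n.Coprime m)
    (h : Set.range (fun x : G => (Subgroup.centralizer ({x} : Set G)).index)
      = ({1, n, m, n * m} : Set ℕ))
    (hX : ∀ (a : G) (p k : ℕ), p.Prime → orderOf a = p ^ k →
      (Subgroup.centralizer ({a} : Set G)).index = n → p ∣ m)
    (hY : ∀ (b : G) (p k : ℕ), p.Prime → orderOf b = p ^ k →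
      (Subgroup.centralizer ({b} : Set G)).index = m → p ∣ n)
    (hcomm : ∀ a b : G, (Subgroup.centralizer ({a} : Set G)).index = n →
      (Subgroup.centralizer ({b} : Set G)).index = m → a * b = b * a) : False := by
  have exn : ∃ g : G, csz g = n := by
    have : n ∈ Set.range (fun x : G => (Subgroup.centralizer ({x} : Set G)).index) := by
      rw [h]; simp
    exact this
  have exm : ∃ g : G, csz g = m := by
    have : m ∈ Set.range (fun x : G => (Subgroup.centralizer ({x} : Set G)).index) := by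
      rw [h]; simp
    exact this
  exact Cross.false ⟨hn, hm, hcop, csz_cases h, exn, exm, hX, hY, hcomm⟩

end Cfsg.Agent.Lib.helper74
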