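import Mathlib
import Cfsg.Agent.Lib.helper74.PronBasic

/-!
# 35 is not the number of Sylow 17-subgroups of a finite group (helper74)

General counting lemmas for Sylow subgroups in normal subgroups / quotients, then the
argument: a minimal counterexample acts faithfully and primitively on its 35 Sylow
17-subgroups.
-/

open scoped Pointwise

namespace Cfsg.Agent.Lib.helper74

section counting

variable {G : Type*} [Group G] [Finite G] {p : ℕ} [Fact p.Prime]

omit [Finite G] in
/-- A normal subgroup of index prime to `p` contains every Sylow `p`-subgroup. -/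
theorem sylow_le_of_normal_of_not_dvd_index (H : Subgroup G) [H.Normal] (hH : ¬ p ∣ H.index)
    (Q : Sylow p G) : (Q : Subgroup G) ≤ H := by
  intro y hy
  rw [← QuotientGroup.eq_one_iff (N := H)]
  obtain ⟨k, hk⟩ := Q.2 ⟨y, hy⟩
  have hk' : y ^ p ^ k = 1 := by
    have := congrArg Subtype.val hk
    simpa using this
  have h1 : (QuotientGroup.mk y : G ⧸ H) ^ p ^ k = 1 := by
    rw [← QuotientGroup.mk_pow, hk']
    rfl
  have h2 : (QuotientGroup.mk y : G ⧸ H) ^ H.index = 1 := by
    rw [Subgroup.index_eq_card]
    exact pow_card_eq_one'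
  have hcop : Nat.Coprime (p ^ k) H.index :=
    ((Nat.Prime.coprime_iff_not_dvd Fact.out).mpr hH).pow_left k
  have h3 := Nat.dvd_gcd (orderOf_dvd_of_pow_eq_one h1) (orderOf_dvd_of_pow_eq_one h2)
  rw [hcop.gcd_eq_one] at h3
  exact orderOf_eq_one_iff.mp (Nat.dvd_one.mp h3)

omit [Finite G] in
/-- A normal subgroup of index prime to `p` has the same number of Sylow `p`-subgroups. -/
theorem card_sylow_of_normal_of_not_dvd_index (H : Subgroup G) [H.Normal] (hH : ¬ p ∣ H.index) :
    Nat.card (Sylow p H) = Nat.card (Sylow p G) := by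
  have hle := sylow_le_of_normal_of_not_dvd_index H hH
  symm
  apply Nat.card_congr
  refine Equiv.ofBijective (fun Q : Sylow p G => Q.subtype (hle Q)) ⟨?_, ?_⟩
  · intro Q Q' h
    exact Sylow.subtype_injective h
  · intro R
    obtain ⟨Q, hQ⟩ := (R.2.map H.subtype).exists_le_sylow
    refine ⟨Q, ?_⟩
    apply Sylow.ext
    apply R.3 (Q.subtype (hle Q)).2
    intro x hx
    rw [Sylow.coe_subtype, Subgroup.mem_subgroupOf]
    exact hQ (Subgroup.mem_map_of_mem _ hx)

/-- If a normal subgroup `K` normalizes every Sylow `p`-subgroup, then `G ⧸ K` has the same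
number of Sylow `p`-subgroups. -/
theorem card_sylow_quotient_of_le_normalizer (K : Subgroup G) [K.Normal]
    (hK : ∀ Q : Sylow p G, K ≤ Subgroup.normalizer ((Q : Subgroup G) : Set G)) :
    Nat.card (Sylow p (G ⧸ K)) = Nat.card (Sylow p G) := by
  symm
  have hsurj := QuotientGroup.mk'_surjective K
  apply Nat.card_congr
  refine Equiv.ofBijective (fun Q : Sylow p G => Q.mapSurjective hsurj)
    ⟨?_, Sylow.mapSurjective_surjective hsurj p⟩
  intro Q Q' h
  have h1 : (Q : Subgroup G).map (QuotientGroup.mk' K)
      = (Q' : Subgroup G).map (QuotientGroup.mk' K) := by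
    have := congrArg (fun R : Sylow p (G ⧸ K) => (R : Subgroup (G ⧸ K))) h
    simpa [Sylow.coe_mapSurjective] using this
  have h2 := congrArg (Subgroup.comap (QuotientGroup.mk' K)) h1
  rw [QuotientGroup.comap_map_mk', QuotientGroup.comap_map_mk'] at h2
  have h3 : (Q' : Subgroup G) ≤ Subgroup.normalizer ((Q : Subgroup G) : Set G) := by
    calc (Q' : Subgroup G) ≤ K ⊔ Q' := le_sup_right
      _ = K ⊔ Q := h2.symm
      _ ≤ _ := sup_le (hK Q) Subgroup.le_normalizer
  have h4 : IsPGroup p ((Q' : Subgroup G) ⊔ Q : Subgroup G) :=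
    IsPGroup.to_sup_of_normal_right' Q'.2 Q.2 h3
  have h5 : (Q' : Subgroup G) ⊔ Q = Q := Q.3 h4 le_sup_right
  have h6 : (Q' : Subgroup G) ≤ Q := by
    rw [← h5]
    exact le_sup_left
  exact Sylow.ext (Q'.3 Q.2 h6)

end counting

section s35

variable {G : Type*} [Group G] [Finite G]

/-- If `n_17(G) = 35` then `G` acts primitively on its Sylow 17-subgroups. -/
theorem sylow35_preprimitive (hcard : Nat.card (Sylow 17 G) = 35) :
    MulAction.IsPreprimitive G (Sylow 17 G) := by
  have : Fact (Nat.Prime 17) := ⟨by norm_num⟩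
  have : Nontrivial (Sylow 17 G) := by
    rw [← Finite.one_lt_card_iff_nontrivial, hcard]
    norm_num
  obtain ⟨P⟩ : Nonempty (Sylow 17 G) := inferInstance
  rw [← MulAction.isCoatom_stabilizer_iff_preprimitive G P, Sylow.stabilizer_eq_normalizer]
  change IsCoatom (Subgroup.normalizer ((P : Subgroup G) : Set G))
  have hidx : (Subgroup.normalizer ((P : Subgroup G) : Set G)).index = 35 := by
    have := Sylow.card_eq_index_normalizer P
    rw [hcard] at this
    exact this.symm
  constructor
  · intro h
    rw [h, Subgroup.index_top] at hidx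
    omega
  · intro H hH
    have hPH : (P : Subgroup G) ≤ H := Subgroup.le_normalizer.trans hH.le
    have h1 : Nat.card (Sylow 17 H)
        = (Subgroup.normalizer (((P.subtype hPH : Sylow 17 H) : Subgroup H) : Set H)).index :=
      Sylow.card_eq_index_normalizer _
    rw [Sylow.coe_subtype, ← Subgroup.subgroupOf_normalizer_eq hPH] at h1
    have h2 : Nat.card (Sylow 17 H) ≡ 1 [MOD 17] := card_sylow_modEq_one 17 H
    have h3 : (Subgroup.normalizer ((P : Subgroup G) : Set G)).relIndex H * H.index = 35 := by
      rw [Subgroup.relIndex_mul_index hH.le, hidx]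
    have hr : (Subgroup.normalizer ((P : Subgroup G) : Set G)).relIndex H ≡ 1 [MOD 17] := by
      have h2' := h2
      rw [h1] at h2'
      exact h2'
    have hone : (Subgroup.normalizer ((P : Subgroup G) : Set G)).relIndex H = 1 →
        H ≤ Subgroup.normalizer ((P : Subgroup G) : Set G) := Subgroup.relIndex_eq_one.mp
    generalize (Subgroup.normalizer ((P : Subgroup G) : Set G)).relIndex H = r at h3 hr hone
    have hr35 : r ∣ 35 := Dvd.intro _ h3
    have hrle : r ≤ 35 := Nat.le_of_dvd (by norm_num) hr35
    have hr' : r = 1 ∨ r = 35 := by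
      unfold Nat.ModEq at hr
      interval_cases r <;> simp_all
    rcases hr' with h | h
    · exact absurd (hone h) hH.not_ge
    · rw [h] at h3
      have h4 : H.index = 1 := by omega
      exact Subgroup.index_eq_one.mp h4

/-- Case A: a nontrivial element of a Sylow 17-subgroup `P` fixes a second point. -/
theorem sylow35_caseA (hcard : Nat.card (Sylow 17 G) = 35)
    (hfaith : Function.Injective (MulAction.toPermHom G (Sylow 17 G)))
    (P : Sylow 17 G) (x : G) (hxP : x ∈ P) (hx1 : x ≠ 1) (a : Sylow 17 G) (ha : a ≠ P)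
    (hxa : x • a = a) : False := by
  classical
  have hp17 : Fact (Nat.Prime 17) := ⟨by norm_num⟩
  let _ := Fintype.ofFinite (Sylow 17 G)
  have hFcard : Fintype.card (Sylow 17 G) = 35 := by rw [← Nat.card_eq_fintype_card, hcard]
  have hprim := sylow35_preprimitive hcard
  -- an element `y` of order 17 in `P` fixing `a`
  obtain ⟨k, hk⟩ := P.2 ⟨x, hxP⟩
  have hk' : x ^ 17 ^ k = 1 := by simpa using congrArg Subtype.val hk
  obtain ⟨j, -, hj⟩ := (Nat.dvd_prime_pow hp17.out).mp (orderOf_dvd_of_pow_eq_one hk')
  have hj0 : j ≠ 0 := by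
    rintro rfl
    rw [pow_zero, orderOf_eq_one_iff] at hj
    exact hx1 hj
  have h17 : 17 ∣ orderOf x := by rw [hj]; exact dvd_pow_self 17 hj0
  have hyord : orderOf (x ^ (orderOf x / 17)) = 17 :=
    orderOf_pow_orderOf_div (by rw [hj]; positivity) h17
  set y := x ^ (orderOf x / 17) with hy
  have hyP : y ∈ P := Subgroup.pow_mem _ hxP _
  have hya : y • a = a := by
    have : x ∈ MulAction.stabilizer G a := hxa
    exact Subgroup.pow_mem _ this _
  have hyP0 : y • P = P := Sylow.smul_eq_iff_mem_normalizer.mpr (Subgroup.le_normalizer hyP)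
  set τ : Equiv.Perm (Sylow 17 G) := MulAction.toPermHom G (Sylow 17 G) y with hτ
  have hτapp : ∀ b, τ b = y • b := fun b => rfl
  have hτord : orderOf τ = 17 := by rw [hτ, orderOf_injective _ hfaith, hyord]
  obtain ⟨n, hn⟩ := Equiv.Perm.cycleType_prime_order (σ := τ) (by rw [hτord]; norm_num)
  have hsupp : τ.support.card = (n + 1) * 17 := by
    rw [← Equiv.Perm.sum_cycleType, hn, hτord, Multiset.sum_replicate, smul_eq_mul]
  have hsupp_le : τ.support.card ≤ 33 := by
    have hsub : τ.support ⊆ (Finset.univ.erase a).erase P := by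
      intro b hb
      rw [Equiv.Perm.mem_support, hτapp] at hb
      rw [Finset.mem_erase, Finset.mem_erase]
      refine ⟨?_, ?_, Finset.mem_univ _⟩
      · rintro rfl; exact hb hyP0
      · rintro rfl; exact hb hya
    calc τ.support.card ≤ ((Finset.univ.erase a).erase P).card := Finset.card_le_card hsub
      _ = 33 := by
        rw [Finset.card_erase_of_mem (by simp [ha.symm]),
          Finset.card_erase_of_mem (Finset.mem_univ _), Finset.card_univ, hFcard]
  have hn0 : n = 0 := by omega
  subst hn0
  have hcyc : τ.IsCycle := Equiv.Perm.card_cycleType_eq_one.mp (by rw [hn]; simp)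
  have hsupp17 : τ.support.card = 17 := by omega
  -- Jordan
  set s : Set (Sylow 17 G) := ((τ.supportᶜ : Finset (Sylow 17 G)) : Set (Sylow 17 G)) with hs
  have hsn : s.ncard = 17 + 1 := by
    rw [hs, Set.ncard_coe_finset, Finset.card_compl, hFcard, hsupp17]
  have hsn' : 17 + 2 < Nat.card (Sylow 17 G) := by rw [hcard]; norm_num
  have hmem_s : ∀ b, b ∈ s ↔ y • b = b := by
    intro b
    rw [hs, Finset.mem_coe, Finset.mem_compl, Equiv.Perm.notMem_support, hτapp]
  have hyfix : y ∈ fixingSubgroup G s := by
    rw [mem_fixingSubgroup_iff]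
    intro b hb
    exact (hmem_s b).mp hb
  have htrans : MulAction.IsPretransitive (fixingSubgroup G s)
      (SubMulAction.ofFixingSubgroup G s) := by
    obtain ⟨a₀, ha₀, hcyc'⟩ := hcyc
    have key : ∀ b ∈ SubMulAction.ofFixingSubgroup G s,
        ∃ k : fixingSubgroup G s, b = k • a₀ := by
      intro b hb
      rw [SubMulAction.mem_ofFixingSubgroup_iff, hmem_s] at hb
      obtain ⟨i, hi⟩ := hcyc' (show τ b ≠ b from hb)
      refine ⟨(⟨y, hyfix⟩ : fixingSubgroup G s) ^ i, ?_⟩
      rw [← hi]
      have h1 : (τ ^ i) a₀ = (y ^ i) • a₀ := by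
        rw [hτ, ← map_zpow]
        rfl
      rw [h1]
      rfl
    rw [MulAction.isPretransitive_iff]
    rintro ⟨b, hb⟩ ⟨c, hc⟩
    obtain ⟨k, hk⟩ := key b hb
    obtain ⟨k', hk'⟩ := key c hc
    use k' * k⁻¹
    rw [← SetLike.coe_eq_coe]
    simp only [SetLike.mk_smul_mk]
    rw [hk, hk', smul_smul, inv_mul_cancel_right]
  have hcardX : Nat.card (SubMulAction.ofFixingSubgroup G s) = 17 := by
    rw [show Nat.card (SubMulAction.ofFixingSubgroup G s) = sᶜ.ncard from Nat.card_coe_set_eq _,
      Set.ncard_compl, hsn, hcard]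
  have hprim2 : MulAction.IsPreprimitive (fixingSubgroup G s)
      (SubMulAction.ofFixingSubgroup G s) :=
    MulAction.IsPreprimitive.of_prime_card (by rw [hcardX]; norm_num)
  have h2 : MulAction.IsMultiplyPreprimitive G (Sylow 17 G) 2 :=
    hprim.is_two_preprimitive hsn hsn' hprim2
  have h3 : MulAction.IsMultiplyPreprimitive (MulAction.stabilizer G P)
      (SubMulAction.ofStabilizer G P) 1 :=
    MulAction.isMultiplyPreprimitive_ofStabilizer (M := G) (α := Sylow 17 G) (n := 1) (a := P)
  have h4 : MulAction.IsPreprimitive (MulAction.stabilizer G P)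
      (SubMulAction.ofStabilizer G P) :=
    (MulAction.is_one_preprimitive_iff _ _).mp h3
  -- the normal subgroup `P` of the stabilizer
  let N' : Subgroup (MulAction.stabilizer G P) :=
    (P : Subgroup G).subgroupOf (MulAction.stabilizer G P)
  have hN'normal : N'.Normal := by
    refine ⟨fun n hn g => ?_⟩
    have hn' : (n : G) ∈ (P : Subgroup G) := hn
    have hg : (g : G) ∈ Subgroup.normalizer ((P : Subgroup G) : Set G) :=
      Sylow.smul_eq_iff_mem_normalizer.mp g.2
    exact (Subgroup.mem_normalizer_iff.mp hg n).mp hn'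
  obtain ⟨b, hb⟩ : ∃ b, τ b ≠ b := by
    obtain ⟨a₀, ha₀, -⟩ := hcyc
    exact ⟨a₀, ha₀⟩
  have hbP : b ≠ P := by
    rintro rfl
    exact hb hyP0
  let b' : SubMulAction.ofStabilizer G P := ⟨b, hbP⟩
  have hfix : MulAction.fixedPoints N' (SubMulAction.ofStabilizer G P) ≠ Set.univ := by
    intro h
    have h5 : b' ∈ MulAction.fixedPoints N' (SubMulAction.ofStabilizer G P) := by
      rw [h]
      trivial
    rw [MulAction.mem_fixedPoints] at h5
    have h6 := h5 ⟨⟨y, hyP0⟩, hyP⟩
    apply hb
    exact congrArg Subtype.val h6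
  have htr : MulAction.IsPretransitive N' (SubMulAction.ofStabilizer G P) :=
    MulAction.IsQuasiPreprimitive.isPretransitive_of_normal hfix
  have hpg : IsPGroup 17 N' := P.2.comap_subtype
  obtain ⟨m, hm⟩ := hpg.card_orbit b'
  rw [MulAction.orbit_eq_univ, Nat.card_coe_set_eq, Set.ncard_univ,
    SubMulAction.nat_card_ofStabilizer_eq, hcard] at hm
  rcases m with _ | _ | m
  · omega
  · omega
  · have : 17 ^ 2 ≤ 17 ^ (m + 2) := Nat.pow_le_pow_right (by norm_num) (by omega)
    omega

/-- A proper normal subgroup with a cyclic Sylow subgroup for the smallest prime: the kernel of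
the transfer is a normal subgroup of index `|S|`. -/
theorem exists_normal_index_of_cyclic_sylow {q : ℕ} (hq : (Nat.card G).minFac = q)
    (S : Sylow q G) (hS : IsCyclic S) :
    ∃ K : Subgroup G, K.Normal ∧ K.index = Nat.card S := by
  have h := IsCyclic.isComplement' hq hS
  exact ⟨_, MonoidHom.normal_ker _, h.symm.index_eq_card⟩

/-- Case B, first part: `P` has order 17. -/
theorem sylow35_card_P (hcard : Nat.card (Sylow 17 G) = 35) (P : Sylow 17 G)
    (hfree : ∀ x ∈ P, x ≠ 1 → ∀ a : Sylow 17 G, a ≠ P → x • a ≠ a) :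
    Nat.card (P : Subgroup G) = 17 := by
  have hp17 : Fact (Nat.Prime 17) := ⟨by norm_num⟩
  have : Nontrivial (Sylow 17 G) := by
    rw [← Finite.one_lt_card_iff_nontrivial, hcard]
    norm_num
  obtain ⟨a, ha⟩ := exists_ne P
  have hinj : Function.Injective (fun y : (P : Subgroup G) => (y : G) • a) := by
    intro y y' h
    have h1 : ((y : G)⁻¹ * (y' : G)) • a = a := by
      rw [mul_smul]
      rw [← show (y : G) • a = (y' : G) • a from h, inv_smul_smul]
    by_contra hne
    have h2 : (y : G)⁻¹ * (y' : G) ≠ 1 := by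
      intro h3
      apply hne
      apply Subtype.ext
      exact inv_mul_eq_one.mp h3
    exact hfree _ (Subgroup.mul_mem _ (Subgroup.inv_mem _ y.2) y'.2) h2 a ha h1
  have hle : Nat.card (P : Subgroup G) ≤ 35 := by
    rw [← hcard]
    exact Nat.card_le_card_of_injective _ hinj
  obtain ⟨k, hk⟩ := IsPGroup.iff_card.mp P.2
  have hk0 : k ≠ 0 := by
    rintro rfl
    rw [pow_zero] at hk
    apply ha
    have h1 := Sylow.card_eq_multiplicity P
    have h2 := Sylow.card_eq_multiplicity a
    rw [← h1, hk] at h2
    apply Sylow.ext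
    rw [Subgroup.card_eq_one.mp h2, Subgroup.card_eq_one.mp hk]
  rw [hk] at hle ⊢
  rcases k with _ | _ | k
  · exact absurd rfl hk0
  · norm_num
  · have h3 : 17 ^ 2 ≤ 17 ^ (k + 1 + 1) := Nat.pow_le_pow_right (by norm_num) (by omega)
    have h4 : 17 ^ (k + 1 + 1) ≤ 35 := hle
    omega

/-- Case B: `P` acts freely on the other 34 points. -/
theorem sylow35_caseB (hcard : Nat.card (Sylow 17 G) = 35)
    (hfaith : Function.Injective (MulAction.toPermHom G (Sylow 17 G)))
    (hmin : ∀ H : Subgroup G, H.Normal → H ≠ ⊤ → ¬ 17 ∣ H.index → False)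
    (P : Sylow 17 G)
    (hfree : ∀ x ∈ P, x ≠ 1 → ∀ a : Sylow 17 G, a ≠ P → x • a ≠ a) : False := by
  classical
  have hp17 : Fact (Nat.Prime 17) := ⟨by norm_num⟩
  let _ := Fintype.ofFinite (Sylow 17 G)
  have hFcard : Fintype.card (Sylow 17 G) = 35 := by rw [← Nat.card_eq_fintype_card, hcard]
  have hPcard := sylow35_card_P hcard P hfree
  have hnt : Nontrivial (P : Subgroup G) := by
    rw [← Finite.one_lt_card_iff_nontrivial, hPcard]
    norm_num
  obtain ⟨x', hx'⟩ := exists_ne (1 : (P : Subgroup G))
  set x : G := (x' : G) with hx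
  have hxP : x ∈ P := x'.2
  have hx1 : x ≠ 1 := fun h => hx' (Subtype.ext h)
  have hxord : orderOf x = 17 := by
    have h1 : orderOf x' ∣ 17 := by
      have h0 : orderOf x' ∣ Nat.card (P : Subgroup G) := orderOf_dvd_natCard x'
      rwa [hPcard] at h0
    have h2 : orderOf x = orderOf x' := Subgroup.orderOf_coe x'
    rcases (Nat.dvd_prime hp17.out).mp h1 with h | h
    · rw [orderOf_eq_one_iff] at h
      exact absurd h hx'
    · rw [h2, h]
  have heq : Subgroup.zpowers x = (P : Subgroup G) := by
    apply Subgroup.eq_of_le_of_card_ge ((Subgroup.zpowers_le).mpr hxP)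
    rw [Nat.card_zpowers, hxord, hPcard]
  have hcent_of : ∀ c : G, Commute c x →
      c ∈ Subgroup.centralizer ((P : Subgroup G) : Set G) := by
    intro c hc
    rw [Subgroup.mem_centralizer_iff]
    intro y hy
    have hy' : y ∈ Subgroup.zpowers x := by
      rw [heq]
      exact hy
    obtain ⟨i, rfl⟩ := Subgroup.mem_zpowers_iff.mp hy'
    exact ((hc.zpow_right i).eq).symm
  have hPC : (P : Subgroup G) ≤ Subgroup.centralizer ((P : Subgroup G) : Set G) := by
    intro y hy
    apply hcent_of
    have hy' : y ∈ Subgroup.zpowers x := by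
      rw [heq]
      exact hy
    obtain ⟨i, rfl⟩ := Subgroup.mem_zpowers_iff.mp hy'
    exact (Commute.refl x).zpow_left i
  have hxP0 : x • P = P := Sylow.smul_eq_iff_mem_normalizer.mpr (Subgroup.le_normalizer hxP)
  set τ : Equiv.Perm (Sylow 17 G) := MulAction.toPermHom G (Sylow 17 G) x with hτ
  have hτapp : ∀ b, τ b = x • b := fun b => rfl
  have hτord : orderOf τ = 17 := by rw [hτ, orderOf_injective _ hfaith, hxord]
  obtain ⟨n, hn⟩ := Equiv.Perm.cycleType_prime_order (σ := τ) (by rw [hτord]; norm_num)
  have hτsupp : τ.support = Finset.univ.erase P := by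
    ext b
    rw [Equiv.Perm.mem_support, hτapp, Finset.mem_erase]
    constructor
    · intro hb
      exact ⟨fun h => hb (h ▸ hxP0), Finset.mem_univ _⟩
    · rintro ⟨hb, -⟩
      exact hfree x hxP hx1 b hb
  have hsupp : τ.support.card = (n + 1) * 17 := by
    rw [← Equiv.Perm.sum_cycleType, hn, hτord, Multiset.sum_replicate, smul_eq_mul]
  have hn1 : n = 1 := by
    rw [hτsupp, Finset.card_erase_of_mem (Finset.mem_univ _), Finset.card_univ, hFcard] at hsupp
    omega
  subst hn1
  have hcentτ : Nat.card (Subgroup.centralizer ({τ} : Set (Equiv.Perm (Sylow 17 G)))) = 578 := by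
    rw [Equiv.Perm.nat_card_centralizer, hn, hτord, hFcard]
    decide
  set C := Subgroup.centralizer ((P : Subgroup G) : Set G) with hC
  have hCdvd : Nat.card C ∣ 578 := by
    rw [← hcentτ]
    have hmap : C.map (MulAction.toPermHom G (Sylow 17 G))
        ≤ Subgroup.centralizer ({τ} : Set (Equiv.Perm (Sylow 17 G))) := by
      rintro _ ⟨c, hc, rfl⟩
      rw [Subgroup.mem_centralizer_iff]
      intro h hh
      rw [Set.mem_singleton_iff] at hh
      rw [hh, hτ, ← map_mul, ← map_mul]
      congr 1
      exact Subgroup.mem_centralizer_iff.mp hc x hxP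
    have hcardmap : Nat.card (C.map (MulAction.toPermHom G (Sylow 17 G))) = Nat.card C :=
      Nat.card_congr (C.equivMapOfInjective _ hfaith).toEquiv.symm
    rw [← hcardmap]
    exact Subgroup.card_dvd_of_le hmap
  have hfact : (Nat.card G).factorization 17 = 1 := by
    have h1 := Sylow.card_eq_multiplicity P
    rw [hPcard] at h1
    have h2 : 17 ^ 1 = 17 ^ (Nat.card G).factorization 17 := by simpa using h1
    exact (Nat.pow_right_injective (by norm_num : 2 ≤ 17) h2).symm
  have hC289 : ¬ 289 ∣ Nat.card C := by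
    intro h
    have h1 : 17 ^ 2 ∣ Nat.card G := by
      have h0 : (17 : ℕ) ^ 2 = 289 := by norm_num
      rw [h0]
      exact h.trans (Subgroup.card_subgroup_dvd_card C)
    have h2 := (Nat.Prime.pow_dvd_iff_le_factorization hp17.out Nat.card_pos.ne').mp h1
    omega
  have hC17 : 17 ∣ Nat.card C := by
    have h0 := Subgroup.card_dvd_of_le hPC
    rwa [hPcard] at h0
  have hCcases : Nat.card C = 17 ∨ Nat.card C = 34 := by
    have hle : Nat.card C ≤ 578 := Nat.le_of_dvd (by norm_num) hCdvd
    obtain ⟨d, hd⟩ := hC17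
    rw [hd] at hCdvd hC289 hle ⊢
    have hd34 : d ≤ 34 := by omega
    have hd0 : d ≠ 0 := by
      rintro rfl
      have := Nat.card_pos (α := C)
      omega
    interval_cases d <;> omega
  have hodd : ¬ 2 ∣ Nat.card C := by
    intro h2
    have hp2 : Fact (Nat.Prime 2) := ⟨Nat.prime_two⟩
    obtain ⟨t', ht'⟩ := exists_prime_orderOf_dvd_card' (G := C) 2 h2
    set t : G := (t' : G) with ht
    have htC : t ∈ C := t'.2
    have htord : orderOf t = 2 := by rw [← ht', ht, Subgroup.orderOf_coe]
    have htP0 : t • P = P :=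
      Sylow.smul_eq_iff_mem_normalizer.mpr (Subgroup.centralizer_le_normalizer _ htC)
    set σ : Equiv.Perm (Sylow 17 G) := MulAction.toPermHom G (Sylow 17 G) t with hσ
    have hσapp : ∀ b, σ b = t • b := fun b => rfl
    have hσord : orderOf σ = 2 := by rw [hσ, orderOf_injective _ hfaith, htord]
    obtain ⟨m, hm⟩ := Equiv.Perm.cycleType_prime_order (σ := σ) (by rw [hσord]; norm_num)
    have hσsupp : σ.support.card = (m + 1) * 2 := by
      rw [← Equiv.Perm.sum_cycleType, hm, hσord, Multiset.sum_replicate, smul_eq_mul]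
    have h17 : 17 ∣ σ.support.card := by
      let S' : SubMulAction (P : Subgroup G) (Sylow 17 G) :=
        { carrier := (σ.support : Set (Sylow 17 G))
          smul_mem' := by
            intro y b hb
            rw [Finset.mem_coe, Equiv.Perm.mem_support, hσapp] at hb ⊢
            intro h
            apply hb
            have hcomm : (y : G) * t = t * (y : G) := Subgroup.mem_centralizer_iff.mp htC y y.2
            have h1 : (y : G) • (t • b) = (y : G) • b := by
              rw [← mul_smul, hcomm, mul_smul]
              exact h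
            exact smul_left_cancel _ h1 }
      have hmod := P.2.card_modEq_card_fixedPoints (α := S')
      have hfp : IsEmpty (MulAction.fixedPoints (P : Subgroup G) S') := by
        refine ⟨fun ⟨⟨b, hb⟩, hfix⟩ => ?_⟩
        have hb' : t • b ≠ b := by
          have hb2 : b ∈ (σ.support : Set (Sylow 17 G)) := hb
          rw [Finset.mem_coe, Equiv.Perm.mem_support, hσapp] at hb2
          exact hb2
        rw [MulAction.mem_fixedPoints] at hfix
        have h1 : x • b = b := congrArg Subtype.val (hfix ⟨x, hxP⟩)
        have h2 : b = P := by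
          by_contra hne
          exact hfree x hxP hx1 b hne h1
        exact hb' (h2 ▸ htP0)
      have hcardS : Nat.card S' = σ.support.card := by
        rw [show Nat.card S' = (σ.support : Set (Sylow 17 G)).ncard from Nat.card_coe_set_eq _,
          Set.ncard_coe_finset]
      rw [hcardS, Nat.card_of_isEmpty] at hmod
      exact (Nat.modEq_zero_iff_dvd).mp hmod
    have hσle : σ.support.card ≤ 34 := by
      have hsub : σ.support ⊆ Finset.univ.erase P := by
        intro b hb
        rw [Finset.mem_erase]
        refine ⟨?_, Finset.mem_univ _⟩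
        rintro rfl
        exact (Equiv.Perm.mem_support.mp hb) htP0
      calc σ.support.card ≤ (Finset.univ.erase P).card := Finset.card_le_card hsub
        _ = 34 := by
          rw [Finset.card_erase_of_mem (Finset.mem_univ _), Finset.card_univ, hFcard]
    have hm16 : m = 16 := by
      obtain ⟨d, hd⟩ := h17
      omega
    subst hm16
    have hsign : Equiv.Perm.sign σ = -1 := by
      rw [Equiv.Perm.sign_of_cycleType, hm, hσord]
      decide
    let ψ : G →* ℤˣ := Equiv.Perm.sign.comp (MulAction.toPermHom G (Sylow 17 G))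
    apply hmin ψ.ker (MonoidHom.normal_ker ψ)
    · intro h
      have h1 : t ∈ ψ.ker := by
        rw [h]
        trivial
      rw [MonoidHom.mem_ker] at h1
      have h3 : ψ t = -1 := hsign
      rw [h3] at h1
      exact absurd h1 (by decide)
    · intro h
      have h1 : ψ.ker.index ∣ 2 := by
        rw [Subgroup.index_ker]
        have h0 := Subgroup.card_subgroup_dvd_card ψ.range
        rwa [Nat.card_eq_fintype_card (α := ℤˣ), Fintype.card_units_int] at h0
      have h4 := Nat.le_of_dvd (by norm_num) (h.trans h1)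
      omega
  have hCcard : Nat.card C = 17 := by
    rcases hCcases with h | h
    · exact h
    · exact absurd (by rw [h]; norm_num) hodd
  have hCP : C = (P : Subgroup G) :=
    (Subgroup.eq_of_le_of_card_ge hPC (by rw [hCcard, hPcard])).symm
  have hNidx : (Subgroup.normalizer ((P : Subgroup G) : Set G)).index = 35 := by
    have h0 := Sylow.card_eq_index_normalizer P
    rw [hcard] at h0
    exact h0.symm
  have hPcyc : IsCyclic (P : Subgroup G) := isCyclic_of_prime_card hPcard
  -- the order of `G` is odd
  have hGodd : ¬ 2 ∣ Nat.card G := by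
    intro h2
    have hp2 : Fact (Nat.Prime 2) := ⟨Nat.prime_two⟩
    obtain ⟨S, hS⟩ := (exists_sylow_le_iff (p := 2)
      (Subgroup.normalizer ((P : Subgroup G) : Set G))).mpr (by rw [hNidx]; norm_num)
    let f : (S : Subgroup G) →* MulAut (P : Subgroup G) :=
      (Subgroup.normalizerMonoidHom (P : Subgroup G)).comp (Subgroup.inclusion hS)
    have hf : Function.Injective f := by
      rw [injective_iff_map_eq_one]
      intro s hs
      have h1 : Subgroup.inclusion hS s ∈ (Subgroup.normalizerMonoidHom (P : Subgroup G)).ker := hs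
      rw [Subgroup.normalizerMonoidHom_ker, Subgroup.mem_subgroupOf] at h1
      have h2 : (s : G) ∈ (P : Subgroup G) := by
        rw [← hCP]
        exact h1
      have h3 : orderOf (s : G) ∣ 17 := by
        have h0 : orderOf (⟨(s : G), h2⟩ : (P : Subgroup G)) ∣ Nat.card (P : Subgroup G) :=
          orderOf_dvd_natCard _
        rw [hPcard] at h0
        rwa [← Subgroup.orderOf_coe] at h0
      obtain ⟨k, hk⟩ := S.2 s
      have h4 : orderOf (s : G) ∣ 2 ^ k :=
        orderOf_dvd_of_pow_eq_one (by simpa using congrArg Subtype.val hk)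
      have h5 : orderOf (s : G) = 1 := by
        have hcop : Nat.Coprime 17 (2 ^ k) := Nat.Coprime.pow_right k (by norm_num)
        exact Nat.eq_one_of_dvd_coprimes hcop h3 h4
      exact Subtype.ext (orderOf_eq_one_iff.mp h5)
    have hAut : IsCyclic (MulAut (P : Subgroup G)) := by
      have : Fact (Nat.Prime (Nat.card (P : Subgroup G))) := ⟨by rw [hPcard]; norm_num⟩
      exact (IsCyclic.mulAutMulEquiv (P : Subgroup G)).isCyclic.mpr inferInstance
    have hScyc : IsCyclic (S : Subgroup G) := isCyclic_of_injective f hf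
    have hminfac : (Nat.card G).minFac = 2 := (Nat.minFac_eq_two_iff _).mpr h2
    obtain ⟨K, hKn, hKidx⟩ := exists_normal_index_of_cyclic_sylow hminfac S hScyc
    obtain ⟨k, hk⟩ := IsPGroup.iff_card.mp S.2
    apply hmin K hKn
    · intro h
      rw [h, Subgroup.index_top] at hKidx
      have h1 := Sylow.card_eq_multiplicity S
      have h0 : 0 < (Nat.card G).factorization 2 :=
        Nat.Prime.factorization_pos_of_dvd Nat.prime_two Nat.card_pos.ne' h2
      rw [← hKidx] at h1
      have h6 := Nat.one_lt_two_pow (by omega : (Nat.card G).factorization 2 ≠ 0)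
      omega
    · rw [hKidx, hk]
      intro h
      have h6 := Nat.Prime.dvd_of_dvd_pow hp17.out h
      exact absurd (Nat.le_of_dvd (by norm_num) h6) (by norm_num)
  -- hence `N_G(P) = P` and `|G| = 595`
  have hNC : Subgroup.normalizer ((P : Subgroup G) : Set G) ≤ C := by
    have key := Subgroup.card_dvd_of_injective _
      (QuotientGroup.kerLift_injective (Subgroup.normalizerMonoidHom (P : Subgroup G)))
    rw [Subgroup.normalizerMonoidHom_ker, ← Subgroup.index, ← Subgroup.relIndex,
      hPcyc.card_mulAut, hPcard, Nat.totient_prime hp17.out] at key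
    have hdvd : C.relIndex (Subgroup.normalizer ((P : Subgroup G) : Set G)) ∣ Nat.card G :=
      (Subgroup.relIndex_dvd_card _ _).trans (Subgroup.card_subgroup_dvd_card _)
    have hone : C.relIndex (Subgroup.normalizer ((P : Subgroup G) : Set G)) = 1 := by
      obtain ⟨j, -, hj⟩ := (Nat.dvd_prime_pow Nat.prime_two).mp
        (show C.relIndex (Subgroup.normalizer ((P : Subgroup G) : Set G)) ∣ 2 ^ 4 from key)
      rcases j with _ | j
      · simpa using hj
      · exfalso
        apply hGodd
        rw [hj] at hdvd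
        exact (dvd_pow_self 2 (Nat.succ_ne_zero j)).trans hdvd
    exact Subgroup.relIndex_eq_one.mp hone
  have hNP : Subgroup.normalizer ((P : Subgroup G) : Set G) = (P : Subgroup G) :=
    le_antisymm (hCP ▸ hNC) Subgroup.le_normalizer
  have hGcard : Nat.card G = 595 := by
    have h0 := Subgroup.card_mul_index (Subgroup.normalizer ((P : Subgroup G) : Set G))
    rw [hNidx, hNP, hPcard] at h0
    omega
  -- a cyclic Sylow 5-subgroup
  have hp5 : Fact (Nat.Prime 5) := ⟨by norm_num⟩
  obtain ⟨Q⟩ : Nonempty (Sylow 5 G) := inferInstance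
  obtain ⟨k, hk⟩ := IsPGroup.iff_card.mp Q.2
  have hQidx := Q.not_dvd_index
  have hmul := Subgroup.card_mul_index (Q : Subgroup G)
  rw [hGcard, hk] at hmul
  have hk1 : k = 1 := by
    rcases k with _ | _ | k
    · exfalso
      apply hQidx
      rw [pow_zero, one_mul] at hmul
      rw [hmul]
      norm_num
    · rfl
    · exfalso
      have h25 : 25 ∣ 595 := by
        rw [← hmul]
        apply Dvd.dvd.mul_right
        exact (by norm_num : (25 : ℕ) = 5 ^ 2) ▸ pow_dvd_pow 5 (by omega)
      omega
  subst hk1
  have hQcyc : IsCyclic (Q : Subgroup G) := isCyclic_of_prime_card (p := 5) (by simpa using hk)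
  have hminfac : (Nat.card G).minFac = 5 := by
    rw [hGcard]
    norm_num
  obtain ⟨K, hKn, hKidx⟩ := exists_normal_index_of_cyclic_sylow hminfac Q hQcyc
  apply hmin K hKn
  · intro h
    rw [h, Subgroup.index_top, hk] at hKidx
    norm_num at hKidx
  · rw [hKidx, hk]
    norm_num

end s35

universe u

/-- `35` is not the number of Sylow `17`-subgroups of a finite group. -/
theorem card_sylow17_ne_35_aux : ∀ (n : ℕ) (G : Type u) [Group G] [Finite G],
    Nat.card G = n → Nat.card (Sylow 17 G) ≠ 35 := by
  intro n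
  induction n using Nat.strong_induction_on with
  | _ n ih =>
    intro G _ _ hn hcard
    have hp17 : Fact (Nat.Prime 17) := ⟨by norm_num⟩
    have hmin : ∀ H : Subgroup G, H.Normal → H ≠ ⊤ → ¬ 17 ∣ H.index → False := by
      intro H hHn hHtop hHidx
      have hlt : Nat.card H < n := by
        rw [← hn, ← Subgroup.card_mul_index H]
        have h1 : H.index ≠ 1 := fun h => hHtop (Subgroup.index_eq_one.mp h)
        have h2 : H.index ≠ 0 := Subgroup.index_ne_zero_of_finite
        have h3 : 0 < Nat.card H := Nat.card_pos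
        have h4 : 2 ≤ H.index := by omega
        nlinarith
      exact ih (Nat.card H) hlt H rfl
        ((card_sylow_of_normal_of_not_dvd_index H hHidx).trans hcard)
    have hfaith : Function.Injective (MulAction.toPermHom G (Sylow 17 G)) := by
      rw [← MonoidHom.ker_eq_bot_iff]
      by_contra hK
      have hKn : ∀ Q : Sylow 17 G, (MulAction.toPermHom G (Sylow 17 G)).ker
          ≤ Subgroup.normalizer ((Q : Subgroup G) : Set G) := by
        intro Q k hk
        rw [MonoidHom.mem_ker] at hk
        have h1 : k • Q = Q := by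
          have := congrArg (fun σ : Equiv.Perm (Sylow 17 G) => σ Q) hk
          simpa using this
        exact Sylow.smul_eq_iff_mem_normalizer.mp h1
      have hcardQ := card_sylow_quotient_of_le_normalizer _ hKn
      have hlt : Nat.card (G ⧸ (MulAction.toPermHom G (Sylow 17 G)).ker) < n := by
        rw [← hn, ← Subgroup.index_eq_card,
          ← Subgroup.card_mul_index (MulAction.toPermHom G (Sylow 17 G)).ker]
        have h1 : 1 < Nat.card (MulAction.toPermHom G (Sylow 17 G)).ker := by
          rw [Subgroup.one_lt_card_iff_ne_bot]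
          exact hK
        have h2 : (MulAction.toPermHom G (Sylow 17 G)).ker.index ≠ 0 :=
          Subgroup.index_ne_zero_of_finite
        have h3 : 0 < (MulAction.toPermHom G (Sylow 17 G)).ker.index := Nat.pos_of_ne_zero h2
        nlinarith
      exact ih _ hlt (G ⧸ (MulAction.toPermHom G (Sylow 17 G)).ker) rfl (hcardQ.trans hcard)
    obtain ⟨P⟩ : Nonempty (Sylow 17 G) := inferInstance
    by_cases hA : ∃ x ∈ P, x ≠ 1 ∧ ∃ a : Sylow 17 G, a ≠ P ∧ x • a = a
    · obtain ⟨x, hxP, hx1, a, ha, hxa⟩ := hA
      exact sylow35_caseA hcard hfaith P x hxP hx1 a ha hxa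
    · push Not at hA
      exact sylow35_caseB hcard hfaith hmin P (fun x hx hx1 a ha => hA x hx hx1 a ha)

/-- `35` is not the number of Sylow `17`-subgroups of a finite group. -/
theorem card_sylow17_ne_35 (G : Type u) [Group G] [Finite G] : Nat.card (Sylow 17 G) ≠ 35 :=
  card_sylow17_ne_35_aux (Nat.card G) G rfl

end Cfsg.Agent.Lib.helper74
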