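import Cfsg.Agent.Lib.helper95.APDefs
import Cfsg.Agent.Lib.helper30.APPERF

/-! S2276 piece B0 (racing copy by helper74): core with the GPC statement as a hypothesis. -/

set_option autoImplicit false

namespace Cfsg.Agent.Lib.helper95.AP

open Equiv

theorem h74_rot_val (M : ℕ) (x : Fin M) :
    ((finRotate M x : Fin M) : ℕ) = if (x : ℕ) + 1 = M then 0 else (x : ℕ) + 1 := by
  cases M with
  | zero => exact x.elim0
  | succ n =>
    rw [coe_finRotate]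
    by_cases h : x = Fin.last n
    · rw [if_pos h, if_pos (by rw [h]; simp)]
    · rw [if_neg h, if_neg]
      intro h'
      apply h
      apply Fin.ext
      simp only [Fin.val_last]; omega

theorem h74_rot (M : ℕ) (i : ℕ) (h : i + 1 < M) :
    finRotate M ⟨i, by omega⟩ = ⟨i + 1, h⟩ := by
  apply Fin.ext
  rw [h74_rot_val]
  show (if i + 1 = M then 0 else i + 1) = i + 1
  rw [if_neg (by omega)]

theorem h74_rot_inv (M : ℕ) (i : ℕ) (h : i + 1 < M) :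
    (finRotate M)⁻¹ ⟨i + 1, h⟩ = ⟨i, by omega⟩ := by
  rw [Equiv.Perm.inv_eq_iff_eq, h74_rot M i h]

theorem h74_fix_two_swaps {M : ℕ} (x y z w : Fin M) (h : [x, y, z, w].Nodup) :
    (Finset.univ.filter (fun u : Fin M => (swap x y * swap z w) u = u)).card = M - 4 := by
  have hd : Equiv.Perm.Disjoint (swap x y) (swap z w) := Equiv.Perm.disjoint_swap_swap h
  have hxy : x ≠ y := by intro e; subst e; simp at h
  have hzw : z ≠ w := by intro e; subst e; simp at h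
  have hs : (swap x y * swap z w).support.card = 4 := by
    rw [hd.card_support_mul, Equiv.Perm.card_support_swap hxy, Equiv.Perm.card_support_swap hzw]
  have hcompl : Finset.univ.filter (fun u : Fin M => (swap x y * swap z w) u = u) =
      (swap x y * swap z w).supportᶜ := by
    ext u
    rw [Finset.mem_compl, Equiv.Perm.mem_support, not_not, Finset.mem_filter]
    exact ⟨fun h => h.2, fun h => ⟨Finset.mem_univ _, h⟩⟩
  rw [hcompl, Finset.card_compl, hs, Fintype.card_fin]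

theorem h74_b0_data (M : ℕ) (hM : 7 ≤ M) :
    ∃ (b₁ b₂ τ : Perm (Fin M)),
      b₁.cycleType = {M} ∧ Equiv.Perm.sign τ = -1 ∧ τ * b₁ * τ⁻¹ = b₂ ∧
      (Finset.univ.filter (fun z : Fin M => (finRotate M * b₁) z = z)).card = M - 4 ∧
      (Finset.univ.filter (fun z : Fin M => (finRotate M * b₂) z = z)).card = M - 4 ∧
      ((b₁ ⟨0, by omega⟩ : Fin M) : ℕ) = 1 ∧ ((b₁ ⟨1, by omega⟩ : Fin M) : ℕ) = 2 ∧
      (∀ y : Fin M, 4 ≤ (y : ℕ) → ((b₁ y : Fin M) : ℕ) = (y : ℕ) - 1) ∧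
      ((b₂ ⟨0, by omega⟩ : Fin M) : ℕ) = 3 ∧ ((b₂ ⟨1, by omega⟩ : Fin M) : ℕ) = 0 ∧
      ((b₂ ⟨2, by omega⟩ : Fin M) : ℕ) = 5 ∧
      (∀ y : Fin M, 7 ≤ (y : ℕ) → ((b₂ y : Fin M) : ℕ) = (y : ℕ) - 1) := by
  obtain ⟨a, ha⟩ : ∃ a : Perm (Fin M), a = finRotate M := ⟨_, rfl⟩
  obtain ⟨c0, hc0⟩ : ∃ c : Fin M, c = ⟨0, by omega⟩ := ⟨_, rfl⟩
  obtain ⟨c1, hc1⟩ : ∃ c : Fin M, c = ⟨1, by omega⟩ := ⟨_, rfl⟩
  obtain ⟨c2, hc2⟩ : ∃ c : Fin M, c = ⟨2, by omega⟩ := ⟨_, rfl⟩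
  obtain ⟨c3, hc3⟩ : ∃ c : Fin M, c = ⟨3, by omega⟩ := ⟨_, rfl⟩
  obtain ⟨c4, hc4⟩ : ∃ c : Fin M, c = ⟨4, by omega⟩ := ⟨_, rfl⟩
  obtain ⟨c5, hc5⟩ : ∃ c : Fin M, c = ⟨5, by omega⟩ := ⟨_, rfl⟩
  obtain ⟨c6, hc6⟩ : ∃ c : Fin M, c = ⟨6, by omega⟩ := ⟨_, rfl⟩
  have v0 : (c0 : ℕ) = 0 := by rw [hc0]
  have v1 : (c1 : ℕ) = 1 := by rw [hc1]
  have v2 : (c2 : ℕ) = 2 := by rw [hc2]
  have v3 : (c3 : ℕ) = 3 := by rw [hc3]
  have v4 : (c4 : ℕ) = 4 := by rw [hc4]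
  have v5 : (c5 : ℕ) = 5 := by rw [hc5]
  have v6 : (c6 : ℕ) = 6 := by rw [hc6]
  have hne : ∀ u v : Fin M, (u : ℕ) ≠ (v : ℕ) → u ≠ v := fun u v h e => h (congrArg Fin.val e)
  have sw : ∀ (u v x : Fin M), (x : ℕ) ≠ u → (x : ℕ) ≠ v → swap u v x = x :=
    fun u v x h1 h2 => Equiv.swap_apply_of_ne_of_ne (hne _ _ h1) (hne _ _ h2)
  have hnodup : ∀ x y z w : Fin M, (x : ℕ) ≠ y → (x : ℕ) ≠ z → (x : ℕ) ≠ w → (y : ℕ) ≠ z →
      (y : ℕ) ≠ w → (z : ℕ) ≠ w → [x, y, z, w].Nodup := by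
    intro x y z w h1 h2 h3 h4 h5 h6
    simp only [List.nodup_cons, List.mem_cons, List.not_mem_nil, or_false, not_or,
      List.nodup_nil, and_true, not_false_eq_true, Fin.ext_iff]
    omega
  -- the rotation on the small points
  have r0 : a c0 = c1 := by rw [ha, hc0, hc1]; exact h74_rot M 0 (by omega)
  have r1 : a c1 = c2 := by rw [ha, hc1, hc2]; exact h74_rot M 1 (by omega)
  have r2 : a c2 = c3 := by rw [ha, hc2, hc3]; exact h74_rot M 2 (by omega)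
  have r4 : a c4 = c5 := by rw [ha, hc4, hc5]; exact h74_rot M 4 (by omega)
  have r5 : a c5 = c6 := by rw [ha, hc5, hc6]; exact h74_rot M 5 (by omega)
  have i1 : a⁻¹ c1 = c0 := by rw [Equiv.Perm.inv_eq_iff_eq, r0]
  have i2 : a⁻¹ c2 = c1 := by rw [Equiv.Perm.inv_eq_iff_eq, r1]
  have i4 : a⁻¹ c4 = c3 := by
    rw [ha, hc4, hc3]; exact h74_rot_inv M 3 (by omega)
  have i5 : a⁻¹ c5 = c4 := by rw [Equiv.Perm.inv_eq_iff_eq, r4]
  have igen : ∀ (k : ℕ) (h : k + 1 < M), a⁻¹ ⟨k + 1, h⟩ = ⟨k, by omega⟩ := by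
    intro k h; rw [ha]; exact h74_rot_inv M k h
  obtain ⟨τ, hτ⟩ : ∃ τ : Perm (Fin M), τ = swap c0 c2 := ⟨_, rfl⟩
  obtain ⟨ρ, hρ⟩ : ∃ ρ : Perm (Fin M), ρ = swap c0 c4 * swap c1 c5 := ⟨_, rfl⟩
  have hτi : τ⁻¹ = swap c0 c2 := by rw [hτ, Equiv.swap_inv]
  have hρi : ρ⁻¹ = swap c1 c5 * swap c0 c4 := by
    rw [hρ, mul_inv_rev, Equiv.swap_inv, Equiv.swap_inv]
  refine ⟨τ * a⁻¹ * τ⁻¹, ρ * a⁻¹ * ρ⁻¹, ρ * τ⁻¹, ?_, ?_, ?_, ?_, ?_, ?_, ?_, ?_, ?_, ?_, ?_, ?_⟩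
  · rw [Equiv.Perm.cycleType_conj, Equiv.Perm.cycleType_inv, ha,
      cycleType_finRotate_of_le (by omega)]
  · rw [Equiv.Perm.sign_mul, Equiv.Perm.sign_inv, hρ, hτ, Equiv.Perm.sign_mul,
      Equiv.Perm.sign_swap (hne c0 c4 (by omega)), Equiv.Perm.sign_swap (hne c1 c5 (by omega)),
      Equiv.Perm.sign_swap (hne c0 c2 (by omega))]
    rfl
  · group
  · have e1 : a * (τ * a⁻¹ * τ⁻¹) = (a * swap c0 c2 * a⁻¹) * swap c0 c2 := by
      rw [hτi, hτ]; group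
    rw [← ha, e1, ← Equiv.swap_apply_apply, r0, r2]
    exact h74_fix_two_swaps c1 c3 c0 c2 (hnodup c1 c3 c0 c2 (by omega) (by omega) (by omega)
      (by omega) (by omega) (by omega))
  · have hcomm : swap c1 c5 * swap c2 c6 = swap c2 c6 * swap c1 c5 :=
      (Equiv.Perm.disjoint_swap_swap (hnodup c1 c5 c2 c6 (by omega) (by omega) (by omega)
      (by omega) (by omega) (by omega))).commute.eq
    have e1 : a * (ρ * a⁻¹ * ρ⁻¹) =
        (a * swap c0 c4 * a⁻¹) * (a * swap c1 c5 * a⁻¹) * (swap c1 c5 * swap c0 c4) := by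
      rw [hρi, hρ]; group
    have e2 : a * (ρ * a⁻¹ * ρ⁻¹) = swap c2 c6 * swap c0 c4 := by
      rw [e1, ← Equiv.swap_apply_apply, ← Equiv.swap_apply_apply, r0, r4, r1, r5, hcomm,
        mul_assoc, ← mul_assoc (swap c1 c5), Equiv.swap_mul_self, one_mul]
    rw [← ha, e2]
    exact h74_fix_two_swaps c2 c6 c0 c4 (hnodup c2 c6 c0 c4 (by omega) (by omega) (by omega)
      (by omega) (by omega) (by omega))
  · -- b₁ 0 = 1
    rw [← hc0]
    show ((τ (a⁻¹ (τ⁻¹ c0)) : Fin M) : ℕ) = 1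
    rw [hτi, Equiv.swap_apply_left, i2, hτ, sw c0 c2 c1 (by omega) (by omega), v1]
  · -- b₁ 1 = 2
    rw [← hc1]
    show ((τ (a⁻¹ (τ⁻¹ c1)) : Fin M) : ℕ) = 2
    rw [hτi, sw c0 c2 c1 (by omega) (by omega), i1, hτ, Equiv.swap_apply_left, v2]
  · -- b₁ y = y - 1
    intro y hy
    obtain ⟨yv, hyM⟩ := y
    have hy' : 4 ≤ yv := hy
    obtain ⟨k, rfl⟩ : ∃ k, yv = k + 1 := ⟨yv - 1, by omega⟩
    show ((τ (a⁻¹ (τ⁻¹ ⟨k + 1, hyM⟩)) : Fin M) : ℕ) = k + 1 - 1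
    rw [hτi, sw c0 c2 ⟨k + 1, hyM⟩ (by show k + 1 ≠ _; omega) (by show k + 1 ≠ _; omega),
      igen k hyM, hτ, sw c0 c2 ⟨k, by omega⟩ (by show k ≠ _; omega) (by show k ≠ _; omega)]
    rfl
  · -- b₂ 0 = 3
    rw [← hc0]
    show ((ρ (a⁻¹ (ρ⁻¹ c0)) : Fin M) : ℕ) = 3
    rw [hρi, Equiv.Perm.mul_apply, Equiv.swap_apply_left, sw c1 c5 c4 (by omega) (by omega), i4,
      hρ, Equiv.Perm.mul_apply, sw c1 c5 c3 (by omega) (by omega),
      sw c0 c4 c3 (by omega) (by omega), v3]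
  · -- b₂ 1 = 0
    rw [← hc1]
    show ((ρ (a⁻¹ (ρ⁻¹ c1)) : Fin M) : ℕ) = 0
    rw [hρi, Equiv.Perm.mul_apply, sw c0 c4 c1 (by omega) (by omega), Equiv.swap_apply_left, i5,
      hρ, Equiv.Perm.mul_apply, sw c1 c5 c4 (by omega) (by omega), Equiv.swap_apply_right, v0]
  · -- b₂ 2 = 5
    rw [← hc2]
    show ((ρ (a⁻¹ (ρ⁻¹ c2)) : Fin M) : ℕ) = 5
    rw [hρi, Equiv.Perm.mul_apply, sw c0 c4 c2 (by omega) (by omega),
      sw c1 c5 c2 (by omega) (by omega), i2, hρ, Equiv.Perm.mul_apply, Equiv.swap_apply_left,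
      sw c0 c4 c5 (by omega) (by omega), v5]
  · -- b₂ y = y - 1
    intro y hy
    obtain ⟨yv, hyM⟩ := y
    have hy' : 7 ≤ yv := hy
    obtain ⟨k, rfl⟩ : ∃ k, yv = k + 1 := ⟨yv - 1, by omega⟩
    show ((ρ (a⁻¹ (ρ⁻¹ ⟨k + 1, hyM⟩)) : Fin M) : ℕ) = k + 1 - 1
    rw [hρi, Equiv.Perm.mul_apply,
      sw c0 c4 ⟨k + 1, hyM⟩ (by show k + 1 ≠ _; omega) (by show k + 1 ≠ _; omega),
      sw c1 c5 ⟨k + 1, hyM⟩ (by show k + 1 ≠ _; omega) (by show k + 1 ≠ _; omega),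
      igen k hyM, hρ, Equiv.Perm.mul_apply,
      sw c1 c5 ⟨k, by omega⟩ (by show k ≠ _; omega) (by show k ≠ _; omega),
      sw c0 c4 ⟨k, by omega⟩ (by show k ≠ _; omega) (by show k ≠ _; omega)]
    rfl

/-- the rotation of `Fin 5` -/
def h74_a5 : Perm (Fin 5) := finRotate 5
/-- the 5-cycle `b` for `M = 5` -/
def h74_b5 : Perm (Fin 5) := swap 0 2 * (finRotate 5)⁻¹ * (swap 0 2)⁻¹
/-- the odd conjugator for `M = 5` -/
def h74_t5 : Perm (Fin 5) := (swap 0 1 * swap 1 2) * (swap 0 2)⁻¹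

set_option maxRecDepth 100000 in
theorem h74_b0_five : ∃ b : Perm (Fin 5), b.cycleType = {5} ∧ GoodBoth 5 (finRotate 5) b := by
  have hmemA : ∀ (a b : Perm (Fin 5)), a ∈ Subgroup.closure ({a, b} : Set (Perm (Fin 5))) :=
    fun a b => Subgroup.subset_closure (Set.mem_insert a {b})
  have hmemB : ∀ (a b : Perm (Fin 5)), b ∈ Subgroup.closure ({a, b} : Set (Perm (Fin 5))) :=
    fun a b => Subgroup.subset_closure (Set.mem_insert_of_mem a rfl)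
  have hno : ∀ k : ℕ, (2 : ℕ) ≠ 5 ^ k ∧ (3 : ℕ) ≠ 5 ^ k := by
    intro k
    rcases k with _ | k
    · simp
    · have h5 : 5 ∣ 5 ^ (k + 1) := dvd_pow_self 5 (Nat.succ_ne_zero k)
      constructor <;> (intro h; rw [← h] at h5; omega)
  refine ⟨h74_b5, ?_, ⟨?_, ?_⟩, h74_t5, ?_, ?_, ?_⟩
  · show (swap 0 2 * (finRotate 5)⁻¹ * (swap 0 2)⁻¹).cycleType = {5}
    rw [Equiv.Perm.cycleType_conj, Equiv.Perm.cycleType_inv,
      cycleType_finRotate_of_le (by norm_num)]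
  · rintro ⟨k, hk⟩
    have h2 : orderOf (finRotate 5 * h74_b5) = 2 := orderOf_eq_prime (by decide) (by decide)
    rw [h2] at hk
    exact (hno k).1 hk
  · exact perf (finRotate 5) h74_b5 (by decide) (h74_b5 * (finRotate 5)⁻¹) (h74_b5 * h74_b5)
      (finRotate 5 * h74_b5⁻¹) (finRotate 5 * finRotate 5)
      (Subgroup.mul_mem _ (hmemB _ _) (Subgroup.inv_mem _ (hmemA _ _)))
      (Subgroup.mul_mem _ (hmemB _ _) (hmemB _ _))
      (Subgroup.mul_mem _ (hmemA _ _) (Subgroup.inv_mem _ (hmemB _ _)))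
      (Subgroup.mul_mem _ (hmemA _ _) (hmemA _ _))
      (by decide) (by decide)
  · show Equiv.Perm.sign ((swap (0 : Fin 5) 1 * swap 1 2) * (swap 0 2)⁻¹) = -1
    rw [Equiv.Perm.sign_mul, Equiv.Perm.sign_inv, Equiv.Perm.sign_mul,
      Equiv.Perm.sign_swap (by decide), Equiv.Perm.sign_swap (by decide),
      Equiv.Perm.sign_swap (by decide)]
    rfl
  · rintro ⟨k, hk⟩
    have h3 : orderOf (finRotate 5 * (h74_t5 * h74_b5 * h74_t5⁻¹)) = 3 :=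
      orderOf_eq_prime (by decide) (by decide)
    rw [h3] at hk
    exact (hno k).2 hk
  · exact perf (finRotate 5) (h74_t5 * h74_b5 * h74_t5⁻¹) (by decide)
      (h74_t5 * h74_b5 * h74_t5⁻¹) ((h74_t5 * h74_b5 * h74_t5⁻¹) * (finRotate 5)⁻¹)
      (finRotate 5) (finRotate 5 * (h74_t5 * h74_b5 * h74_t5⁻¹)⁻¹)
      (hmemB _ _)
      (Subgroup.mul_mem _ (hmemB _ _) (Subgroup.inv_mem _ (hmemA _ _)))
      (hmemA _ _)
      (Subgroup.mul_mem _ (hmemA _ _) (Subgroup.inv_mem _ (hmemB _ _)))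
      (by decide) (by decide)

theorem h74_b0_core
    (hgpc : ∀ (p : ℕ) (hp : p.Prime) (hp3 : 3 ≤ p) (e : ℕ) (he : 1 ≤ e) (b : Perm (Fin (p ^ e)))
      (x y : Fin (p ^ e)) (hxy : ((p ^ (e - 1) : ℕ) : ℤ) ∣ ((x : ℕ) : ℤ) - ((y : ℕ) : ℤ))
      (hbxy : ¬ (p : ℤ) ∣ (((b x : Fin (p ^ e)) : ℕ) : ℤ) - (((b y : Fin (p ^ e)) : ℕ) : ℤ))
      (f : ℕ)
      (hf : (Finset.univ.filter (fun z : Fin (p ^ e) => (finRotate (p ^ e) * b) z = z)).card = f)
      (hf2 : 2 ≤ f) (hfp : ¬ p ∣ f), Good p (finRotate (p ^ e)) b)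
    (p : ℕ) (hp : p.Prime) (hp3 : 3 ≤ p) (e : ℕ) (h5 : 5 ≤ p ^ e) :
    ∃ b : Perm (Fin (p ^ e)), b.cycleType = {p ^ e} ∧ GoodBoth p (finRotate (p ^ e)) b := by
  have he : 1 ≤ e := by
    rcases Nat.eq_zero_or_pos e with h | h
    · rw [h] at h5; simp at h5
    · exact h
  by_cases h7 : 7 ≤ p ^ e
  · obtain ⟨b₁, b₂, τ, hct, hsign, hconj, hf1, hf2, v10, v11, v1g, v20, v21, v22, v2g⟩ :=
      h74_b0_data (p ^ e) h7
    have hpM : p ∣ p ^ e := dvd_pow_self p (by omega)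
    have hp4 : ¬ p ∣ 4 := by
      intro h
      have hle := Nat.le_of_dvd (by norm_num) h
      interval_cases p
      · omega
      · exact absurd hp (by decide)
    have hfp : ¬ p ∣ p ^ e - 4 := by
      intro h
      apply hp4
      have h4 := Nat.dvd_sub hpM h
      rwa [Nat.sub_sub_self (by omega)] at h4
    have hnd : ∀ (z : ℤ) (c : ℕ), z.natAbs = c → 0 < c → c < p → ¬ (p : ℤ) ∣ z := by
      intro z c hz hc hcp h
      rw [Int.natCast_dvd, hz] at h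
      exact absurd (Nat.le_of_dvd hc h) (by omega)
    rcases Nat.lt_or_ge e 2 with he1 | he2
    · have e1 : e = 1 := by omega
      have hpp : p ^ e = p := by rw [e1, pow_one]
      refine ⟨b₁, hct, ?_, τ, hsign, ?_⟩
      · refine hgpc p hp hp3 e he b₁ ⟨0, by omega⟩ ⟨1, by omega⟩ ?_ ?_ (p ^ e - 4) hf1
          (by omega) hfp
        · have h0 : p ^ (e - 1) = 1 := by rw [e1]; simp
          rw [h0]; simp
        · rw [v10, v11]
          exact hnd _ 1 (by norm_num) (by norm_num) (by omega)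
      · rw [hconj]
        refine hgpc p hp hp3 e he b₂ ⟨0, by omega⟩ ⟨1, by omega⟩ ?_ ?_ (p ^ e - 4) hf2
          (by omega) hfp
        · have h0 : p ^ (e - 1) = 1 := by rw [e1]; simp
          rw [h0]; simp
        · rw [v20, v21]
          exact hnd _ 3 (by norm_num) (by norm_num) (by omega)
    · obtain ⟨q, hq⟩ : ∃ q, q = p ^ (e - 1) := ⟨_, rfl⟩
      have hMq : p ^ e = p * q := by
        rw [hq, ← pow_succ']; congr 1; omega
      have hpq : p ∣ q := by rw [hq]; exact dvd_pow_self p (by omega)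
      have hq0 : 0 < q := by rw [hq]; exact pow_pos hp.pos _
      have hq3 : 3 ≤ q := le_trans hp3 (Nat.le_of_dvd hq0 hpq)
      have h3q : 3 * q ≤ p * q := Nat.mul_le_mul_right q hp3
      have hqM : q ∣ p ^ e := by rw [hMq]; exact dvd_mul_left q p
      have hylt : p ^ e - q < p ^ e := by omega
      have hy4 : 4 ≤ p ^ e - q := by omega
      have hylt2 : p ^ e - q + 2 < p ^ e := by omega
      have hby : ((b₁ ⟨p ^ e - q, hylt⟩ : Fin (p ^ e)) : ℕ) = p ^ e - q - 1 :=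
        v1g ⟨p ^ e - q, hylt⟩ hy4
      have hby2 : ((b₂ ⟨p ^ e - q + 2, hylt2⟩ : Fin (p ^ e)) : ℕ) = p ^ e - q + 2 - 1 :=
        v2g ⟨p ^ e - q + 2, hylt2⟩ (by show 7 ≤ p ^ e - q + 2; omega)
      have h1 : (q : ℤ) ∣ ((p ^ e - q : ℕ) : ℤ) :=
        Int.natCast_dvd_natCast.2 (Nat.dvd_sub hqM (dvd_refl q))
      have hY : (p : ℤ) ∣ ((p ^ e - q : ℕ) : ℤ) :=
        Int.natCast_dvd_natCast.2 (Nat.dvd_sub hpM hpq)
      refine ⟨b₁, hct, ?_, τ, hsign, ?_⟩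
      · refine hgpc p hp hp3 e he b₁ ⟨0, by omega⟩ ⟨p ^ e - q, hylt⟩ ?_ ?_ (p ^ e - 4) hf1
          (by omega) hfp
        · rw [← hq]
          have h0 : (q : ℤ) ∣ ((0 : ℕ) : ℤ) := by simp
          exact dvd_sub h0 h1
        · rw [v10, hby]
          intro h
          have h2 : (p : ℤ) ∣ 2 := by
            have h3 := dvd_add h hY
            have e3 : ((1 : ℕ) : ℤ) - ((p ^ e - q - 1 : ℕ) : ℤ) + ((p ^ e - q : ℕ) : ℤ) = 2 := by
              omega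
            rwa [e3] at h3
          have h4 : p ∣ 2 := Int.natCast_dvd_natCast.1 (by exact_mod_cast h2)
          have := Nat.le_of_dvd (by norm_num) h4
          omega
      · rw [hconj]
        refine hgpc p hp hp3 e he b₂ ⟨2, by omega⟩ ⟨p ^ e - q + 2, hylt2⟩ ?_ ?_ (p ^ e - 4) hf2
          (by omega) hfp
        · rw [← hq]
          have e4 : ((2 : ℕ) : ℤ) - ((p ^ e - q + 2 : ℕ) : ℤ) = -((p ^ e - q : ℕ) : ℤ) := by
            omega
          have hgoal : (q : ℤ) ∣ ((2 : ℕ) : ℤ) - ((p ^ e - q + 2 : ℕ) : ℤ) := by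
            rw [e4]; exact (dvd_neg).2 h1
          exact hgoal
        · rw [v22, hby2]
          intro h
          have h2 : (p : ℤ) ∣ 4 := by
            have h3 := dvd_add h hY
            have e3 : ((5 : ℕ) : ℤ) - ((p ^ e - q + 2 - 1 : ℕ) : ℤ) + ((p ^ e - q : ℕ) : ℤ) = 4 := by
              omega
            rwa [e3] at h3
          exact hp4 (Int.natCast_dvd_natCast.1 (by exact_mod_cast h2))
  · have h56 : p ^ e ≤ 6 := by omega
    have e1 : e = 1 := by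
      by_contra hne
      have he2 : 2 ≤ e := by omega
      have h9 : 3 ^ 2 ≤ p ^ e :=
        le_trans (Nat.pow_le_pow_left hp3 2) (Nat.pow_le_pow_right (by omega) he2)
      omega
    subst e1
    rw [pow_one] at h5 h56
    have hp5 : p = 5 := by
      interval_cases p
      · rfl
      · exact absurd hp (by decide)
    subst hp5
    exact h74_b0_five

end Cfsg.Agent.Lib.helper95.AP
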