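import Mathlib
import Cfsg.Agent.Lib.helper29.BG1366Defs
import Cfsg.Agent.S1430
import Cfsg.Agent.Lib.helper13.BGZhat
import Cfsg.Agent.Lib.helper59.BG1431Fin

/-!
# S1366, piece FT (`family_TI`): the hypothesis `hTI` of `helper74.BGCount.count_core`
-/

set_option autoImplicit false

namespace Cfsg.Agent.Lib.helper74.BG1366

open Cfsg Cfsg.Agent.Lib.helper29.BG1366

variable {G : Type*} [Group G]

/-- S1430 in hypothesis form. -/
theorem ft_h1430 [Finite G] (hG : IsMinSimpleOddOrder G) : Cfsg.Agent.Lib.helper69.H1430 G :=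
  fun M hM K hK hK1 => Cfsg.Agent.S1430.result hG M hM K hK hK1

/-- An element of `Z = KL ⊔ KL*` lying in `L_σ` lies in `KL* = L_σ ⊓ C(KL)`. -/
theorem ft_mem_ks [Finite G] (hG : IsMinSimpleOddOrder G) {Z L KL : Subgroup G}
    (h : Member Z L KL) {x : G} (hxZ : x ∈ Z) (hxσ : x ∈ sigmaCore L) :
    x ∈ sigmaCore L ⊓ Subgroup.centralizer (KL : Set G) := by
  obtain ⟨hcomm, -, -, hKσ⟩ :=
    Cfsg.Agent.Lib.helper13.bgz_setup hG (ft_h1430 hG) L h.coatom KL h.hall h.ne_bot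
  rw [h.zeq] at hxZ
  obtain ⟨a, ha, b, hb, rfl⟩ := Cfsg.Agent.Lib.helper13.bgz_decomp hcomm hxZ
  have ha' : a ∈ KL ⊓ sigmaCore L := by
    refine ⟨ha, ?_⟩
    have : a = (a * b) * b⁻¹ := by group
    rw [this]
    exact (sigmaCore L).mul_mem hxσ ((sigmaCore L).inv_mem hb.1)
  rw [hKσ, Subgroup.mem_bot] at ha'
  rw [ha', one_mul]
  exact hb

/-- A non-identity element has a power of prime order. -/
theorem ft_exists_prime_pow {x : G} [Finite G] (hx1 : x ≠ 1) :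
    ∃ m : ℕ, (orderOf (x ^ m)).Prime := by
  have hox : orderOf x ≠ 1 := by rwa [Ne, orderOf_eq_one_iff]
  obtain ⟨p, hp, hpx⟩ := Nat.exists_prime_and_dvd hox
  refine ⟨orderOf x / p, ?_⟩
  rw [orderOf_pow_orderOf_div (orderOf_pos x).ne' hpx]
  exact hp

/-- PIECE FT.  Hypothesis `hTI` of `count_core`. -/
theorem family_TI [Finite G] (hG : IsMinSimpleOddOrder G) (Z : Subgroup G) {ι : Type*} [Nonempty ι]
    (L KL : ι → Subgroup G) (hmem : ∀ i, Member Z (L i) (KL i))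
    (hcov : ∀ Y : Subgroup G, Y ≤ Z → (Nat.card Y).Prime → ∃ i, Y ≤ sigmaCore (L i)) :
    ∀ z ∈ Z, (∀ i, z ∉ sigmaCore (L i)) → ∀ g : G, g * z * g⁻¹ ∈ Z → g ∈ Z := by
  intro z hzZ hz g hgz
  have h30 := ft_h1430 hG
  have h31 := Cfsg.Agent.Lib.helper59.BG1431.h1431_of_h1430 hG h30
  -- z ≠ 1
  have hz1 : z ≠ 1 := by
    rintro rfl
    obtain ⟨i⟩ := ‹Nonempty ι›
    exact hz i (one_mem _)
  obtain ⟨m, hm⟩ := ft_exists_prime_pow hz1
  have hYZ : Subgroup.zpowers (z ^ m) ≤ Z := Subgroup.zpowers_le.mpr (Z.pow_mem hzZ m)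
  have hYp : (Nat.card (Subgroup.zpowers (z ^ m))).Prime := by rw [Nat.card_zpowers]; exact hm
  obtain ⟨i, hi⟩ := hcov _ hYZ hYp
  have hyσ : z ^ m ∈ sigmaCore (L i) := hi (Subgroup.mem_zpowers _)
  have hy1 : z ^ m ≠ 1 := by
    intro h
    rw [h, orderOf_one] at hm
    exact Nat.not_prime_one hm
  have hM := hmem i
  obtain ⟨hcomm, hcop, hKs1, hKσ⟩ :=
    Cfsg.Agent.Lib.helper13.bgz_setup hG h30 (L i) hM.coatom (KL i) hM.hall hM.ne_bot
  obtain ⟨h1, h2⟩ := h31 (L i) hM.coatom (KL i) hM.hall hM.ne_bot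
  have hKsM : sigmaCore (L i) ⊓ Subgroup.centralizer (KL i : Set G) ≤ L i :=
    inf_le_left.trans (Cfsg.Agent.Lib.helper71.BGA.sigmaCore_le (L i))
  have hdisj : KL i ⊓ (sigmaCore (L i) ⊓ Subgroup.centralizer (KL i : Set G)) = ⊥ := by
    rw [← inf_assoc, hKσ, bot_inf_eq]
  have hzZ' := hzZ
  rw [hM.zeq] at hzZ'
  obtain ⟨a, ha, b, hb, hzab⟩ := Cfsg.Agent.Lib.helper13.bgz_decomp hcomm hzZ'
  have hab := hcomm a ha b hb
  -- b ≠ 1
  have hb1 : b ≠ 1 := by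
    rintro rfl
    rw [mul_one] at hzab
    have : z ^ m ∈ KL i ⊓ sigmaCore (L i) := ⟨by rw [hzab]; exact (KL i).pow_mem ha m, hyσ⟩
    rw [hKσ, Subgroup.mem_bot] at this
    exact hy1 this
  -- a ≠ 1
  have ha1 : a ≠ 1 := by
    rintro rfl
    rw [one_mul] at hzab
    exact hz i (by rw [hzab]; exact hb.1)
  have hzhat : z ∈ (↑(KL i ⊔ (sigmaCore (L i) ⊓ Subgroup.centralizer (KL i : Set G))) : Set G) \
      ((KL i : Set G) ∪ ↑(sigmaCore (L i) ⊓ Subgroup.centralizer (KL i : Set G))) := by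
    rw [hzab]
    exact Cfsg.Agent.Lib.helper13.bgz_mul_mem hdisj ha ha1 hb hb1
  obtain ⟨e, he⟩ := Cfsg.Agent.Lib.helper13.bgz_exists_pow hcop
  obtain ⟨e', he'⟩ := Cfsg.Agent.Lib.helper13.bgz_exists_pow hcop.symm
  have hgz' := hgz
  rw [hM.zeq] at hgz'
  have hgzhat : g * z * g⁻¹ ∈
      (↑(KL i ⊔ (sigmaCore (L i) ⊓ Subgroup.centralizer (KL i : Set G))) : Set G) \
      ((KL i : Set G) ∪ ↑(sigmaCore (L i) ⊓ Subgroup.centralizer (KL i : Set G))) := by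
    refine ⟨hgz', ?_⟩
    rintro (hK | hKs)
    · -- g z g⁻¹ ∈ KL i : then (g z g⁻¹)^e = 1, so b = 1
      have h1' : (g * z * g⁻¹ * 1) ^ e = 1 := he _ hK 1 (one_mem _) (by simp)
      rw [mul_one, conj_zpow, hzab, he a ha b hb hab] at h1'
      apply hb1
      have := congrArg (fun t => g⁻¹ * t * g) h1'
      simpa [mul_assoc] using this
    · have h1' : (g * z * g⁻¹ * 1) ^ e' = 1 := he' _ hKs 1 (one_mem _) (by simp)
      rw [mul_one, conj_zpow, hzab, hab, he' b hb a ha hab.symm] at h1'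
      apply ha1
      have := congrArg (fun t => g⁻¹ * t * g) h1'
      simpa [mul_assoc] using this
  have := Cfsg.Agent.Lib.helper13.bgz_conj_mem hcomm hcop h1 h2 hKsM hzhat hgzhat
  rw [hM.zeq]
  exact this

end Cfsg.Agent.Lib.helper74.BG1366
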