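import Mathlib
import Cfsg.Agent.Lib.helper74.CG6

/-!
# The two largest class sizes are coprime: first consequences

`TL G m n`: `m > n > 1` are coprime, `m` is the largest class size, every class size below `m`
is at most `n`, and both occur.
-/

set_option autoImplicit false

namespace Cfsg.Agent.Lib.helper74

/-- `m > n > 1` coprime, `m` the largest class size, `n` a bound for all the others. -/
structure TL (G : Type*) [Group G] (m n : ℕ) : Prop where
  hn : 1 < n
  hmn : n < m
  cop : m.Coprime n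
  top : ∀ z : G, csz z ≤ m
  sec : ∀ z : G, csz z < m → csz z ≤ n
  exn : ∃ x : G, csz x = n
  exm : ∃ y : G, csz y = m

variable {G : Type*} [Group G]

theorem cent_center_mul {z ν : G} (hz : z ∈ Subgroup.center G) :
    Subgroup.centralizer ({z * ν} : Set G) = Subgroup.centralizer ({ν} : Set G) := by
  have hz' := Subgroup.mem_center_iff.mp hz
  ext g
  rw [mem_cent_sing, mem_cent_sing]
  constructor
  · intro h
    have : z * (ν * g) = z * (g * ν) := by
      calc z * (ν * g) = z * ν * g := by group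
        _ = g * (z * ν) := h
        _ = (g * z) * ν := by group
        _ = z * (g * ν) := by rw [hz' g]; group
    exact mul_left_cancel this
  · intro h
    calc z * ν * g = z * (ν * g) := by group
      _ = z * (g * ν) := by rw [h]
      _ = (z * g) * ν := by group
      _ = g * (z * ν) := by rw [← hz' g]; group

theorem csz_zpow_dvd [Finite G] (u : G) (k : ℤ) : csz (u ^ k) ∣ csz u :=
  Subgroup.index_dvd_of_le (cent_le_cent_zpow u k)

section

variable [Finite G] {m n : ℕ}

theorem TL.csz_mul_top (h : TL G m n) {a b : G} (ha : (csz a).Coprime m) (hb : csz b = m) :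
    csz (a * b) = m := by
  have h1 : csz b ≤ csz (a * b) := csz_le_mul (by rw [hb]; exact ha)
  have h2 := h.top (a * b)
  omega

theorem TL.stab (h : TL G m n) (T : G → Prop) (hT : ∀ a, T a → (csz a).Coprime m) {b : G}
    (hb : csz b = m) : ∀ ν ∈ comSub T, ∀ x, IsConj b x → IsConj b (ν * x) :=
  stab_gen T (fun a ha => ⟨by rw [hb]; exact hT a ha, by rw [h.csz_mul_top (hT a ha) hb, hb]⟩)

theorem TL.card_dvd (h : TL G m n) (T : G → Prop) (hT : ∀ a, T a → (csz a).Coprime m) :
    Nat.card (comSub T) ∣ m := by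
  obtain ⟨y, hy⟩ := h.exm
  have := card_dvd_csz_of_stab (comSub T) y (h.stab T hT hy)
  rwa [hy] at this

/-- Itô's argument for the largest class size. -/
theorem TL.ito_top (h : TL G m n) {b v : G} (hb : csz b = m) (hc : Commute b v)
    (ho : (orderOf b).Coprime (orderOf v)) :
    Subgroup.centralizer ({b} : Set G) ≤ Subgroup.centralizer ({v} : Set G) := by
  have h1 := cent_mul_le hc ho
  have h2 : Subgroup.centralizer ({b * v} : Set G) ≤ Subgroup.centralizer ({b} : Set G) :=
    h1.trans inf_le_left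
  have h3 : Subgroup.centralizer ({b} : Set G) ≤ Subgroup.centralizer ({b * v} : Set G) :=
    le_of_le_of_index_le h2 (by show csz (b * v) ≤ csz b; rw [hb]; exact h.top _)
  exact h3.trans (h1.trans inf_le_right)

/-- Itô's argument for the second largest class size. -/
theorem TL.ito_sec (h : TL G m n) {x v : G} (hx : csz x = n) (hc : Commute x v)
    (ho : (orderOf x).Coprime (orderOf v)) :
    Subgroup.centralizer ({x} : Set G) ≤ Subgroup.centralizer ({v} : Set G) := by
  have h1 := cent_mul_le hc ho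
  have h2 : Subgroup.centralizer ({x * v} : Set G) ≤ Subgroup.centralizer ({x} : Set G) :=
    h1.trans inf_le_left
  have hd : csz x ∣ csz (x * v) := Subgroup.index_dvd_of_le h2
  have hle : csz (x * v) ≤ n := by
    by_contra hcon
    have h4 : csz (x * v) = m := by
      have := h.top (x * v)
      by_contra h5
      exact hcon (h.sec _ (lt_of_le_of_ne this h5))
    rw [hx, h4] at hd
    have := Nat.eq_one_of_dvd_coprimes h.cop hd (dvd_refl n)
    have := h.hn
    omega
  have h3 : Subgroup.centralizer ({x} : Set G) ≤ Subgroup.centralizer ({x * v} : Set G) :=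
    le_of_le_of_index_le h2 (by show csz (x * v) ≤ csz x; rw [hx]; exact hle)
  exact h3.trans (h1.trans inf_le_right)

/-- A non-central class of size below `m` has size not coprime to `n`. -/
theorem TL.not_coprime (h : TL G m n) {c : G} (hc1 : csz c ≠ 1) (hcm : csz c < m) :
    ¬ (csz c).Coprime n := by
  intro hcop
  obtain ⟨x, hx⟩ := h.exn
  have hk := h.sec c hcm
  have hkpos := csz_pos c
  have hcx : (csz c).Coprime (csz x) := by rw [hx]; exact hcop
  have h1 : csz x ≤ csz (c * x) := csz_le_mul hcx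
  have h2 : csz (c * x) ∣ csz c * csz x := csz_mul_dvd hcx
  have h3 : csz (c * x) = n := by
    have h4 := h.top (c * x)
    by_cases h5 : csz (c * x) = m
    · exfalso
      rw [h5, hx] at h2
      have h6 : m ∣ csz c := (h.cop).dvd_of_dvd_mul_right h2
      have := Nat.le_of_dvd hkpos h6
      omega
    · have := h.sec (c * x) (lt_of_le_of_ne h4 h5)
      omega
  have hNc : Nat.card (comSub (fun a : G => a = c)) ∣ n := by
    have := card_dvd_csz_of_stab (comSub (fun a : G => a = c)) x (stab_gen _ (fun a ha => by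
      subst ha
      exact ⟨hcx, by rw [h3, hx]⟩))
    rwa [hx] at this
  have hKx : Nat.card (comSub (fun a : G => a = x)) ∣ m :=
    h.card_dvd _ (fun a ha => by subst ha; rw [hx]; exact h.cop.symm)
  have hcopNK : (Nat.card (comSub (fun a : G => a = x))).Coprime
      (Nat.card (comSub (fun a : G => a = c))) :=
    Nat.Coprime.coprime_dvd_left hKx (Nat.Coprime.coprime_dvd_right hNc h.cop)
  have hle : Subgroup.centralizer ({x * c} : Set G)
      ≤ Subgroup.centralizer ({x} : Set G) ⊓ Subgroup.centralizer ({c} : Set G) := by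
    intro g hg
    rw [mem_cent_sing] at hg
    have e0 : g * (x * c) * g⁻¹ = x * c := by rw [← hg]; group
    have e : x⁻¹ * (g * x * g⁻¹) = c * (g * c * g⁻¹)⁻¹ := by
      calc x⁻¹ * (g * x * g⁻¹) = x⁻¹ * (g * (x * c) * g⁻¹) * (g * c * g⁻¹)⁻¹ := by group
        _ = x⁻¹ * (x * c) * (g * c * g⁻¹)⁻¹ := by rw [e0]
        _ = c * (g * c * g⁻¹)⁻¹ := by group
    have hw1 : x⁻¹ * (g * x * g⁻¹) ∈ comSub (fun a : G => a = x) := by
      have := mem_comSub_gen (T := fun a : G => a = x) rfl g 1
      simpa using this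
    have hw2 : c * (g * c * g⁻¹)⁻¹ ∈ comSub (fun a : G => a = c) := by
      have t := mem_comSub_gen (T := fun a : G => a = c) rfl 1 g
      have t2 := (comSub_normal (fun a : G => a = c)).conj_mem _ t c
      have e2 : c * ((g * c * g⁻¹)⁻¹ * (1 * c * 1⁻¹)) * c⁻¹ = c * (g * c * g⁻¹)⁻¹ := by group
      rw [e2] at t2; exact t2
    have hw : x⁻¹ * (g * x * g⁻¹) = 1 := by
      have o1 := Subgroup.orderOf_dvd_natCard _ hw1
      have o2 := Subgroup.orderOf_dvd_natCard _ (e ▸ hw2)
      exact orderOf_eq_one_iff.mp (Nat.eq_one_of_dvd_coprimes hcopNK o1 o2)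
    rw [Subgroup.mem_inf, mem_cent_sing, mem_cent_sing]
    constructor
    · have e3 : g * x * g⁻¹ = x := by
        calc g * x * g⁻¹ = x * (x⁻¹ * (g * x * g⁻¹)) := by group
          _ = x := by rw [hw, mul_one]
      calc x * g = (g * x * g⁻¹) * g := by rw [e3]
        _ = g * x := by group
    · have hw' : c * (g * c * g⁻¹)⁻¹ = 1 := by rw [← e]; exact hw
      have e3 : g * c * g⁻¹ = c := by
        calc g * c * g⁻¹ = (c * (g * c * g⁻¹)⁻¹)⁻¹ * c := by group
          _ = c := by rw [hw', inv_one, one_mul]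
      calc c * g = (g * c * g⁻¹) * g := by rw [e3]
        _ = g * c := by group
  have hidx : (Subgroup.centralizer ({x} : Set G) ⊓ Subgroup.centralizer ({c} : Set G)).index
      = csz x * csz c :=
    Cfsg.Agent.Lib.helper12.index_inf_of_coprime _ _ hcx.symm
  have hdvd : csz x * csz c ∣ csz (x * c) := by
    rw [← hidx]; exact Subgroup.index_dvd_of_le hle
  have hpos := csz_pos (x * c)
  have hge : csz x * csz c ≤ csz (x * c) := Nat.le_of_dvd hpos hdvd
  have hc2 : 2 ≤ csz c := by omega
  have hbig : n < csz (x * c) := by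
    rw [hx] at hge
    have : n * 2 ≤ n * csz c := Nat.mul_le_mul_left n hc2
    have := h.hn
    omega
  have htop : csz (x * c) = m := by
    have := h.top (x * c)
    by_contra h5
    have := h.sec _ (lt_of_le_of_ne this h5)
    omega
  rw [htop, hx] at hdvd
  have hnm : n ∣ m := (dvd_mul_right n (csz c)).trans hdvd
  have := Nat.eq_one_of_dvd_coprimes h.cop hnm (dvd_refl n)
  have := h.hn
  omega

theorem TL.csz_of_dvd (h : TL G m n) {c : G} (hd : csz c ∣ m) : csz c = 1 ∨ csz c = m := by
  by_contra hcon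
  push Not at hcon
  have h1 := h.top c
  exact h.not_coprime hcon.1 (lt_of_le_of_ne h1 hcon.2) (Nat.Coprime.coprime_dvd_left hd h.cop)

/-- An element whose class size is coprime to `m` has a central power of exponent dividing `m`. -/
theorem TL.pow_mem_center (h : TL G m n) {v : G} (hv : (csz v).Coprime m) :
    ∃ k : ℕ, k ∣ m ∧ v ^ k ∈ Subgroup.center G := by
  have hNv : Nat.card (comSub (fun a : G => a = v)) ∣ m :=
    h.card_dvd _ (fun a ha => by subst ha; exact hv)
  have hle : comSub (fun a : G => a = v) ≤ Subgroup.centralizer ({v} : Set G) :=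
    le_of_normal_coprime _ _ (Nat.Coprime.coprime_dvd_left hNv hv.symm)
  refine ⟨Nat.card (comSub (fun a : G => a = v)), hNv, ?_⟩
  rw [Subgroup.mem_center_iff]
  intro g
  have hu : v⁻¹ * (g * v * g⁻¹) ∈ comSub (fun a : G => a = v) := by
    have := mem_comSub_gen (T := fun a : G => a = v) rfl g 1
    simpa using this
  have hcomm : Commute v (v⁻¹ * (g * v * g⁻¹)) := mem_cent_sing.mp (hle hu)
  have e1 : g * v * g⁻¹ = v * (v⁻¹ * (g * v * g⁻¹)) := by group
  have e3 : (v⁻¹ * (g * v * g⁻¹)) ^ Nat.card (comSub (fun a : G => a = v)) = 1 :=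
    orderOf_dvd_iff_pow_eq_one.mp (Subgroup.orderOf_dvd_natCard _ hu)
  have e2 : (g * v * g⁻¹) ^ Nat.card (comSub (fun a : G => a = v))
      = v ^ Nat.card (comSub (fun a : G => a = v)) := by
    rw [e1, hcomm.mul_pow, e3, mul_one]
  rw [conj_pow] at e2
  calc g * v ^ Nat.card (comSub (fun a : G => a = v))
      = (g * v ^ Nat.card (comSub (fun a : G => a = v)) * g⁻¹) * g := by group
    _ = v ^ Nat.card (comSub (fun a : G => a = v)) * g := by rw [e2]

/-- An element whose order and class size are coprime to `m` is central. -/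
theorem TL.mem_center_of_coprime (h : TL G m n) {v : G} (hv : (csz v).Coprime m)
    (ho : (orderOf v).Coprime m) : v ∈ Subgroup.center G := by
  obtain ⟨k, hk, hz⟩ := h.pow_mem_center hv
  have hko : (orderOf v).Coprime k := Nat.Coprime.coprime_dvd_right hk ho
  by_cases h1 : orderOf v = 1
  · rw [orderOf_eq_one_iff] at h1; rw [h1]; exact Subgroup.one_mem _
  · have h2 : 1 < orderOf v := by have := orderOf_pos v; omega
    obtain ⟨j, -, hj⟩ := Nat.exists_mul_mod_eq_one_of_coprime hko.symm h2
    have e : (v ^ k) ^ j = v := by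
      rw [← pow_mul]
      have hmod : k * j ≡ 1 [MOD orderOf v] := by
        show k * j % orderOf v = 1 % orderOf v
        rw [hj, Nat.mod_eq_of_lt h2]
      have := pow_eq_pow_iff_modEq.mpr hmod
      rw [this, pow_one]
    rw [← e]; exact Subgroup.pow_mem _ hz j

/-- Removing the `q`-part (`q ∤ m`) of an element of class size coprime to `m`. -/
theorem TL.exists_qfree (h : TL G m n) {v : G} (hv : (csz v).Coprime m) {q : ℕ} (hq : q.Prime)
    (hqm : ¬ q ∣ m) : ∃ v₁ : G, Subgroup.centralizer ({v₁} : Set G)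
      = Subgroup.centralizer ({v} : Set G) ∧ (orderOf v₁).Coprime q := by
  obtain ⟨v', v'', hv', hv'', hvv, hco, i, hi⟩ := exists_pq_decomp v hq
  have hqm' : q.Coprime m := (Nat.Prime.coprime_iff_not_dvd hq).mpr hqm
  have h1 : v'' ∈ Subgroup.center G := by
    obtain ⟨k, rfl⟩ := hv''
    refine h.mem_center_of_coprime (Nat.Coprime.coprime_dvd_left (csz_zpow_dvd v k) hv) ?_
    rw [hi]; exact Nat.Coprime.pow_left i hqm'
  refine ⟨v', ?_, hco⟩
  have e : v = v'' * v' := by
    rw [hvv]; exact (Subgroup.mem_center_iff.mp h1 v')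
  rw [e, cent_center_mul h1]

/-- There is an element of class size `m` of prime power order for a prime not dividing `m`. -/
theorem TL.exists_special (h : TL G m n) :
    ∃ (b : G) (q : ℕ), q.Prime ∧ ¬ q ∣ m ∧ csz b = m ∧ ∃ j, orderOf b = q ^ j := by
  classical
  have hP : ∃ o, ∃ g : G, csz g = m ∧ orderOf g = o := by
    obtain ⟨y, hy⟩ := h.exm
    exact ⟨orderOf y, y, hy, rfl⟩
  obtain ⟨b₀, hb₀, ho⟩ := Nat.find_spec hP
  have hmin : ∀ o', o' < Nat.find hP → ¬ ∃ g : G, csz g = m ∧ orderOf g = o' :=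
    fun o' ho' => Nat.find_min hP ho'
  have hm1 : m ≠ 1 := by have := h.hn; have := h.hmn; omega
  have hb₀1 : b₀ ≠ 1 := by
    rintro rfl
    apply hm1
    rw [← hb₀, csz_eq_one_iff]; exact Subgroup.one_mem _
  have ho1 : orderOf b₀ ≠ 1 := fun h' => hb₀1 (orderOf_eq_one_iff.mp h')
  have hp : (orderOf b₀).minFac.Prime := Nat.minFac_prime ho1
  have hpo : (orderOf b₀).minFac ∣ orderOf b₀ := Nat.minFac_dvd _
  obtain ⟨b', b'', hb', hb'', hbb, hco, i, hi⟩ := exists_pq_decomp b₀ hp
  have hb'c : b' ∈ Subgroup.center G := by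
    have hd : orderOf b' ∣ orderOf b₀ := orderOf_dvd_of_mem_zpowers hb'
    have hlt : orderOf b' < orderOf b₀ := by
      have hle := Nat.le_of_dvd (orderOf_pos b₀) hd
      rcases lt_or_eq_of_le hle with h' | h'
      · exact h'
      · exfalso
        rw [h'] at hco
        exact hp.one_lt.ne' (Nat.eq_one_of_dvd_coprimes hco hpo (dvd_refl _))
    obtain ⟨k, rfl⟩ := hb'
    rcases h.csz_of_dvd ((csz_zpow_dvd b₀ k).trans (by rw [hb₀])) with h' | h'
    · exact (csz_eq_one_iff _).mp h'
    · exact absurd ⟨b₀ ^ k, h', rfl⟩ (hmin _ (by rw [← ho]; exact hlt))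
  have hb''m : csz b'' = m := by
    rw [← hb₀, hbb]
    show (Subgroup.centralizer ({b''} : Set G)).index = (Subgroup.centralizer ({b' * b''} : Set G)).index
    rw [cent_center_mul hb'c]
  by_cases hpm : (orderOf b₀).minFac ∣ m
  · have hs : n.minFac.Prime := Nat.minFac_prime (by have := h.hn; omega)
    have hsn : n.minFac ∣ n := Nat.minFac_dvd _
    have hsm : ¬ n.minFac ∣ m := fun hd =>
      hs.one_lt.ne' (Nat.eq_one_of_dvd_coprimes h.cop hd hsn)
    have : Fact n.minFac.Prime := ⟨hs⟩
    obtain ⟨U⟩ : Nonempty (Sylow n.minFac G) := inferInstance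
    obtain ⟨x, hx⟩ := h.exn
    obtain ⟨g, hg⟩ := exists_conj_commute U b'' (by rw [hb''m]; exact hsm)
    obtain ⟨u₀, hu₀, hu₀Z⟩ := exists_not_mem_center U (a₀ := x) (by rw [hx]; exact hsn)
    have hwZ : g * u₀ * g⁻¹ ∉ Subgroup.center G := by
      intro hw
      apply hu₀Z
      have := (inferInstance : (Subgroup.center G).Normal).conj_mem _ hw g⁻¹
      have e : g⁻¹ * (g * u₀ * g⁻¹) * g⁻¹⁻¹ = u₀ := by group
      rwa [e] at this
    obtain ⟨k, hk⟩ : ∃ k, orderOf u₀ = n.minFac ^ k := by
      have hU : IsPGroup n.minFac (U : Subgroup G) := U.isPGroup'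
      obtain ⟨k, hk⟩ := IsPGroup.iff_orderOf.mp hU ⟨u₀, hu₀⟩
      exact ⟨k, by rw [← hk, ← Subgroup.orderOf_coe]⟩
    have how : orderOf (g * u₀ * g⁻¹) = n.minFac ^ k := by rw [orderOf_conj', hk]
    have hne : (orderOf b₀).minFac ≠ n.minFac := fun e => hsm (e ▸ hpm)
    have hcomm : Commute b'' (g * u₀ * g⁻¹) := (hg u₀ hu₀).symm
    have hle := h.ito_top hb''m hcomm (by
      rw [hi, how]
      exact Nat.Coprime.pow _ _ ((Nat.coprime_primes hp hs).mpr hne))
    have hd : csz (g * u₀ * g⁻¹) ∣ m := by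
      rw [← hb''m]; exact Subgroup.index_dvd_of_le hle
    rcases h.csz_of_dvd hd with h' | h'
    · exact absurd ((csz_eq_one_iff _).mp h') hwZ
    · exact ⟨g * u₀ * g⁻¹, n.minFac, hs, hsm, h', k, how⟩
  · exact ⟨b'', (orderOf b₀).minFac, hp, hpm, hb''m, i, hi⟩

end

end Cfsg.Agent.Lib.helper74
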