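import Mathlib
import Cfsg.Agent.Lib.helper74.CG7

/-!
# The two largest class sizes are coprime: the commutator subgroup and a special element

`NN G n` is the subgroup generated by the commutators of the elements of class size `n`.
`SP G m n b q`: `b` has class size `m` and order a power of the prime `q ∤ m`.
-/

set_option autoImplicit false

namespace Cfsg.Agent.Lib.helper74

/-- The subgroup generated by the commutators of the elements of class size `n`. -/
abbrev NN (G : Type*) [Group G] (n : ℕ) : Subgroup G := comSub (fun a : G => csz a = n)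

/-- A special element: class size `m`, order a power of the prime `q ∤ m`. -/
structure SP (G : Type*) [Group G] (m n : ℕ) (b : G) (q : ℕ) : Prop where
  tl : TL G m n
  hq : q.Prime
  hqm : ¬ q ∣ m
  hb : csz b = m
  hbo : ∃ j, orderOf b = q ^ j

variable {G : Type*} [Group G] [Finite G] {m n : ℕ}

theorem TL.NN_card_dvd (h : TL G m n) : Nat.card (NN G n) ∣ m :=
  h.card_dvd _ (fun a ha => by rw [ha]; exact h.cop.symm)

theorem TL.NN_le_cent (h : TL G m n) {a : G} (ha : csz a = n) :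
    NN G n ≤ Subgroup.centralizer ({a} : Set G) :=
  le_of_normal_coprime _ _ (by
    show (Nat.card (NN G n)).Coprime (csz a)
    rw [ha]; exact Nat.Coprime.coprime_dvd_left h.NN_card_dvd h.cop)

theorem TL.NN_comm (h : TL G m n) : ∀ ν ∈ NN G n, ∀ μ ∈ NN G n, ν * μ = μ * ν := by
  intro ν hν μ hμ
  have hle : NN G n ≤ Subgroup.centralizer ({ν} : Set G) := by
    apply (Subgroup.closure_le _).mpr
    rintro w ⟨a, g, k, ha, rfl⟩
    rw [SetLike.mem_coe, mem_cent_sing]
    have e1 : (g * a * g⁻¹) * ν = ν * (g * a * g⁻¹) :=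
      mem_cent_sing.mp (h.NN_le_cent (a := g * a * g⁻¹) (by rw [csz_conj]; exact ha) hν)
    have e2 : (k * a * k⁻¹) * ν = ν * (k * a * k⁻¹) :=
      mem_cent_sing.mp (h.NN_le_cent (a := k * a * k⁻¹) (by rw [csz_conj]; exact ha) hν)
    have e3 : ν * (k * a * k⁻¹)⁻¹ = (k * a * k⁻¹)⁻¹ * ν := by
      calc ν * (k * a * k⁻¹)⁻¹ = (k * a * k⁻¹)⁻¹ * ((k * a * k⁻¹) * ν) * (k * a * k⁻¹)⁻¹ := by
            group
        _ = (k * a * k⁻¹)⁻¹ * (ν * (k * a * k⁻¹)) * (k * a * k⁻¹)⁻¹ := by rw [e2]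
        _ = (k * a * k⁻¹)⁻¹ * ν := by group
    calc ν * ((k * a * k⁻¹)⁻¹ * (g * a * g⁻¹))
        = (ν * (k * a * k⁻¹)⁻¹) * (g * a * g⁻¹) := (mul_assoc ν _ _).symm
      _ = (k * a * k⁻¹)⁻¹ * (ν * (g * a * g⁻¹)) := by rw [e3]; exact mul_assoc _ _ _
      _ = (k * a * k⁻¹)⁻¹ * (g * a * g⁻¹) * ν := by rw [← e1]; exact (mul_assoc _ _ _).symm
  exact mem_cent_sing.mp (hle hμ)

theorem TL.NN_stab (h : TL G m n) {b : G} (hb : csz b = m) :
    ∀ ν ∈ NN G n, ∀ x, IsConj b x → IsConj b (ν * x) :=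
  h.stab _ (fun a ha => by rw [ha]; exact h.cop.symm) hb

/-- An element of class size `m` and of order coprime to `m` has no fixed point on `NN`. -/
theorem TL.NN_fpf (h : TL G m n) {g : G} (hg : csz g = m) (ho : (orderOf g).Coprime m) {ν : G}
    (hν : ν ∈ NN G n) (hc : Commute ν g) : ν = 1 := by
  have h1 : IsConj g (ν * g) := h.NN_stab hg ν hν g (IsConj.refl g)
  have h2 : orderOf (ν * g) = orderOf g := orderOf_of_isConj h1
  have h3 : (orderOf ν).Coprime (orderOf g) :=
    Nat.Coprime.coprime_dvd_left ((Subgroup.orderOf_dvd_natCard _ hν).trans h.NN_card_dvd)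
      ho.symm
  rw [hc.orderOf_mul_eq_mul_orderOf_of_coprime h3] at h2
  have h4 : 0 < orderOf g := orderOf_pos g
  have h5 : orderOf ν = 1 := Nat.eq_of_mul_eq_mul_right h4 (by rw [h2, one_mul])
  exact orderOf_eq_one_iff.mp h5

theorem TL.NN_not_top (h : TL G m n) {ν : G} (hν : ν ∈ NN G n) : csz ν ≠ m := by
  intro hm
  have h1 := h.NN_stab hm ν⁻¹ (inv_mem hν) ν (IsConj.refl ν)
  rw [inv_mul_cancel] at h1
  have h2 : ν = 1 := isConj_one_right.mp h1.symm
  rw [h2] at hm
  have h3 : csz (1 : G) = 1 := (csz_eq_one_iff 1).mpr (Subgroup.one_mem _)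
  have := h.hn
  have := h.hmn
  omega

theorem TL.NN_center (h : TL G m n) {ν : G} (hν : ν ∈ NN G n)
    (hz : ν ∈ Subgroup.center G) : ν = 1 := by
  obtain ⟨b, q, hq, hqm, hb, j, hj⟩ := h.exists_special
  refine h.NN_fpf hb ?_ hν ((Subgroup.mem_center_iff.mp hz b).symm)
  rw [hj]
  exact Nat.Coprime.pow_left j ((Nat.Prime.coprime_iff_not_dvd hq).mpr hqm)

theorem TL.exists_regular (h : TL G m n) {x : G} (hx : csz x = n) :
    ∃ ν ∈ NN G n, Subgroup.centralizer ({ν} : Set G) = Subgroup.centralizer ({x} : Set G) := by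
  obtain ⟨ν', hν', hz⟩ := exists_mul_mem_center (NN G n) h.NN_comm x (fun g => by
      have := mem_comSub_gen (T := fun a : G => csz a = n) hx g 1
      simpa using this) (by rw [hx]; exact Nat.Coprime.coprime_dvd_left h.NN_card_dvd h.cop)
  refine ⟨ν'⁻¹, inv_mem hν', ?_⟩
  have e : x = (x * ν') * ν'⁻¹ := by group
  rw [e, cent_center_mul hz]

theorem csz_one_eq : csz (1 : G) = 1 := (csz_eq_one_iff 1).mpr (Subgroup.one_mem _)

theorem TL.lt_card_NN (h : TL G m n) : n < Nat.card (NN G n) := by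
  classical
  obtain ⟨x, hx⟩ := h.exn
  obtain ⟨ν, hν, hc⟩ := h.exists_regular hx
  have hcs : csz ν = n := by
    rw [← hx]
    show (Subgroup.centralizer ({ν} : Set G)).index = (Subgroup.centralizer ({x} : Set G)).index
    rw [hc]
  have hν1 : ν ≠ 1 := by
    rintro rfl
    rw [csz_one_eq] at hcs
    have := h.hn
    omega
  have key : Nat.card {x : G // IsConj ν x} < Nat.card (NN G n) := by
    have := Fintype.ofFinite {x : G // IsConj ν x}
    have := Fintype.ofFinite (NN G n)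
    rw [Nat.card_eq_fintype_card, Nat.card_eq_fintype_card]
    refine Fintype.card_lt_of_injective_of_notMem
      (fun x : {x : G // IsConj ν x} => (⟨x.1, by
        obtain ⟨g, hg⟩ := isConj_iff.mp x.2
        rw [← hg]
        exact (comSub_normal _).conj_mem ν hν g⟩ : NN G n)) ?_ (b := 1) ?_
    · intro x x' hxx
      have e : (x.1 : G) = x'.1 := congrArg (fun t : NN G n => (t : G)) hxx
      exact Subtype.ext e
    · rintro ⟨x, hx'⟩
      have e : x.1 = 1 := congrArg Subtype.val hx'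
      have h2 := x.2
      rw [e] at h2
      exact hν1 (isConj_one_right.mp h2.symm)
  rw [card_class ν, hcs] at key
  exact key

theorem TL.card_le_csz_of_fpf (_h : TL G m n) {w : G}
    (hw : ∀ ν ∈ NN G n, Commute ν w → ν = 1) : Nat.card (NN G n) ≤ csz w := by
  rw [← card_class w]
  apply Nat.card_le_card_of_injective (fun ν : NN G n =>
    (⟨ν.1 * w * ν.1⁻¹, isConj_iff.mpr ⟨ν.1, rfl⟩⟩ : {x : G // IsConj w x}))
  intro ν ν' he
  have e : ν.1 * w * ν.1⁻¹ = ν'.1 * w * ν'.1⁻¹ := congrArg Subtype.val he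
  have hcomm : Commute (ν'.1⁻¹ * ν.1) w := by
    show ν'.1⁻¹ * ν.1 * w = w * (ν'.1⁻¹ * ν.1)
    calc ν'.1⁻¹ * ν.1 * w = ν'.1⁻¹ * (ν.1 * w * ν.1⁻¹) * ν.1 := by group
      _ = ν'.1⁻¹ * (ν'.1 * w * ν'.1⁻¹) * ν.1 := by rw [e]
      _ = w * (ν'.1⁻¹ * ν.1) := by group
  have := hw _ (mul_mem (inv_mem ν'.2) ν.2) hcomm
  exact Subtype.ext (inv_mul_eq_one.mp this).symm

theorem TL.top_of_fpf (h : TL G m n) {w : G}
    (hw : ∀ ν ∈ NN G n, Commute ν w → ν = 1) : csz w = m := by
  have h1 := h.card_le_csz_of_fpf hw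
  have h2 := h.lt_card_NN
  have h3 := h.top w
  by_contra h5
  have := h.sec _ (lt_of_le_of_ne h3 h5)
  omega

section special

variable {b : G} {q : ℕ}

omit [Finite G] in
theorem SP.coprime_order (h : SP G m n b q) : (orderOf b).Coprime m := by
  obtain ⟨j, hj⟩ := h.hbo
  rw [hj]
  exact Nat.Coprime.pow_left j ((Nat.Prime.coprime_iff_not_dvd h.hq).mpr h.hqm)

/-- An element commuting with `b` whose class size is coprime to `m` is central. -/
theorem SP.center_of_commute (h : SP G m n b q) {a : G} (hc : Commute b a)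
    (ha : (csz a).Coprime m) : a ∈ Subgroup.center G := by
  obtain ⟨a₁, hcent, hco⟩ := h.tl.exists_qfree ha h.hq h.hqm
  obtain ⟨j, hj⟩ := h.hbo
  have hb1 : b ∈ Subgroup.centralizer ({a₁} : Set G) := by
    rw [hcent, mem_cent_sing]; exact hc.symm.eq
  have hc1 : Commute b a₁ := (mem_cent_sing.mp hb1).symm
  have hle := h.tl.ito_top h.hb hc1 (by rw [hj]; exact Nat.Coprime.pow_left j hco.symm)
  rw [hcent] at hle
  have hd : csz a ∣ m := by rw [← h.hb]; exact Subgroup.index_dvd_of_le hle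
  have h1 : csz a = 1 := Nat.eq_one_of_dvd_coprimes ha (dvd_refl _) hd
  exact (csz_eq_one_iff a).mp h1

theorem SP.cent_inf_le (h : SP G m n b q) {x : G} (hx : csz x = n) :
    Subgroup.centralizer ({b} : Set G) ⊓ Subgroup.centralizer ({x} : Set G)
      ≤ Subgroup.center G := by
  intro u hu
  rw [Subgroup.mem_inf, mem_cent_sing, mem_cent_sing] at hu
  obtain ⟨hub, hux⟩ := hu
  obtain ⟨j, hj⟩ := h.hbo
  have hxm : (csz x).Coprime m := by rw [hx]; exact h.tl.cop.symm
  obtain ⟨u', u'', hu', hu'', huu, hco, i, hi⟩ := exists_pq_decomp u h.hq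
  have h1 : u' ∈ Subgroup.center G := by
    obtain ⟨k, rfl⟩ := hu'
    have hcb : Commute b (u ^ k) := (show Commute b u from hub).zpow_right k
    have hcx : Commute x (u ^ k) := (show Commute x u from hux).zpow_right k
    have hle := h.tl.ito_top h.hb hcb (by rw [hj]; exact Nat.Coprime.pow_left j hco.symm)
    have hd : csz (u ^ k) ∣ m := by rw [← h.hb]; exact Subgroup.index_dvd_of_le hle
    rcases h.tl.csz_of_dvd hd with h' | h'
    · exact (csz_eq_one_iff _).mp h'
    · exfalso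
      have hle2 : Subgroup.centralizer ({u ^ k} : Set G) ≤ Subgroup.centralizer ({b} : Set G) :=
        le_of_le_of_index_le hle (by show csz b ≤ csz (u ^ k); rw [h.hb, h'])
      have hxb : x ∈ Subgroup.centralizer ({b} : Set G) :=
        hle2 (mem_cent_sing.mpr hcx.symm.eq)
      have hxZ := h.center_of_commute (mem_cent_sing.mp hxb) hxm
      have := (csz_eq_one_iff x).mpr hxZ
      have := h.tl.hn
      omega
  have h2 : u'' ∈ Subgroup.center G := by
    obtain ⟨k, rfl⟩ := hu''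
    have hcb : Commute b (u ^ k) := (show Commute b u from hub).zpow_right k
    have hcx : Commute x (u ^ k) := (show Commute x u from hux).zpow_right k
    obtain ⟨x₁, hx₁c, hx₁o⟩ := h.tl.exists_qfree hxm h.hq h.hqm
    have hx₁ : csz x₁ = n := by
      rw [← hx]
      show (Subgroup.centralizer ({x₁} : Set G)).index = (Subgroup.centralizer ({x} : Set G)).index
      rw [hx₁c]
    have hc1 : Commute x₁ (u ^ k) := by
      have : u ^ k ∈ Subgroup.centralizer ({x₁} : Set G) := by
        rw [hx₁c, mem_cent_sing]; exact hcx.eq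
      exact mem_cent_sing.mp this
    have hle := h.tl.ito_sec hx₁ hc1 (by rw [hi]; exact Nat.Coprime.pow_right i hx₁o)
    have hd : csz (u ^ k) ∣ n := by rw [← hx₁]; exact Subgroup.index_dvd_of_le hle
    exact h.center_of_commute hcb (Nat.Coprime.coprime_dvd_left hd h.tl.cop.symm)
  rw [huu]
  exact mul_mem h1 h2

theorem SP.card_cent (h : SP G m n b q) :
    Nat.card (Subgroup.centralizer ({b} : Set G)) = n * Nat.card (Subgroup.center G) := by
  obtain ⟨x, hx⟩ := h.tl.exn
  have hinf : Subgroup.centralizer ({b} : Set G) ⊓ Subgroup.centralizer ({x} : Set G)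
      = Subgroup.center G :=
    le_antisymm (h.cent_inf_le hx)
      (le_inf (Subgroup.center_le_centralizer _) (Subgroup.center_le_centralizer _))
  have hidx := Cfsg.Agent.Lib.helper12.index_inf_of_coprime
    (Subgroup.centralizer ({b} : Set G)) (Subgroup.centralizer ({x} : Set G))
    (by show (csz b).Coprime (csz x); rw [h.hb, hx]; exact h.tl.cop)
  rw [hinf] at hidx
  have e1 := Subgroup.card_mul_index (Subgroup.center G)
  have e2 := Subgroup.card_mul_index (Subgroup.centralizer ({b} : Set G))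
  rw [hidx] at e1
  have hb : (Subgroup.centralizer ({b} : Set G)).index = m := h.hb
  have hxn : (Subgroup.centralizer ({x} : Set G)).index = n := hx
  rw [hb, hxn] at e1
  rw [hb] at e2
  have hm : 0 < m := by have := h.tl.hmn; omega
  have : Nat.card (Subgroup.centralizer ({b} : Set G)) * m
      = n * Nat.card (Subgroup.center G) * m := by rw [e2, ← e1]; ring
  exact Nat.eq_of_mul_eq_mul_right hm this

/-- A non-central element of the centre of `C(b)` has centraliser `C(b)`. -/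
theorem SP.cent_eq (h : SP G m n b q) {d : G}
    (hdc : Subgroup.centralizer ({b} : Set G) ≤ Subgroup.centralizer ({d} : Set G))
    (hdZ : d ∉ Subgroup.center G) :
    Subgroup.centralizer ({d} : Set G) = Subgroup.centralizer ({b} : Set G) := by
  have hd : csz d ∣ m := by rw [← h.hb]; exact Subgroup.index_dvd_of_le hdc
  rcases h.tl.csz_of_dvd hd with h' | h'
  · exact absurd ((csz_eq_one_iff d).mp h') hdZ
  · exact le_antisymm (le_of_le_of_index_le hdc (by show csz b ≤ csz d; rw [h.hb, h'])) hdc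

theorem SP.ito (h : SP G m n b q) {v : G} (hv : v ∈ Subgroup.centralizer ({b} : Set G))
    (hvo : (orderOf v).Coprime q) :
    Subgroup.centralizer ({b} : Set G) ≤ Subgroup.centralizer ({v} : Set G) := by
  obtain ⟨j, hj⟩ := h.hbo
  exact h.tl.ito_top h.hb (mem_cent_sing.mp hv) (by rw [hj]; exact Nat.Coprime.pow_left j hvo.symm)

theorem SP.NN_inf (h : SP G m n b q) {ν : G} (hν : ν ∈ NN G n)
    (hc : ν ∈ Subgroup.centralizer ({b} : Set G)) : ν = 1 :=
  h.tl.NN_fpf h.hb h.coprime_order hν (mem_cent_sing.mp hc).symm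

theorem SP.star (h : SP G m n b q) {u : G} (k : ℕ)
    (hk : Subgroup.centralizer ({b} : Set G) ≤ Subgroup.centralizer ({u ^ k} : Set G))
    (hkZ : u ^ k ∉ Subgroup.center G) :
    Subgroup.centralizer ({b} : Set G) ≤ Subgroup.centralizer ({u} : Set G) := by
  have hd := h.cent_eq hk hkZ
  have hle : Subgroup.centralizer ({u} : Set G) ≤ Subgroup.centralizer ({b} : Set G) := by
    rw [← hd]; exact cent_le_cent_pow u k
  have hfpf : ∀ ν ∈ NN G n, Commute ν u → ν = 1 := by
    intro ν hν hc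
    apply h.NN_inf hν
    apply hle
    rw [mem_cent_sing]; exact hc.symm.eq
  have hm : csz u = m := h.tl.top_of_fpf hfpf
  exact le_of_le_of_index_le hle (by show csz u ≤ csz b; rw [hm, h.hb])

theorem SP.csz_mul_le (h : SP G m n b q) {w k₀ ν₀ : G} (hwo : (orderOf w).Coprime m)
    (hν₀ : ν₀ ∈ NN G n) (hν₀1 : ν₀ ≠ 1) (hν₀c : Commute ν₀ w) (hk₀ : k₀ ∈ NN G n)
    (hk₀c : Commute k₀ w) : csz (w * k₀) ≤ n := by
  by_contra hcon
  have hm : csz (w * k₀) = m := by
    have := h.tl.top (w * k₀)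
    by_contra h5
    exact hcon (h.tl.sec _ (lt_of_le_of_ne this h5))
  have hco : (orderOf w).Coprime (orderOf k₀) :=
    Nat.Coprime.coprime_dvd_right
      ((Subgroup.orderOf_dvd_natCard _ hk₀).trans h.tl.NN_card_dvd) hwo
  have hle := cent_mul_le hk₀c.symm hco
  by_cases hk1 : k₀ = 1
  · subst hk1
    rw [mul_one] at hm
    exact hν₀1 (h.tl.NN_fpf hm hwo hν₀ hν₀c)
  · have hd : csz k₀ ∣ m := by
      rw [← hm]; exact Subgroup.index_dvd_of_le (hle.trans inf_le_right)
    rcases h.tl.csz_of_dvd hd with h' | h'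
    · exact hk1 (h.tl.NN_center hk₀ ((csz_eq_one_iff _).mp h'))
    · exact h.tl.NN_not_top hk₀ h'

/-- The key counting inequality. -/
theorem SP.card_bound (h : SP G m n b q) {w k₀ ν₀ : G}
    (hw : w ∈ Subgroup.centralizer ({b} : Set G)) (hwo : (orderOf w).Coprime m)
    (hν₀ : ν₀ ∈ NN G n) (hν₀1 : ν₀ ≠ 1) (hν₀c : Commute ν₀ w) (hk₀ : k₀ ∈ NN G n)
    (hk₀c : Commute k₀ w) :
    Nat.card (NN G n) * Nat.card (Subgroup.center G)
      ≤ Nat.card (NN G n ⊓ Subgroup.centralizer ({w} : Set G) : Subgroup G)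
        * Nat.card (Subgroup.centralizer ({b} : Set G) ⊓ Subgroup.centralizer ({w} : Set G)
            ⊓ Subgroup.centralizer ({k₀} : Set G) : Subgroup G) := by
  classical
  have hsz := h.csz_mul_le hwo hν₀ hν₀1 hν₀c hk₀ hk₀c
  have hco : (orderOf w).Coprime (orderOf k₀) :=
    Nat.Coprime.coprime_dvd_right
      ((Subgroup.orderOf_dvd_natCard _ hk₀).trans h.tl.NN_card_dvd) hwo
  have hcent := cent_mul_le hk₀c.symm hco
  -- the key membership lemma
  have key : ∀ ν ∈ NN G n, ∀ c ∈ Subgroup.centralizer ({b} : Set G),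
      ν * c ∈ Subgroup.centralizer ({w * k₀} : Set G) →
      ν ∈ Subgroup.centralizer ({w} : Set G) ∧ c ∈ Subgroup.centralizer ({w} : Set G)
        ∧ c ∈ Subgroup.centralizer ({k₀} : Set G) := by
    intro ν hν c hc hνc
    have h1 := hcent hνc
    rw [Subgroup.mem_inf, mem_cent_sing, mem_cent_sing] at h1
    obtain ⟨hw1, hk1⟩ := h1
    have hνk : ν * k₀ = k₀ * ν := h.tl.NN_comm ν hν k₀ hk₀
    have hck : k₀ * c = c * k₀ := by
      have : ν * (k₀ * c) = ν * (c * k₀) := by
        calc ν * (k₀ * c) = (ν * k₀) * c := by group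
          _ = k₀ * (ν * c) := by rw [hνk]; group
          _ = ν * c * k₀ := hk1
          _ = ν * (c * k₀) := by group
      exact mul_left_cancel this
    -- t := w⁻¹ * (c * w * c⁻¹) = (w⁻¹ * ν⁻¹ * w) * ν
    have e1 : c * w * c⁻¹ = ν⁻¹ * w * ν := by
      calc c * w * c⁻¹ = ν⁻¹ * ((ν * c) * w) * c⁻¹ := by group
        _ = ν⁻¹ * (w * (ν * c)) * c⁻¹ := by rw [hw1]
        _ = ν⁻¹ * w * ν := by group
    have ht1 : w⁻¹ * (c * w * c⁻¹) ∈ Subgroup.centralizer ({b} : Set G) :=
      mul_mem (inv_mem hw) (mul_mem (mul_mem hc hw) (inv_mem hc))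
    have ht2 : w⁻¹ * (c * w * c⁻¹) ∈ NN G n := by
      rw [e1]
      have e2 : w⁻¹ * (ν⁻¹ * w * ν) = (w⁻¹ * ν⁻¹ * w⁻¹⁻¹) * ν := by group
      rw [e2]
      exact mul_mem ((comSub_normal _).conj_mem _ (inv_mem hν) w⁻¹) hν
    have ht := h.NN_inf ht2 ht1
    have e3 : c * w * c⁻¹ = w := by
      calc c * w * c⁻¹ = w * (w⁻¹ * (c * w * c⁻¹)) := by group
        _ = w := by rw [ht, mul_one]
    refine ⟨?_, ?_, ?_⟩
    · rw [mem_cent_sing]
      have e4 : ν⁻¹ * w * ν = w := by rw [← e1, e3]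
      calc w * ν = ν * (ν⁻¹ * w * ν) := by group
        _ = ν * w := by rw [e4]
    · rw [mem_cent_sing]
      calc w * c = (c * w * c⁻¹) * c := by rw [e3]
        _ = c * w := by group
    · rw [mem_cent_sing]; exact hck
  -- |N| |C| ≤ |N ⊔ C|
  have hprod : Nat.card (NN G n) * Nat.card (Subgroup.centralizer ({b} : Set G))
      ≤ Nat.card (NN G n ⊔ Subgroup.centralizer ({b} : Set G) : Subgroup G) := by
    rw [← Nat.card_prod]
    apply Nat.card_le_card_of_injective
      (fun p : (NN G n) × (Subgroup.centralizer ({b} : Set G)) =>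
        (⟨p.1.1 * p.2.1, mul_mem (Subgroup.mem_sup_left p.1.2) (Subgroup.mem_sup_right p.2.2)⟩ :
          (NN G n ⊔ Subgroup.centralizer ({b} : Set G) : Subgroup G)))
    rintro ⟨ν, c⟩ ⟨ν', c'⟩ he
    have e : ν.1 * c.1 = ν'.1 * c'.1 := congrArg Subtype.val he
    have e2 : ν'.1⁻¹ * ν.1 = c'.1 * c.1⁻¹ := by
      calc ν'.1⁻¹ * ν.1 = ν'.1⁻¹ * (ν.1 * c.1) * c.1⁻¹ := by group
        _ = ν'.1⁻¹ * (ν'.1 * c'.1) * c.1⁻¹ := by rw [e]
        _ = c'.1 * c.1⁻¹ := by group
    have h1 : ν'.1⁻¹ * ν.1 = 1 :=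
      h.NN_inf (mul_mem (inv_mem ν'.2) ν.2) (by rw [e2]; exact mul_mem c'.2 (inv_mem c.2))
    have h2 : c'.1 * c.1⁻¹ = 1 := by rw [← e2]; exact h1
    have h3 : ν.1 = ν'.1 := (inv_mul_eq_one.mp h1).symm
    have h4 : c.1 = c'.1 := (mul_inv_eq_one.mp h2).symm
    exact Prod.ext (Subtype.ext h3) (Subtype.ext h4)
  -- |(N ⊔ C) ⊓ C(g)| ≤ |N_w| |C_w|
  have hinter : Nat.card ((NN G n ⊔ Subgroup.centralizer ({b} : Set G))
        ⊓ Subgroup.centralizer ({w * k₀} : Set G) : Subgroup G)
      ≤ Nat.card (NN G n ⊓ Subgroup.centralizer ({w} : Set G) : Subgroup G)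
        * Nat.card (Subgroup.centralizer ({b} : Set G) ⊓ Subgroup.centralizer ({w} : Set G)
            ⊓ Subgroup.centralizer ({k₀} : Set G) : Subgroup G) := by
    rw [← Nat.card_prod]
    have hdec : ∀ z : ((NN G n ⊔ Subgroup.centralizer ({b} : Set G))
        ⊓ Subgroup.centralizer ({w * k₀} : Set G) : Subgroup G),
        ∃ ν ∈ NN G n, ∃ c ∈ Subgroup.centralizer ({b} : Set G), z.1 = ν * c := by
      intro z
      have hz := (Subgroup.mem_inf.mp z.2).1
      rw [← SetLike.mem_coe, Subgroup.normal_mul, Set.mem_mul] at hz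
      obtain ⟨ν, hν, c, hc, e⟩ := hz
      exact ⟨ν, hν, c, hc, e.symm⟩
    choose fν hfν fc hfc hfe using hdec
    apply Nat.card_le_card_of_injective (fun z =>
      ((⟨fν z, Subgroup.mem_inf.mpr ⟨hfν z, (key _ (hfν z) _ (hfc z)
          (by rw [← hfe z]; exact (Subgroup.mem_inf.mp z.2).2)).1⟩⟩,
        ⟨fc z, Subgroup.mem_inf.mpr ⟨Subgroup.mem_inf.mpr ⟨hfc z, (key _ (hfν z) _ (hfc z)
          (by rw [← hfe z]; exact (Subgroup.mem_inf.mp z.2).2)).2.1⟩, (key _ (hfν z) _ (hfc z)
          (by rw [← hfe z]; exact (Subgroup.mem_inf.mp z.2).2)).2.2⟩⟩) :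
        (NN G n ⊓ Subgroup.centralizer ({w} : Set G) : Subgroup G)
          × (Subgroup.centralizer ({b} : Set G) ⊓ Subgroup.centralizer ({w} : Set G)
            ⊓ Subgroup.centralizer ({k₀} : Set G) : Subgroup G)))
    intro z z' he
    have e1 : fν z = fν z' := congrArg (fun p => (p.1 : G)) he
    have e2 : fc z = fc z' := congrArg (fun p => (p.2 : G)) he
    apply Subtype.ext
    rw [hfe z, hfe z', e1, e2]
  have h3 := card_mul_card_le (NN G n ⊔ Subgroup.centralizer ({b} : Set G))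
    (Subgroup.centralizer ({w * k₀} : Set G))
  have h4 := Subgroup.card_mul_index (Subgroup.centralizer ({w * k₀} : Set G))
  have h5 := h.card_cent
  have hK : 0 < Nat.card (Subgroup.centralizer ({w * k₀} : Set G)) := Nat.card_pos
  have hn0 : 0 < n := by have := h.tl.hn; omega
  set A := Nat.card (NN G n)
  set C := Nat.card (Subgroup.centralizer ({b} : Set G))
  set Z := Nat.card (Subgroup.center G)
  set K := Nat.card (Subgroup.centralizer ({w * k₀} : Set G))
  set H := Nat.card (NN G n ⊔ Subgroup.centralizer ({b} : Set G) : Subgroup G)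
  set I := Nat.card ((NN G n ⊔ Subgroup.centralizer ({b} : Set G))
        ⊓ Subgroup.centralizer ({w * k₀} : Set G) : Subgroup G)
  set P := Nat.card (NN G n ⊓ Subgroup.centralizer ({w} : Set G) : Subgroup G)
        * Nat.card (Subgroup.centralizer ({b} : Set G) ⊓ Subgroup.centralizer ({w} : Set G)
            ⊓ Subgroup.centralizer ({k₀} : Set G) : Subgroup G)
  -- A*C ≤ H ; H*K ≤ |G|*I ; I ≤ P ; K * csz = |G| ; csz ≤ n ; C = n*Z
  have hidx : (Subgroup.centralizer ({w * k₀} : Set G)).index ≤ n := hsz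
  have step : A * (n * Z) * K ≤ n * P * K := by
    calc A * (n * Z) * K = A * C * K := by rw [h5]
      _ ≤ H * K := Nat.mul_le_mul_right K hprod
      _ ≤ Nat.card G * I := h3
      _ ≤ Nat.card G * P := Nat.mul_le_mul_left _ hinter
      _ = K * (Subgroup.centralizer ({w * k₀} : Set G)).index * P := by rw [h4]
      _ ≤ K * n * P := Nat.mul_le_mul_right P (Nat.mul_le_mul_left K hidx)
      _ = n * P * K := by ring
  have step2 : A * (n * Z) ≤ n * P := Nat.le_of_mul_le_mul_right step hK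
  have step3 : n * (A * Z) ≤ n * P := by
    calc n * (A * Z) = A * (n * Z) := by ring
      _ ≤ n * P := step2
  exact Nat.le_of_mul_le_mul_left step3 hn0

end special

end Cfsg.Agent.Lib.helper74
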