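import Mathlib
import Cfsg.Agent.Lib.helper74.CG8

set_option autoImplicit false

namespace Cfsg.Agent.Lib.helper74

section trace

variable {M : Type*} [AddCommGroup M]

/-- The trace of an endomorphism. -/
def trE (q : ℕ) (κ : AddMonoid.End M) : AddMonoid.End M := ∑ j ∈ Finset.range q, κ ^ j

theorem trE_apply (q : ℕ) (κ : AddMonoid.End M) (a : M) :
    trE q κ a = ∑ j ∈ Finset.range q, (κ ^ j) a := by
  unfold trE
  induction q with
  | zero => simp
  | succ k ih =>
    rw [Finset.sum_range_succ, Finset.sum_range_succ, ← ih]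
    rfl

theorem mul_trE {q : ℕ} {κ : AddMonoid.End M} (h : κ ^ q = 1) : κ * trE q κ = trE q κ := by
  unfold trE
  rw [Finset.mul_sum]
  have e1 : ∀ j ∈ Finset.range q, κ * κ ^ j = κ ^ (j + 1) := fun j _ => (pow_succ' κ j).symm
  rw [Finset.sum_congr rfl e1]
  have h1 := Finset.sum_range_succ (fun j => κ ^ j) q
  have h2 := Finset.sum_range_succ' (fun j => κ ^ j) q
  rw [h1] at h2
  simp only [pow_zero, h] at h2
  exact (add_right_cancel h2).symm

theorem trE_eq_zero {q : ℕ} {κ : AddMonoid.End M} (h : κ ^ q = 1)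
    (hf : ∀ a, κ a = a → a = 0) : trE q κ = 0 := by
  ext a
  apply hf
  have := congrArg (fun f : AddMonoid.End M => f a) (mul_trE h)
  exact this

theorem pow_apply_fixed {κ : AddMonoid.End M} {a : M} (h : κ a = a) (k : ℕ) : (κ ^ k) a = a := by
  induction k with
  | zero => rfl
  | succ k ih =>
    rw [pow_succ]
    show (κ ^ k) (κ a) = a
    rw [h, ih]

theorem trE_apply_fixed (q : ℕ) {κ : AddMonoid.End M} {a : M} (h : κ a = a) :
    trE q κ a = q • a := by
  rw [trE_apply]
  rw [Finset.sum_congr rfl (fun j _ => pow_apply_fixed h j)]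
  simp

theorem sum_trE (q : ℕ) {α β : AddMonoid.End M} (hc : Commute α β) :
    ∑ i ∈ Finset.range q, trE q (α * β ^ i) = ∑ j ∈ Finset.range q, α ^ j * trE q (β ^ j) := by
  unfold trE
  rw [Finset.sum_comm]
  apply Finset.sum_congr rfl
  intro j _
  rw [Finset.mul_sum]
  apply Finset.sum_congr rfl
  intro i _
  rw [(hc.pow_right i).mul_pow, ← pow_mul, ← pow_mul, mul_comm i j]

theorem sum_trE_eq {q : ℕ} (hq : 0 < q) {α β : AddMonoid.End M} (hc : Commute α β)
    (hβ : β ^ q = 1) (hf : ∀ j, 0 < j → j < q → ∀ a, (β ^ j) a = a → a = 0) :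
    ∑ i ∈ Finset.range q, trE q (α * β ^ i) = (q : AddMonoid.End M) := by
  rw [sum_trE q hc, Finset.sum_eq_single 0]
  · unfold trE
    simp
  · intro j hj hj0
    rw [trE_eq_zero (by rw [← pow_mul, mul_comm, pow_mul, hβ, one_pow])
      (hf j (Nat.pos_of_ne_zero hj0) (Finset.mem_range.mp hj)), mul_zero]
  · intro h0
    exact absurd (Finset.mem_range.mpr hq) h0

theorem trE_apply_other {q : ℕ} {α β : AddMonoid.End M} (hc : Commute α β) (hβ : β ^ q = 1)
    (hf : ∀ j, 0 < j → j < q → ∀ a, (β ^ j) a = a → a = 0) {i j : ℕ} (hi : i < q) (hj : j < q)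
    (hij : i ≠ j) {a : M} (ha : (α * β ^ i) a = a) : trE q (α * β ^ j) a = 0 := by
  have hd1 : 0 < (j + (q - i)) % q := by
    rw [Nat.pos_iff_ne_zero]
    intro h0
    have h1 : q ∣ j + (q - i) := Nat.dvd_of_mod_eq_zero h0
    obtain ⟨t, ht⟩ := h1
    have ht1 : t = 1 := by
      have h2 : j + (q - i) < q * 2 := by omega
      have h3 : 0 < j + (q - i) := by omega
      rw [ht] at h2 h3
      have h4 : t < 2 := Nat.lt_of_mul_lt_mul_left h2
      have h5 : 0 < t := Nat.pos_of_mul_pos_left h3 |> fun _ => by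
        rcases Nat.eq_zero_or_pos t with h | h
        · rw [h] at h3; simp at h3
        · exact h
      omega
    rw [ht1] at ht
    omega
  have hd2 : (j + (q - i)) % q < q := Nat.mod_lt _ (by omega)
  have e1 : α * β ^ j = (α * β ^ i) * β ^ ((j + (q - i)) % q) := by
    rw [← pow_eq_pow_mod _ hβ, mul_assoc, ← pow_add]
    have e2 : i + (j + (q - i)) = j + q := by omega
    rw [e2, pow_add, hβ, mul_one]
  have hcomm : Commute (α * β ^ i) (β ^ ((j + (q - i)) % q)) :=
    ((hc.pow_right _).mul_left ((Commute.refl β).pow_pow _ _))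
  have e3 : ∀ k, ((α * β ^ j) ^ k) a = ((β ^ ((j + (q - i)) % q)) ^ k) a := by
    intro k
    rw [e1, hcomm.mul_pow, ((hcomm.pow_pow k k)).eq]
    show ((β ^ ((j + (q - i)) % q)) ^ k) (((α * β ^ i) ^ k) a) = _
    rw [pow_apply_fixed ha]
  rw [trE_apply, Finset.sum_congr rfl (fun k _ => e3 k), ← trE_apply,
    trE_eq_zero (by rw [← pow_mul, mul_comm, pow_mul, hβ, one_pow]) (hf _ hd1 hd2)]
  rfl

theorem trE_indep {q : ℕ} {α β : AddMonoid.End M} (hc : Commute α β) (hβ : β ^ q = 1)
    (hf : ∀ j, 0 < j → j < q → ∀ a, (β ^ j) a = a → a = 0) (hqM : ∀ a : M, q • a = 0 → a = 0)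
    (a a' : Fin q → M) (ha : ∀ i : Fin q, (α * β ^ (i : ℕ)) (a i) = a i)
    (ha' : ∀ i : Fin q, (α * β ^ (i : ℕ)) (a' i) = a' i) (h : ∑ i, a i = ∑ i, a' i) : a = a' := by
  funext j
  have key : ∀ c : Fin q → M, (∀ i : Fin q, (α * β ^ (i : ℕ)) (c i) = c i) →
      trE q (α * β ^ (j : ℕ)) (∑ i, c i) = q • c j := by
    intro c hc'
    rw [map_sum, Finset.sum_eq_single j]
    · exact trE_apply_fixed q (hc' j)
    · intro i _ hij
      exact trE_apply_other hc hβ hf i.isLt j.isLt (fun e => hij (Fin.ext e)) (hc' i)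
    · intro h0; exact absurd (Finset.mem_univ j) h0
  have h1 := key a ha
  have h2 := key a' ha'
  rw [h] at h1
  have h3 : q • (a j - a' j) = 0 := by rw [smul_sub, ← h1, ← h2, sub_self]
  exact sub_eq_zero.mp (hqM _ h3)

end trace

section conj

open scoped IsMulCommutative

variable {G : Type*} [Group G] (N : Subgroup G) [hN : N.Normal] [IsMulCommutative N]

/-- Conjugation by `g` as an endomorphism of the additive group of `N`. -/
def cjE (g : G) : AddMonoid.End (Additive N) :=
  MonoidHom.toAdditive ((MulAut.conjNormal g : MulAut N).toMonoidHom)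

omit [IsMulCommutative N] in
theorem cjE_apply (g : G) (a : Additive N) :
    ((cjE N g a).toMul : G) = g * (a.toMul : G) * g⁻¹ := rfl

omit [IsMulCommutative N] in
theorem cjE_mul (g h : G) : cjE N (g * h) = cjE N g * cjE N h := by
  ext a
  show ((cjE N (g * h) a).toMul : G) = ((cjE N g (cjE N h a)).toMul : G)
  rw [cjE_apply, cjE_apply, cjE_apply]
  group

omit [IsMulCommutative N] in
theorem cjE_center {z : G} (hz : z ∈ Subgroup.center G) : cjE N z = 1 := by
  ext a
  show ((cjE N z a).toMul : G) = (a.toMul : G)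
  rw [cjE_apply, ← Subgroup.mem_center_iff.mp hz, mul_inv_cancel_right]

omit [IsMulCommutative N] in
theorem cjE_one : cjE N (1 : G) = 1 := cjE_center N (Subgroup.one_mem _)

omit [IsMulCommutative N] in
theorem cjE_pow (g : G) (k : ℕ) : cjE N (g ^ k) = cjE N g ^ k := by
  induction k with
  | zero => rw [pow_zero, pow_zero, cjE_one]
  | succ k ih => rw [pow_succ, pow_succ, cjE_mul, ih]

omit [IsMulCommutative N] in
theorem cjE_fixed_iff (g : G) (a : Additive N) : cjE N g a = a ↔ Commute (a.toMul : G) g := by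
  constructor
  · intro h
    have h1 : ((cjE N g a).toMul : G) = (a.toMul : G) := by rw [h]
    rw [cjE_apply] at h1
    show (a.toMul : G) * g = g * (a.toMul : G)
    calc (a.toMul : G) * g = (g * (a.toMul : G) * g⁻¹) * g := by rw [h1]
      _ = g * (a.toMul : G) := by group
  · intro h
    apply Additive.toMul.injective
    apply Subtype.ext
    rw [cjE_apply]
    have h' : (a.toMul : G) * g = g * (a.toMul : G) := h
    rw [← h', mul_inv_cancel_right]

theorem trace_exists {q : ℕ} (hq : 0 < q) {u b : G} (hub : Commute u b)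
    (hbq : b ^ q ∈ Subgroup.center G) (huq : u ^ q ∈ Subgroup.center G)
    (hf : ∀ l, 0 < l → l < q → ∀ ν ∈ N, Commute ν (b ^ l) → ν = 1) {ν : G} (hν : ν ∈ N) :
    ∃ f : ℕ → G, (∀ i, f i ∈ N) ∧ (∀ i, i < q → Commute (f i) (u * b ^ i)) ∧
      ∀ g : G, (∀ i, i < q → Commute g (f i)) → Commute g (ν ^ q) := by
  have hc : Commute (cjE N u) (cjE N b) := by
    show cjE N u * cjE N b = cjE N b * cjE N u
    rw [← cjE_mul, ← cjE_mul, hub.eq]
  have hβ : cjE N b ^ q = 1 := by rw [← cjE_pow, cjE_center N hbq]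
  have hα : cjE N u ^ q = 1 := by rw [← cjE_pow, cjE_center N huq]
  have hf' : ∀ j, 0 < j → j < q → ∀ a, (cjE N b ^ j) a = a → a = 0 := by
    intro j hj0 hjq a ha
    rw [← cjE_pow, cjE_fixed_iff] at ha
    have := hf j hj0 hjq _ a.toMul.2 ha
    apply Additive.toMul.injective
    exact Subtype.ext this
  have hsum := sum_trE_eq hq hc hβ hf'
  refine ⟨fun i => ((trE q (cjE N u * cjE N b ^ i) (Additive.ofMul ⟨ν, hν⟩)).toMul : G),
    fun i => (trE q (cjE N u * cjE N b ^ i) (Additive.ofMul ⟨ν, hν⟩)).toMul.2, ?_, ?_⟩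
  · intro i _
    have h1 : (cjE N u * cjE N b ^ i) ^ q = 1 := by
      rw [(hc.pow_right i).mul_pow, hα, one_mul, ← pow_mul, mul_comm, pow_mul, hβ, one_pow]
    have h2 := congrArg (fun f : AddMonoid.End (Additive N) => f (Additive.ofMul ⟨ν, hν⟩))
      (mul_trE h1)
    have h3 : cjE N (u * b ^ i) (trE q (cjE N u * cjE N b ^ i) (Additive.ofMul ⟨ν, hν⟩))
        = trE q (cjE N u * cjE N b ^ i) (Additive.ofMul ⟨ν, hν⟩) := by
      rw [cjE_mul, cjE_pow]; exact h2
    exact (cjE_fixed_iff N _ _).mp h3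
  · intro g hg
    have h1 : ∀ s : Finset ℕ, (∀ i ∈ s, i < q) →
        Commute g (((∑ i ∈ s, trE q (cjE N u * cjE N b ^ i) (Additive.ofMul ⟨ν, hν⟩)).toMul : N) : G) := by
      intro s hs
      induction s using Finset.induction_on with
      | empty =>
        rw [Finset.sum_empty]
        exact Commute.one_right g
      | insert i s hi ih =>
        rw [Finset.sum_insert hi]
        exact (hg i (hs i (Finset.mem_insert_self i s))).mul_right
          (ih (fun j hj => hs j (Finset.mem_insert_of_mem hj)))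
    have h2 := h1 (Finset.range q) (fun i hi => Finset.mem_range.mp hi)
    have h3 : ∑ i ∈ Finset.range q, trE q (cjE N u * cjE N b ^ i) (Additive.ofMul ⟨ν, hν⟩)
        = q • (Additive.ofMul (⟨ν, hν⟩ : N)) := by
      have h4 := DFunLike.congr_fun hsum (Additive.ofMul (⟨ν, hν⟩ : N))
      rw [AddMonoid.End.natCast_apply] at h4
      rw [← h4]
      exact (map_sum (AddMonoidHom.eval (Additive.ofMul (⟨ν, hν⟩ : N))) _ _).symm
    rw [h3] at h2
    exact h2

theorem trace_card [Finite N] {q : ℕ} (hqN : q.Coprime (Nat.card N)) {u b : G}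
    (hub : Commute u b) (hbq : b ^ q ∈ Subgroup.center G)
    (hf : ∀ l, 0 < l → l < q → ∀ ν ∈ N, Commute ν (b ^ l) → ν = 1) :
    ∏ i : Fin q, Nat.card (N ⊓ Subgroup.centralizer ({u * b ^ (i : ℕ)} : Set G) : Subgroup G)
      ≤ Nat.card N := by
  have hc : Commute (cjE N u) (cjE N b) := by
    show cjE N u * cjE N b = cjE N b * cjE N u
    rw [← cjE_mul, ← cjE_mul, hub.eq]
  have hβ : cjE N b ^ q = 1 := by rw [← cjE_pow, cjE_center N hbq]
  have hf' : ∀ j, 0 < j → j < q → ∀ a, (cjE N b ^ j) a = a → a = 0 := by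
    intro j hj0 hjq a ha
    rw [← cjE_pow, cjE_fixed_iff] at ha
    have := hf j hj0 hjq _ a.toMul.2 ha
    apply Additive.toMul.injective
    exact Subtype.ext this
  have hqM : ∀ a : Additive N, q • a = 0 → a = 0 := by
    intro a ha
    have h1 : (a.toMul : N) ^ q = 1 := congrArg Additive.toMul ha
    have h2 : (a.toMul : N) ^ Nat.card N = 1 := pow_card_eq_one'
    have h3 : (a.toMul : N) ^ (Nat.gcd q (Nat.card N)) = 1 := pow_gcd_eq_one.mpr ⟨h1, h2⟩
    rw [Nat.Coprime.gcd_eq_one hqN, pow_one] at h3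
    exact congrArg Additive.ofMul h3
  rw [← Nat.card_pi, Nat.card_congr (Additive.ofMul : N ≃ Additive N)]
  apply Nat.card_le_card_of_injective
    (fun φ : (∀ i : Fin q, (N ⊓ Subgroup.centralizer ({u * b ^ (i : ℕ)} : Set G) : Subgroup G)) =>
      (∑ i : Fin q, Additive.ofMul (⟨(φ i).1, (Subgroup.mem_inf.mp (φ i).2).1⟩ : N) : Additive N))
  intro φ φ' h
  have hfix : ∀ (ψ : (∀ i : Fin q,
      (N ⊓ Subgroup.centralizer ({u * b ^ (i : ℕ)} : Set G) : Subgroup G))) (i : Fin q),
      (cjE N u * cjE N b ^ (i : ℕ))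
          (Additive.ofMul (⟨(ψ i).1, (Subgroup.mem_inf.mp (ψ i).2).1⟩ : N))
        = Additive.ofMul (⟨(ψ i).1, (Subgroup.mem_inf.mp (ψ i).2).1⟩ : N) := by
    intro ψ i
    rw [← cjE_pow, ← cjE_mul, cjE_fixed_iff]
    have := (Subgroup.mem_inf.mp (ψ i).2).2
    rw [Subgroup.mem_centralizer_iff] at this
    exact (this _ rfl).symm
  have key := trE_indep hc hβ hf' hqM _ _ (hfix φ) (hfix φ') h
  funext i
  have := congrFun key i
  have e : (⟨(φ i).1, (Subgroup.mem_inf.mp (φ i).2).1⟩ : N)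
      = ⟨(φ' i).1, (Subgroup.mem_inf.mp (φ' i).2).1⟩ := Additive.ofMul.injective this
  have e' : ((φ i).1 : G) = (φ' i).1 := congrArg (fun t : N => (t : G)) e
  exact Subtype.ext e'

end conj

end Cfsg.Agent.Lib.helper74
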