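import Mathlib
import Cfsg.Agent.Lib.helper74.CG9

/-!
# The two largest class sizes are coprime: the centraliser of a special element is abelian
-/

set_option autoImplicit false

namespace Cfsg.Agent.Lib.helper74

variable {G : Type*} [Group G] [Finite G]

theorem card_mul_relIndex_cg {K H : Subgroup G} (hKH : K ≤ H) :
    Nat.card K * K.relIndex H = Nat.card H := by
  have h1 := Subgroup.relIndex_mul_index hKH
  have h2 := Subgroup.card_mul_index K
  have h3 := Subgroup.card_mul_index H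
  have h4 : 0 < H.index := Nat.pos_of_ne_zero Subgroup.index_ne_zero_of_finite
  have : Nat.card K * K.relIndex H * H.index = Nat.card H * H.index := by
    rw [mul_assoc, h1, h2, h3]
  exact Nat.eq_of_mul_eq_mul_right h4 this

/-- The orbit of `ν` under `C₁` together with `1` injects into `T`. -/
theorem relIndex_cent_succ_le (C₁ T : Subgroup G) {ν : G} (hT : ∀ c ∈ C₁, c * ν * c⁻¹ ∈ T)
    (hν : ν ≠ 1) :
    (C₁ ⊓ Subgroup.centralizer ({ν} : Set G)).relIndex C₁ + 1 ≤ Nat.card T := by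
  classical
  rw [Subgroup.relIndex, Subgroup.index_eq_card, ← Finite.card_option]
  apply Nat.card_le_card_of_injective
    (fun o : Option (↥C₁ ⧸ (C₁ ⊓ Subgroup.centralizer ({ν} : Set G)).subgroupOf C₁) =>
      match o with
      | none => (1 : T)
      | some x => (⟨(x.out : G) * ν * (x.out : G)⁻¹, hT _ x.out.2⟩ : T))
  intro o o' he
  rcases o with _ | x <;> rcases o' with _ | y
  · rfl
  · exfalso
    have e : (1 : G) = (y.out : G) * ν * (y.out : G)⁻¹ := congrArg Subtype.val he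
    apply hν
    calc ν = (y.out : G)⁻¹ * ((y.out : G) * ν * (y.out : G)⁻¹) * (y.out : G) := by group
      _ = 1 := by rw [← e]; group
  · exfalso
    have e : (x.out : G) * ν * (x.out : G)⁻¹ = (1 : G) := congrArg Subtype.val he
    apply hν
    calc ν = (x.out : G)⁻¹ * ((x.out : G) * ν * (x.out : G)⁻¹) * (x.out : G) := by group
      _ = 1 := by rw [e]; group
  · have e : (x.out : G) * ν * (x.out : G)⁻¹ = (y.out : G) * ν * (y.out : G)⁻¹ :=
      congrArg Subtype.val he
    have hmem : x.out⁻¹ * y.out ∈ (C₁ ⊓ Subgroup.centralizer ({ν} : Set G)).subgroupOf C₁ := by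
      rw [Subgroup.mem_subgroupOf, Subgroup.mem_inf]
      refine ⟨(x.out⁻¹ * y.out).2, ?_⟩
      rw [mem_cent_sing]
      show ν * ((x.out : G)⁻¹ * (y.out : G)) = (x.out : G)⁻¹ * (y.out : G) * ν
      calc ν * ((x.out : G)⁻¹ * (y.out : G))
          = (x.out : G)⁻¹ * ((x.out : G) * ν * (x.out : G)⁻¹) * (y.out : G) := by group
        _ = (x.out : G)⁻¹ * ((y.out : G) * ν * (y.out : G)⁻¹) * (y.out : G) := by rw [e]
        _ = (x.out : G)⁻¹ * (y.out : G) * ν := by group
    have h1 : (QuotientGroup.mk x.out : ↥C₁ ⧸ (C₁ ⊓ Subgroup.centralizer ({ν} : Set G)).subgroupOf C₁)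
        = QuotientGroup.mk y.out := QuotientGroup.eq.mpr hmem
    rw [QuotientGroup.out_eq', QuotientGroup.out_eq'] at h1
    rw [h1]

theorem relIndex_cent_le (C₁ T : Subgroup G) {ν : G} (hT : ∀ c ∈ C₁, c * ν * c⁻¹ ∈ T) :
    (C₁ ⊓ Subgroup.centralizer ({ν} : Set G)).relIndex C₁ ≤ Nat.card T := by
  by_cases hν : ν = 1
  · subst hν
    have h1 : (C₁ ⊓ Subgroup.centralizer ({(1 : G)} : Set G)).relIndex C₁ = 1 := by
      rw [Subgroup.relIndex_eq_one]
      refine le_inf le_rfl ?_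
      intro g _
      rw [mem_cent_sing, one_mul, mul_one]
    rw [h1]
    exact Nat.card_pos
  · have := relIndex_cent_succ_le C₁ T hT hν
    omega

variable {m n : ℕ} {b : G} {q : ℕ}

theorem SP.exists_b1 (h : SP G m n b q) : ∃ b₁ : G,
    Subgroup.centralizer ({b₁} : Set G) = Subgroup.centralizer ({b} : Set G) ∧
    b₁ ^ q ∈ Subgroup.center G ∧ (∃ i, orderOf b₁ = q ^ i) ∧
    (∀ l, 0 < l → l < q → ∀ ν ∈ NN G n, Commute ν (b₁ ^ l) → ν = 1) := by
  classical
  obtain ⟨j, hj⟩ := h.hbo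
  have hbZ : b ∉ Subgroup.center G := by
    intro hz
    have h1 := (csz_eq_one_iff b).mpr hz
    have := h.hb
    have := h.tl.hn
    have := h.tl.hmn
    omega
  have hP : ∃ k, b ^ (q ^ k) ∈ Subgroup.center G :=
    ⟨j, by rw [← hj, pow_orderOf_eq_one]; exact Subgroup.one_mem _⟩
  have hk0 : Nat.find hP ≠ 0 := by
    intro h0
    have := Nat.find_spec hP
    rw [h0, pow_zero, pow_one] at this
    exact hbZ this
  obtain ⟨k, hk⟩ := Nat.exists_eq_succ_of_ne_zero hk0
  have hmin : b ^ (q ^ k) ∉ Subgroup.center G :=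
    Nat.find_min hP (by rw [hk]; exact Nat.lt_succ_self k)
  have hspec : (b ^ (q ^ k)) ^ q ∈ Subgroup.center G := by
    have := Nat.find_spec hP
    rw [hk, pow_succ, pow_mul] at this
    exact this
  have hle : ∀ l : ℕ, Subgroup.centralizer ({b} : Set G)
      ≤ Subgroup.centralizer ({(b ^ (q ^ k)) ^ l} : Set G) := by
    intro l
    rw [← pow_mul]; exact cent_le_cent_pow b _
  have hnc : ∀ l, 0 < l → l < q → (b ^ (q ^ k)) ^ l ∉ Subgroup.center G := by
    intro l hl0 hlq hz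
    have hco : l.Coprime q := (Nat.coprime_of_lt_prime hl0.ne' hlq h.hq).symm
    obtain ⟨a, -, ha⟩ := Nat.exists_mul_mod_eq_one_of_coprime hco h.hq.one_lt
    have e : l * a = q * (l * a / q) + 1 := by
      have := Nat.div_add_mod (l * a) q
      omega
    apply hmin
    have h1 : ((b ^ (q ^ k)) ^ l) ^ a ∈ Subgroup.center G := Subgroup.pow_mem _ hz a
    rw [← pow_mul, e, pow_succ, pow_mul] at h1
    have h2 : ((b ^ (q ^ k)) ^ q) ^ (l * a / q) ∈ Subgroup.center G := Subgroup.pow_mem _ hspec _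
    exact (Subgroup.mul_mem_cancel_left _ h2).mp h1
  refine ⟨b ^ (q ^ k), ?_, hspec, ?_, ?_⟩
  · exact h.cent_eq (by have := hle 1; rwa [pow_one] at this) hmin
  · have hd : orderOf (b ^ (q ^ k)) ∣ q ^ j := by rw [← hj]; exact orderOf_pow_dvd _
    obtain ⟨i, -, hi⟩ := (Nat.dvd_prime_pow h.hq).mp hd
    exact ⟨i, hi⟩
  · intro l hl0 hlq ν hν hc
    have hcent := h.cent_eq (hle l) (hnc l hl0 hlq)
    apply h.NN_inf hν
    rw [← hcent, mem_cent_sing]
    exact hc.symm.eq

theorem SP.exists_u1 (h : SP G m n b q)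
    (hnot : ¬ ∀ u ∈ Subgroup.centralizer ({b} : Set G),
      Subgroup.centralizer ({b} : Set G) ≤ Subgroup.centralizer ({u} : Set G)) :
    ∃ u₁ ∈ Subgroup.centralizer ({b} : Set G),
      ¬ (Subgroup.centralizer ({b} : Set G) ≤ Subgroup.centralizer ({u₁} : Set G)) ∧
      u₁ ^ q ∈ Subgroup.center G ∧ ∃ i, orderOf u₁ = q ^ i := by
  classical
  push Not at hnot
  obtain ⟨u, hu, hun⟩ := hnot
  obtain ⟨u', u'', hu', hu'', huu, hco, i, hi⟩ := exists_pq_decomp u h.hq
  have hz : Subgroup.zpowers u ≤ Subgroup.centralizer ({b} : Set G) := Subgroup.zpowers_le.mpr hu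
  have h1 := h.ito (hz hu') hco
  have h2 : ¬ (Subgroup.centralizer ({b} : Set G) ≤ Subgroup.centralizer ({u''} : Set G)) := by
    intro h2
    apply hun
    intro g hg
    have e1 := mem_cent_sing.mp (h1 hg)
    have e2 := mem_cent_sing.mp (h2 hg)
    rw [mem_cent_sing, huu]
    calc u' * u'' * g = u' * (u'' * g) := mul_assoc _ _ _
      _ = u' * (g * u'') := by rw [e2]
      _ = (u' * g) * u'' := (mul_assoc _ _ _).symm
      _ = g * u' * u'' := by rw [e1]
      _ = g * (u' * u'') := mul_assoc _ _ _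
  have hP : ∃ k, Subgroup.centralizer ({b} : Set G)
      ≤ Subgroup.centralizer ({u'' ^ (q ^ k)} : Set G) := by
    refine ⟨i, ?_⟩
    rw [← hi, pow_orderOf_eq_one]
    intro g _
    rw [mem_cent_sing, one_mul, mul_one]
  have hk0 : Nat.find hP ≠ 0 := by
    intro h0
    have := Nat.find_spec hP
    rw [h0, pow_zero, pow_one] at this
    exact h2 this
  obtain ⟨k, hk⟩ := Nat.exists_eq_succ_of_ne_zero hk0
  have hmin : ¬ (Subgroup.centralizer ({b} : Set G)
      ≤ Subgroup.centralizer ({u'' ^ (q ^ k)} : Set G)) :=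
    Nat.find_min hP (by rw [hk]; exact Nat.lt_succ_self k)
  have hspec : Subgroup.centralizer ({b} : Set G)
      ≤ Subgroup.centralizer ({(u'' ^ (q ^ k)) ^ q} : Set G) := by
    have := Nat.find_spec hP
    rw [hk, pow_succ, pow_mul] at this
    exact this
  refine ⟨u'' ^ (q ^ k), Subgroup.pow_mem _ (hz hu'') _, hmin, ?_, ?_⟩
  · by_contra hZ
    exact hmin (h.star q hspec hZ)
  · have hd : orderOf (u'' ^ (q ^ k)) ∣ q ^ i := by rw [← hi]; exact orderOf_pow_dvd _
    obtain ⟨i', -, hi'⟩ := (Nat.dvd_prime_pow h.hq).mp hd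
    exact ⟨i', hi'⟩

/-- The centraliser of a special element is abelian. -/
theorem SP.cent_comm (h : SP G m n b q) : ∀ u ∈ Subgroup.centralizer ({b} : Set G),
    Subgroup.centralizer ({b} : Set G) ≤ Subgroup.centralizer ({u} : Set G) := by
  classical
  by_contra hnot
  obtain ⟨u₁, hu₁, hu₁n, hu₁q, iu, hiu⟩ := h.exists_u1 hnot
  obtain ⟨b₁, hb₁c, hb₁q, ⟨ib, hib⟩, hfpf⟩ := h.exists_b1
  have : IsMulCommutative (NN G n) :=
    ⟨⟨fun a c => Subtype.ext (h.tl.NN_comm a.1 a.2 c.1 c.2)⟩⟩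
  have hq0 : 0 < q := h.hq.pos
  have hqm' : q.Coprime m := (Nat.Prime.coprime_iff_not_dvd h.hq).mpr h.hqm
  have hub : Commute u₁ b₁ := by
    have : u₁ ∈ Subgroup.centralizer ({b₁} : Set G) := by rw [hb₁c]; exact hu₁
    exact (show Commute b₁ u₁ from mem_cent_sing.mp this).symm
  obtain ⟨x, hx⟩ := h.tl.exn
  obtain ⟨ν, hν, hνc⟩ := h.tl.exists_regular hx
  obtain ⟨f, hfN, hfc, hfg⟩ := trace_exists (NN G n) hq0 hub hb₁q hu₁q hfpf hν
  -- commuting with ν^q implies commuting with ν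
  have hqν : ∀ g : G, Commute g (ν ^ q) → Commute g ν := by
    intro g hg
    have hco : q.Coprime (orderOf ν) := by
      have h1 : orderOf ν ∣ m := (Subgroup.orderOf_dvd_natCard _ hν).trans h.tl.NN_card_dvd
      exact Nat.Coprime.coprime_dvd_right h1 hqm'
    obtain ⟨a, ha⟩ := exists_pow_eq_self_of_coprime hco
    rw [← ha]
    exact hg.pow_right a
  -- elements of C(b) commuting with ν are central
  have hcen : ∀ g ∈ Subgroup.centralizer ({b} : Set G), Commute g ν → g ∈ Subgroup.center G := by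
    intro g hg hgν
    apply h.cent_inf_le hx
    rw [Subgroup.mem_inf]
    refine ⟨hg, ?_⟩
    rw [← hνc, mem_cent_sing]
    exact hgν.symm.eq
  -- elements of C(b) commute with powers of b₁
  have hb₁pow : ∀ g ∈ Subgroup.centralizer ({b} : Set G), ∀ i : ℕ, Commute g (b₁ ^ i) := by
    intro g hg i
    have : g ∈ Subgroup.centralizer ({b₁} : Set G) := by rw [hb₁c]; exact hg
    exact ((show Commute b₁ g from mem_cent_sing.mp this).symm).pow_right i
  have hCw : ∀ i : ℕ, Subgroup.centralizer ({b} : Set G)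
      ⊓ Subgroup.centralizer ({u₁ * b₁ ^ i} : Set G)
      = Subgroup.centralizer ({b} : Set G) ⊓ Subgroup.centralizer ({u₁} : Set G) := by
    intro i
    ext g
    rw [Subgroup.mem_inf, Subgroup.mem_inf]
    constructor
    · rintro ⟨hg, hgw⟩
      refine ⟨hg, ?_⟩
      have h1 := hb₁pow g hg i
      have h2 : Commute g (u₁ * b₁ ^ i) :=
        (show Commute (u₁ * b₁ ^ i) g from mem_cent_sing.mp hgw).symm
      have h3 : Commute g ((u₁ * b₁ ^ i) * (b₁ ^ i)⁻¹) := h2.mul_right h1.inv_right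
      rw [mul_inv_cancel_right] at h3
      exact mem_cent_sing.mpr h3.symm.eq
    · rintro ⟨hg, hgu⟩
      refine ⟨hg, ?_⟩
      have h1 := hb₁pow g hg i
      have h2 : Commute g u₁ := (show Commute u₁ g from mem_cent_sing.mp hgu).symm
      exact mem_cent_sing.mpr (h2.mul_right h1).symm.eq
  have hwC : ∀ i : ℕ, u₁ * b₁ ^ i ∈ Subgroup.centralizer ({b} : Set G) := by
    intro i
    have hb₁ : b₁ ∈ Subgroup.centralizer ({b} : Set G) := by
      rw [← hb₁c, mem_cent_sing]
    exact mul_mem hu₁ (Subgroup.pow_mem _ hb₁ i)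
  have hwo : ∀ i : ℕ, (orderOf (u₁ * b₁ ^ i)).Coprime m := by
    intro i
    have h1 : u₁ ^ (q ^ (iu + ib)) = 1 :=
      orderOf_dvd_iff_pow_eq_one.mp (by rw [hiu]; exact pow_dvd_pow q (Nat.le_add_right _ _))
    have h2 : (b₁ ^ i) ^ (q ^ (iu + ib)) = 1 :=
      orderOf_dvd_iff_pow_eq_one.mp ((orderOf_pow_dvd i).trans
        (by rw [hib]; exact pow_dvd_pow q (Nat.le_add_left _ _)))
    have h3 : (u₁ * b₁ ^ i) ^ (q ^ (iu + ib)) = 1 := by
      rw [(hub.pow_right i).mul_pow, h1, h2, one_mul]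
    exact Nat.Coprime.coprime_dvd_left (orderOf_dvd_of_pow_eq_one h3)
      (Nat.Coprime.pow_left _ hqm')
  -- the subgroups
  have hinf : (⨅ i : Fin q, (Subgroup.centralizer ({b} : Set G)
      ⊓ Subgroup.centralizer ({u₁} : Set G)) ⊓ Subgroup.centralizer ({f i} : Set G))
      ≤ Subgroup.center G := by
    intro g hg
    rw [Subgroup.mem_iInf] at hg
    have hgb : g ∈ Subgroup.centralizer ({b} : Set G) :=
      (Subgroup.mem_inf.mp (Subgroup.mem_inf.mp (hg ⟨0, hq0⟩)).1).1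
    apply hcen g hgb
    apply hqν
    apply hfg
    intro i hi
    have := (Subgroup.mem_inf.mp (hg ⟨i, hi⟩)).2
    exact (show Commute (f i) g from mem_cent_sing.mp this).symm
  -- two non-trivial components
  have hE : ∃ i₁ i₂ : Fin q, i₁ ≠ i₂ ∧ f i₁ ≠ 1 ∧ f i₂ ≠ 1 := by
    by_contra hcon
    push Not at hcon
    have hex : ∃ i₀ : Fin q, ∀ i : Fin q, i ≠ i₀ → f i = 1 := by
      by_cases hall : ∀ i : Fin q, f i = 1
      · exact ⟨⟨0, hq0⟩, fun i _ => hall i⟩
      · push Not at hall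
        obtain ⟨i₀, hi₀⟩ := hall
        exact ⟨i₀, fun i hi => hcon i₀ i (Ne.symm hi) hi₀⟩
    obtain ⟨i₀, hi₀⟩ := hex
    have hw : Commute (u₁ * b₁ ^ (i₀ : ℕ)) (ν ^ q) := by
      apply hfg
      intro i hi
      by_cases hii : (⟨i, hi⟩ : Fin q) = i₀
      · have e : i = (i₀ : ℕ) := congrArg Fin.val hii
        rw [e]
        exact (hfc i₀ i₀.isLt).symm
      · have e : f i = 1 := hi₀ ⟨i, hi⟩ hii
        rw [e]
        exact Commute.one_right _
    have hwZ := hcen _ (hwC i₀) (hqν _ hw)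
    apply hu₁n
    intro g hg
    rw [mem_cent_sing]
    have h1 := hb₁pow g hg i₀
    have h2 : Commute g (u₁ * b₁ ^ (i₀ : ℕ)) := (Subgroup.mem_center_iff.mp hwZ g)
    have h3 : Commute g ((u₁ * b₁ ^ (i₀ : ℕ)) * (b₁ ^ (i₀ : ℕ))⁻¹) := h2.mul_right h1.inv_right
    rw [mul_inv_cancel_right] at h3
    exact h3.symm.eq
  obtain ⟨i₁, i₂, hne, hf1, hf2⟩ := hE
  -- counting
  have hHs_le : ∀ i : Fin q, (Subgroup.centralizer ({b} : Set G)
      ⊓ Subgroup.centralizer ({u₁} : Set G)) ⊓ Subgroup.centralizer ({f i} : Set G)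
      ≤ Subgroup.centralizer ({b} : Set G) ⊓ Subgroup.centralizer ({u₁} : Set G) :=
    fun i => inf_le_left
  have hA : Nat.card (Subgroup.centralizer ({b} : Set G)
        ⊓ Subgroup.centralizer ({u₁} : Set G) : Subgroup G)
      ≤ Nat.card (Subgroup.center G) * ∏ i : Fin q, ((Subgroup.centralizer ({b} : Set G)
        ⊓ Subgroup.centralizer ({u₁} : Set G)) ⊓ Subgroup.centralizer ({f i} : Set G)).relIndex
          (Subgroup.centralizer ({b} : Set G) ⊓ Subgroup.centralizer ({u₁} : Set G)) := by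
    have h1 : (⨅ i : Fin q, (Subgroup.centralizer ({b} : Set G)
        ⊓ Subgroup.centralizer ({u₁} : Set G)) ⊓ Subgroup.centralizer ({f i} : Set G))
        ≤ Subgroup.centralizer ({b} : Set G) ⊓ Subgroup.centralizer ({u₁} : Set G) :=
      (iInf_le _ (⟨0, hq0⟩ : Fin q)).trans (hHs_le _)
    have h2 := card_mul_relIndex_cg h1
    have h3 := Subgroup.card_le_of_le hinf
    have h4 := Subgroup.relIndex_iInf_le
      (L := Subgroup.centralizer ({b} : Set G) ⊓ Subgroup.centralizer ({u₁} : Set G))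
      (fun i : Fin q => (Subgroup.centralizer ({b} : Set G)
        ⊓ Subgroup.centralizer ({u₁} : Set G)) ⊓ Subgroup.centralizer ({f i} : Set G))
    rw [← h2]
    exact Nat.mul_le_mul h3 h4
  have hr := fun i : Fin q => card_mul_relIndex_cg (hHs_le i)
  have hB : ∀ i : Fin q, f i ≠ 1 → Nat.card (NN G n) * Nat.card (Subgroup.center G)
      ≤ Nat.card (NN G n ⊓ Subgroup.centralizer ({u₁ * b₁ ^ (i : ℕ)} : Set G) : Subgroup G)
        * Nat.card ((Subgroup.centralizer ({b} : Set G)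
          ⊓ Subgroup.centralizer ({u₁} : Set G)) ⊓ Subgroup.centralizer ({f i} : Set G)
            : Subgroup G) := by
    intro i hi
    have := h.card_bound (hwC i) (hwo i) (hfN i) hi (hfc i i.isLt) (hfN i) (hfc i i.isLt)
    rw [hCw i] at this
    exact this
  have hqN : q.Coprime (Nat.card (NN G n)) := Nat.Coprime.coprime_dvd_right h.tl.NN_card_dvd hqm'
  have hC := trace_card (NN G n) hqN hub hb₁q hfpf
  have hT : ∀ i : Fin q, ∀ c ∈ (Subgroup.centralizer ({b} : Set G)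
      ⊓ Subgroup.centralizer ({u₁} : Set G) : Subgroup G), c * f i * c⁻¹
        ∈ (NN G n ⊓ Subgroup.centralizer ({u₁ * b₁ ^ (i : ℕ)} : Set G) : Subgroup G) := by
    intro i c hc
    rw [Subgroup.mem_inf]
    refine ⟨(comSub_normal _).conj_mem _ (hfN i) c, ?_⟩
    have hcw : c ∈ Subgroup.centralizer ({u₁ * b₁ ^ (i : ℕ)} : Set G) := by
      have : c ∈ Subgroup.centralizer ({b} : Set G)
          ⊓ Subgroup.centralizer ({u₁ * b₁ ^ (i : ℕ)} : Set G) := by
        rw [hCw i]; exact hc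
      exact (Subgroup.mem_inf.mp this).2
    rw [mem_cent_sing] at hcw ⊢
    have h1 : Commute (u₁ * b₁ ^ (i : ℕ)) c := hcw
    have h2 : Commute (u₁ * b₁ ^ (i : ℕ)) (f i) := (hfc i i.isLt).symm
    exact ((h1.mul_right h2).mul_right h1.inv_right).eq
  have hD := fun i : Fin q => relIndex_cent_le _ _ (hT i)
  have hD' := fun (i : Fin q) (hi : f i ≠ 1) => relIndex_cent_succ_le _ _ (hT i) hi
  have hrpos : ∀ i : Fin q, 0 < ((Subgroup.centralizer ({b} : Set G)
        ⊓ Subgroup.centralizer ({u₁} : Set G)) ⊓ Subgroup.centralizer ({f i} : Set G)).relIndex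
          (Subgroup.centralizer ({b} : Set G) ⊓ Subgroup.centralizer ({u₁} : Set G)) := by
    intro i
    apply Nat.pos_of_ne_zero
    show (Subgroup.subgroupOf _ _).index ≠ 0
    exact Subgroup.index_ne_zero_of_finite
  have hlt := Finset.prod_lt_prod (s := Finset.univ.erase i₁) (fun i _ => hrpos i)
    (fun i _ => hD i) ⟨i₂, Finset.mem_erase.mpr ⟨hne.symm, Finset.mem_univ _⟩, hD' i₂ hf2⟩
  have e1 := Finset.mul_prod_erase Finset.univ (fun i : Fin q => ((Subgroup.centralizer ({b} : Set G)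
        ⊓ Subgroup.centralizer ({u₁} : Set G)) ⊓ Subgroup.centralizer ({f i} : Set G)).relIndex
          (Subgroup.centralizer ({b} : Set G) ⊓ Subgroup.centralizer ({u₁} : Set G)))
    (Finset.mem_univ i₁)
  have e2 := Finset.mul_prod_erase Finset.univ (fun i : Fin q =>
    Nat.card (NN G n ⊓ Subgroup.centralizer ({u₁ * b₁ ^ (i : ℕ)} : Set G) : Subgroup G))
    (Finset.mem_univ i₁)
  have hB1 := hB i₁ hf1
  have hr1 := hr i₁
  have hrp1 := hrpos i₁
  have hZpos : 0 < Nat.card (Subgroup.center G) := Nat.card_pos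
  have hNpos : 0 < Nat.card (NN G n ⊓ Subgroup.centralizer ({u₁ * b₁ ^ (i₁ : ℕ)} : Set G)
      : Subgroup G) := Nat.card_pos
  generalize Nat.card (NN G n) = A at *
  generalize Nat.card (Subgroup.center G) = Z at *
  generalize Nat.card (Subgroup.centralizer ({b} : Set G)
        ⊓ Subgroup.centralizer ({u₁} : Set G) : Subgroup G) = c₁ at *
  generalize (∏ i : Fin q, ((Subgroup.centralizer ({b} : Set G)
        ⊓ Subgroup.centralizer ({u₁} : Set G)) ⊓ Subgroup.centralizer ({f i} : Set G)).relIndex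
          (Subgroup.centralizer ({b} : Set G) ⊓ Subgroup.centralizer ({u₁} : Set G))) = Pr at *
  generalize (∏ i : Fin q,
    Nat.card (NN G n ⊓ Subgroup.centralizer ({u₁ * b₁ ^ (i : ℕ)} : Set G) : Subgroup G)) = PN at *
  generalize (∏ i ∈ Finset.univ.erase i₁, ((Subgroup.centralizer ({b} : Set G)
        ⊓ Subgroup.centralizer ({u₁} : Set G)) ⊓ Subgroup.centralizer ({f i} : Set G)).relIndex
          (Subgroup.centralizer ({b} : Set G) ⊓ Subgroup.centralizer ({u₁} : Set G))) = R' at *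
  generalize (∏ i ∈ Finset.univ.erase i₁,
    Nat.card (NN G n ⊓ Subgroup.centralizer ({u₁ * b₁ ^ (i : ℕ)} : Set G) : Subgroup G)) = N' at *
  generalize (((Subgroup.centralizer ({b} : Set G)
        ⊓ Subgroup.centralizer ({u₁} : Set G)) ⊓ Subgroup.centralizer ({f i₁} : Set G)).relIndex
          (Subgroup.centralizer ({b} : Set G) ⊓ Subgroup.centralizer ({u₁} : Set G))) = r₁ at *
  generalize Nat.card (NN G n ⊓ Subgroup.centralizer ({u₁ * b₁ ^ (i₁ : ℕ)} : Set G)
      : Subgroup G) = Nc₁ at *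
  generalize Nat.card ((Subgroup.centralizer ({b} : Set G)
          ⊓ Subgroup.centralizer ({u₁} : Set G)) ⊓ Subgroup.centralizer ({f i₁} : Set G)
            : Subgroup G) = Hc₁ at *
  -- hB1 : A * Z ≤ Nc₁ * Hc₁ ; hr1 : Hc₁ * r₁ = c₁ ; hA : c₁ ≤ Z * Pr ; e1 : r₁ * R' = Pr
  -- hlt : R' < N' ; e2 : Nc₁ * N' = PN ; hC : PN ≤ A
  have hpos : 0 < Nc₁ * Z * r₁ := Nat.mul_pos (Nat.mul_pos hNpos hZpos) hrp1
  have key : A * Z * r₁ < A * Z * r₁ := by
    calc A * Z * r₁ ≤ (Nc₁ * Hc₁) * r₁ := Nat.mul_le_mul_right _ hB1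
      _ = Nc₁ * c₁ := by rw [mul_assoc, hr1]
      _ ≤ Nc₁ * (Z * Pr) := Nat.mul_le_mul_left _ hA
      _ = (Nc₁ * Z * r₁) * R' := by rw [← e1]; ring
      _ < (Nc₁ * Z * r₁) * N' := Nat.mul_lt_mul_of_pos_left hlt hpos
      _ = Z * r₁ * (Nc₁ * N') := by ring
      _ = Z * r₁ * PN := by rw [e2]
      _ ≤ Z * r₁ * A := Nat.mul_le_mul_left _ hC
      _ = A * Z * r₁ := by ring
  exact lt_irrefl _ key

end Cfsg.Agent.Lib.helper74
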