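import Mathlib
import Cfsg.Prelude.Def_Solvable
import Cfsg.Agent.Lib.helper74.CG4
import Cfsg.Agent.Lib.helper74.CG10

/-!
# The two largest class sizes are coprime: `G/Z(G)` is a Frobenius group with kernel
`C(x)/Z(G)` and complement `C(y)/Z(G)`, both abelian.
-/

set_option autoImplicit false

namespace Cfsg.Agent.Lib.helper74

variable {G : Type*} [Group G] [Finite G]

section frob

variable {X Y : G → Prop} {s : ℕ} [Fact s.Prime] {U : Sylow s G} {a₀ u₀ : G}

theorem FSU.frob_compl (h : FSU X Y s U a₀ u₀) :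
    Cfsg.IsFrobeniusComplement ((Subgroup.centralizer ((U : Subgroup G) : Set G)).map
      (QuotientGroup.mk' (Subgroup.center G))) := by
  have hfs := h.fs
  have ha₀ := h.ha₀
  have hZC : Subgroup.center G ≤ Subgroup.centralizer ((U : Subgroup G) : Set G) :=
    Subgroup.center_le_centralizer _
  obtain ⟨π, hπs, hπ1, hπe, hπdef⟩ : ∃ π : G →* G ⧸ Subgroup.center G, Function.Surjective π ∧
      (∀ x, π x = 1 ↔ x ∈ Subgroup.center G) ∧
      (∀ x y, π x = π y ↔ x⁻¹ * y ∈ Subgroup.center G) ∧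
      π = QuotientGroup.mk' (Subgroup.center G) :=
    ⟨QuotientGroup.mk' _, QuotientGroup.mk'_surjective _, fun x => QuotientGroup.eq_one_iff x,
      fun x y => QuotientGroup.eq, rfl⟩
  rw [← hπdef]
  have hM : ∃ y, y ∉ MSub X := by
    by_contra hcon
    push Not at hcon
    apply hfs.hs.ncX a₀ ha₀
    rw [csz_eq_one_iff, Subgroup.mem_center_iff]
    intro g
    exact hfs.M_comm g (hcon g) a₀ (hcon a₀)
  obtain ⟨y₀, hy₀⟩ := hM
  obtain ⟨g₀, c₀, hc₀, hc₀Z, -⟩ := h.cov hy₀
  refine ⟨?_, ?_, ?_⟩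
  · intro hbot
    have h1 : π c₀ ∈ (Subgroup.centralizer ((U : Subgroup G) : Set G)).map π :=
      Subgroup.mem_map_of_mem _ hc₀
    rw [hbot, Subgroup.mem_bot] at h1
    exact hc₀Z ((hπ1 _).mp h1)
  · intro htop
    have h1 : π a₀ ∈ (Subgroup.centralizer ((U : Subgroup G) : Set G)).map π := by
      rw [htop]; trivial
    obtain ⟨c, hc, hce⟩ := Subgroup.mem_map.mp h1
    have h2 : c⁻¹ * a₀ ∈ Subgroup.center G := (hπe _ _).mp hce
    have h3 : a₀ ∈ Subgroup.centralizer ((U : Subgroup G) : Set G) := by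
      have e : a₀ = c * (c⁻¹ * a₀) := by group
      rw [e]; exact mul_mem hc (hZC h2)
    apply hfs.hs.ncX a₀ ha₀
    rw [csz_eq_one_iff]
    exact h.M_cent (hfs.X_mem ha₀) h3
  · intro gbar hg
    obtain ⟨g, rfl⟩ := hπs gbar
    rw [eq_bot_iff]
    intro xbar hx
    rw [Subgroup.mem_inf] at hx
    obtain ⟨hx1, hx2⟩ := hx
    rw [Subgroup.mem_bot]
    obtain ⟨c₁, hc₁, rfl⟩ := Subgroup.mem_map.mp hx1
    rw [Subgroup.mem_smul_pointwise_iff_exists] at hx2
    obtain ⟨t, ht, hte⟩ := hx2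
    obtain ⟨c₂, hc₂, rfl⟩ := Subgroup.mem_map.mp ht
    have hte' : π c₁ = π (g * c₂ * g⁻¹) := by
      rw [← hte, MulAut.smul_def, MulAut.conj_apply, map_mul, map_mul, map_inv]
    have hz : c₁⁻¹ * (g * c₂ * g⁻¹) ∈ Subgroup.center G := (hπe _ _).mp hte'
    obtain ⟨m, hm, c, hc, rfl⟩ := h.prod g
    obtain ⟨n, hn, z', hz', rfl⟩ := mem_MSub.mp hm
    have hzc' := Subgroup.mem_center_iff.mp hz'
    have hc₃ : c * c₂ * c⁻¹ ∈ Subgroup.centralizer ((U : Subgroup G) : Set G) :=
      mul_mem (mul_mem hc hc₂) (inv_mem hc)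
    have e1 : n * z' * c * c₂ * (n * z' * c)⁻¹ = n * (c * c₂ * c⁻¹) * n⁻¹ := by
      have : n * z' * c * c₂ * (n * z' * c)⁻¹ = n * (z' * (c * c₂ * c⁻¹)) * z'⁻¹ * n⁻¹ := by
        group
      rw [this, ← hzc' (c * c₂ * c⁻¹)]; group
    rw [e1] at hz
    have e2 : n * (c * c₂ * c⁻¹) * n⁻¹ * (c * c₂ * c⁻¹)⁻¹
        = c₁ * (c₁⁻¹ * (n * (c * c₂ * c⁻¹) * n⁻¹)) * (c * c₂ * c⁻¹)⁻¹ := by group
    have hN : n * (c * c₂ * c⁻¹) * n⁻¹ * (c * c₂ * c⁻¹)⁻¹ ∈ comSub X := by
      have : n * (c * c₂ * c⁻¹) * n⁻¹ * (c * c₂ * c⁻¹)⁻¹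
          = n * ((c * c₂ * c⁻¹) * n⁻¹ * (c * c₂ * c⁻¹)⁻¹) := by group
      rw [this]
      exact mul_mem hn ((comSub_normal X).conj_mem _ (inv_mem hn) _)
    have hC : n * (c * c₂ * c⁻¹) * n⁻¹ * (c * c₂ * c⁻¹)⁻¹
        ∈ Subgroup.centralizer ((U : Subgroup G) : Set G) := by
      rw [e2]
      exact mul_mem (mul_mem hc₁ (hZC hz)) (inv_mem hc₃)
    have h1 := h.N_cent hN hC
    have h2 : n * (c * c₂ * c⁻¹) = (c * c₂ * c⁻¹) * n := by
      calc n * (c * c₂ * c⁻¹)
          = (n * (c * c₂ * c⁻¹) * n⁻¹ * (c * c₂ * c⁻¹)⁻¹) * ((c * c₂ * c⁻¹) * n) := by group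
        _ = (c * c₂ * c⁻¹) * n := by rw [h1, one_mul]
    have h3 : c * c₂ * c⁻¹ ∈ Subgroup.center G := by
      by_contra hcon
      have hn1 := h.FP hc₃ hcon hn h2.symm
      apply hg
      have : π (n * z' * c) = π c := by
        rw [hn1, one_mul, map_mul, (hπ1 z').mpr hz', one_mul]
      rw [this]
      exact Subgroup.mem_map_of_mem _ hc
    rw [hπ1]
    have e3 : c₁ = (c * c₂ * c⁻¹) * (c₁⁻¹ * (n * (c * c₂ * c⁻¹) * n⁻¹))⁻¹ := by
      have : n * (c * c₂ * c⁻¹) * n⁻¹ = c * c₂ * c⁻¹ := by rw [h2]; group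
      rw [this]; group
    rw [e3]
    exact mul_mem h3 (inv_mem hz)

theorem FSU.frob_kernel (h : FSU X Y s U a₀ u₀) :
    Cfsg.frobeniusKernel ((Subgroup.centralizer ((U : Subgroup G) : Set G)).map
      (QuotientGroup.mk' (Subgroup.center G)))
      = (((MSub X).map (QuotientGroup.mk' (Subgroup.center G)) :
          Subgroup (G ⧸ Subgroup.center G)) : Set (G ⧸ Subgroup.center G)) := by
  obtain ⟨π, hπs, hπ1, hπe, hπdef⟩ : ∃ π : G →* G ⧸ Subgroup.center G, Function.Surjective π ∧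
      (∀ x, π x = 1 ↔ x ∈ Subgroup.center G) ∧
      (∀ x y, π x = π y ↔ x⁻¹ * y ∈ Subgroup.center G) ∧
      π = QuotientGroup.mk' (Subgroup.center G) :=
    ⟨QuotientGroup.mk' _, QuotientGroup.mk'_surjective _, fun x => QuotientGroup.eq_one_iff x,
      fun x y => QuotientGroup.eq, rfl⟩
  rw [← hπdef]
  ext xbar
  constructor
  · intro hx
    rw [SetLike.mem_coe]
    obtain ⟨g, rfl⟩ := hπs xbar
    obtain ⟨m, hm, c, hc, rfl⟩ := h.prod g
    by_cases hcZ : c ∈ Subgroup.center G
    · exact Subgroup.mem_map_of_mem _ (mul_mem hm (center_le_MSub X hcZ))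
    · rcases hx with hx | hx
      · exact Subgroup.mem_map_of_mem _ (center_le_MSub X ((hπ1 _).mp hx))
      · exfalso
        obtain ⟨n, hn, z, hz, rfl⟩ := mem_MSub.mp hm
        obtain ⟨n', hn', e⟩ := h.SJ hc hcZ hn
        apply hx (π n')
        rw [Subgroup.mem_smul_pointwise_iff_exists]
        refine ⟨π c, Subgroup.mem_map_of_mem _ hc, ?_⟩
        have hz' := Subgroup.mem_center_iff.mp hz
        have e4 : n * z * c = z * (n' * c * n'⁻¹) := by
          calc n * z * c = z * (n * c) := by rw [hz' n, mul_assoc]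
            _ = z * (n' * c * n'⁻¹ * c⁻¹ * c) := by rw [← e]
            _ = z * (n' * c * n'⁻¹) := by group
        rw [MulAut.smul_def, MulAut.conj_apply, e4, map_mul, (hπ1 z).mpr hz, one_mul, map_mul,
          map_mul, map_inv]
  · intro hx
    rw [SetLike.mem_coe] at hx
    obtain ⟨m, hm, rfl⟩ := Subgroup.mem_map.mp hx
    by_cases hmZ : m ∈ Subgroup.center G
    · left; exact (hπ1 m).mpr hmZ
    · right
      intro gbar hmem
      obtain ⟨g, rfl⟩ := hπs gbar
      rw [Subgroup.mem_smul_pointwise_iff_exists] at hmem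
      obtain ⟨t, ht, hte⟩ := hmem
      obtain ⟨c, hc, rfl⟩ := Subgroup.mem_map.mp ht
      have hte' : π m = π (g * c * g⁻¹) := by
        rw [← hte, MulAut.smul_def, MulAut.conj_apply, map_mul, map_mul, map_inv]
      have hz : m⁻¹ * (g * c * g⁻¹) ∈ Subgroup.center G := (hπe _ _).mp hte'
      have hcM : c ∈ MSub X := by
        have h1 : g * c * g⁻¹ ∈ MSub X := by
          have e : g * c * g⁻¹ = m * (m⁻¹ * (g * c * g⁻¹)) := by group
          rw [e]; exact mul_mem hm (center_le_MSub X hz)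
        have h2 := (MSub_normal X).conj_mem _ h1 g⁻¹
        have e : g⁻¹ * (g * c * g⁻¹) * g⁻¹⁻¹ = c := by group
        rwa [e] at h2
      have hcZ : c ∈ Subgroup.center G := h.M_cent hcM hc
      have hgc : g * c * g⁻¹ ∈ Subgroup.center G :=
        (inferInstance : (Subgroup.center G).Normal).conj_mem _ hcZ g
      apply hmZ
      have e : m = (g * c * g⁻¹) * (m⁻¹ * (g * c * g⁻¹))⁻¹ := by group
      rw [e]; exact mul_mem hgc (inv_mem hz)

end frob

variable {m n : ℕ}

theorem SP.tri {b : G} {q : ℕ} (h : SP G m n b q) (g : G) :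
    csz g = 1 ∨ csz g = n ∨ csz g = m := by
  by_cases hm : csz g = m
  · exact Or.inr (Or.inr hm)
  by_cases h1 : csz g = 1
  · exact Or.inl h1
  refine Or.inr (Or.inl ?_)
  have hle : csz g ≤ n := h.tl.sec g (lt_of_le_of_ne (h.tl.top g) hm)
  have hgZ : g ∉ Subgroup.center G := fun hz => h1 ((csz_eq_one_iff g).mpr hz)
  have hinf : Subgroup.centralizer ({g} : Set G) ⊓ Subgroup.centralizer ({b} : Set G)
      ≤ Subgroup.center G := by
    intro u hu
    rw [Subgroup.mem_inf] at hu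
    obtain ⟨hug, hub⟩ := hu
    by_contra huZ
    have e1 := h.cent_eq (h.cent_comm u hub) huZ
    have hgb : g ∈ Subgroup.centralizer ({b} : Set G) := by
      rw [← e1, mem_cent_sing]
      exact (mem_cent_sing.mp hug).symm
    have e2 := h.cent_eq (h.cent_comm g hgb) hgZ
    apply hm
    show (Subgroup.centralizer ({g} : Set G)).index = m
    rw [e2]
    exact h.hb
  have h2 := card_mul_card_le (Subgroup.centralizer ({g} : Set G))
    (Subgroup.centralizer ({b} : Set G))
  have h3 := Subgroup.card_le_of_le hinf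
  have h4 := h.card_cent
  have h5 := Subgroup.card_mul_index (Subgroup.centralizer ({g} : Set G))
  have hpos : 0 < Nat.card (Subgroup.centralizer ({g} : Set G)) := Nat.card_pos
  have hZpos : 0 < Nat.card (Subgroup.center G) := Nat.card_pos
  have h6 : Nat.card (Subgroup.centralizer ({g} : Set G)) * Nat.card (Subgroup.center G) * n
      ≤ Nat.card (Subgroup.centralizer ({g} : Set G)) * Nat.card (Subgroup.center G) * csz g := by
    calc Nat.card (Subgroup.centralizer ({g} : Set G)) * Nat.card (Subgroup.center G) * n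
        = Nat.card (Subgroup.centralizer ({g} : Set G))
          * Nat.card (Subgroup.centralizer ({b} : Set G)) := by rw [h4]; ring
      _ ≤ Nat.card G * Nat.card (Subgroup.centralizer ({g} : Set G)
          ⊓ Subgroup.centralizer ({b} : Set G) : Subgroup G) := h2
      _ ≤ Nat.card G * Nat.card (Subgroup.center G) := Nat.mul_le_mul_left _ h3
      _ = Nat.card (Subgroup.centralizer ({g} : Set G)) * Nat.card (Subgroup.center G) * csz g := by
          rw [← h5]; ring
  have h7 : n ≤ csz g := Nat.le_of_mul_le_mul_left h6 (Nat.mul_pos hpos hZpos)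
  omega

/-- **The two largest class sizes are coprime.** -/
theorem TL.main (h : TL G m n) (x y : G) (hx : csz x = n) (hy : csz y = m) :
    IsMulCommutative (Subgroup.centralizer ({x} : Set G)) ∧
    IsMulCommutative (Subgroup.centralizer ({y} : Set G)) ∧
    Cfsg.IsFrobeniusComplement ((Subgroup.centralizer ({y} : Set G)).map
      (QuotientGroup.mk' (Subgroup.center G))) ∧
    Cfsg.frobeniusKernel ((Subgroup.centralizer ({y} : Set G)).map
      (QuotientGroup.mk' (Subgroup.center G))) =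
      ((Subgroup.centralizer ({x} : Set G)).map (QuotientGroup.mk' (Subgroup.center G)) :
        Set (G ⧸ Subgroup.center G)) := by
  classical
  obtain ⟨b, q, hq, hqm, hb, hbo⟩ := h.exists_special
  have hsp : SP G m n b q := ⟨h, hq, hqm, hb, hbo⟩
  have hn1 : n ≠ 1 := by have := h.hn; omega
  have hm1 : m ≠ 1 := by have := h.hn; have := h.hmn; omega
  have hS : Split (fun g : G => csz g = n) (fun g : G => csz g = m) :=
    ⟨fun a ha => by rw [ha]; exact hn1, fun a ha => by rw [ha]; exact hm1,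
     fun a c ha hc => by rw [ha, hc]; exact h.cop.symm, fun g => hsp.tri g⟩
  have hfs : FS (fun g : G => csz g = n) (fun g : G => csz g = m) :=
    ⟨hS, ⟨x, hx⟩, ⟨y, hy⟩, fun a c ha hc => by rw [ha, hc]; exact h.hmn⟩
  have hs : n.minFac.Prime := Nat.minFac_prime hn1
  have hsn : n.minFac ∣ n := Nat.minFac_dvd _
  have hsm : ¬ n.minFac ∣ m := fun hd =>
    hs.one_lt.ne' (Nat.eq_one_of_dvd_coprimes h.cop hd hsn)
  have : Fact n.minFac.Prime := ⟨hs⟩
  obtain ⟨U₀⟩ : Nonempty (Sylow n.minFac G) := inferInstance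
  obtain ⟨g, hg⟩ := exists_conj_commute U₀ y (by rw [hy]; exact hsm)
  have hU : ∀ u ∈ ((g • U₀ : Sylow n.minFac G) : Subgroup G), u * y = y * u := by
    intro u hu
    rw [Sylow.coe_subgroup_smul, Subgroup.mem_smul_pointwise_iff_exists] at hu
    obtain ⟨u', hu', rfl⟩ := hu
    rw [MulAut.smul_def, MulAut.conj_apply]
    exact hg u' hu'
  obtain ⟨u₀, hu₀, hu₀Z⟩ := exists_not_mem_center (g • U₀) (a₀ := x) (by rw [hx]; exact hsn)
  have hfsu : FSU (fun g : G => csz g = n) (fun g : G => csz g = m) n.minFac (g • U₀) x u₀ :=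
    ⟨hfs, hx, by rw [hx]; exact hsn, hu₀, hu₀Z⟩
  have hyA : y ∈ Subgroup.centralizer (((g • U₀ : Sylow n.minFac G) : Subgroup G) : Set G) := by
    rw [Subgroup.mem_centralizer_iff]; exact hU
  have hyZ : y ∉ Subgroup.center G := by
    intro hz
    have := (csz_eq_one_iff y).mpr hz
    omega
  have hCx : Subgroup.centralizer ({x} : Set G) = MSub (fun g : G => csz g = n) := by
    apply le_antisymm
    · intro k hk
      exact hfsu.C_mem_M (mem_cent_sing.mp hk)
    · intro k hk
      rw [mem_cent_sing]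
      exact hfs.M_comm x (hfs.X_mem hx) k hk
  have hCy : Subgroup.centralizer ({y} : Set G)
      = Subgroup.centralizer (((g • U₀ : Sylow n.minFac G) : Subgroup G) : Set G) := by
    apply le_antisymm
    · intro k hk
      obtain ⟨m', hm', c, hc, rfl⟩ := hfsu.prod k
      have hyc : y * c = c * y := hfsu.CU_comm hyA hc
      have hk' : y * (m' * c) = m' * c * y := mem_cent_sing.mp hk
      have hym : y * m' = m' * y := by
        have : y * m' * c = m' * y * c := by
          calc y * m' * c = y * (m' * c) := mul_assoc _ _ _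
            _ = m' * c * y := hk'
            _ = m' * (c * y) := mul_assoc _ _ _
            _ = m' * (y * c) := by rw [hyc]
            _ = m' * y * c := (mul_assoc _ _ _).symm
        exact mul_right_cancel this
      obtain ⟨n₁, hn₁, z, hz, rfl⟩ := mem_MSub.mp hm'
      have hz' := Subgroup.mem_center_iff.mp hz
      have hyn : y * n₁ = n₁ * y := by
        have : y * n₁ * z = n₁ * y * z := by
          calc y * n₁ * z = y * (n₁ * z) := mul_assoc _ _ _
            _ = n₁ * z * y := hym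
            _ = n₁ * (z * y) := mul_assoc _ _ _
            _ = n₁ * (y * z) := by rw [hz' y]
            _ = n₁ * y * z := (mul_assoc _ _ _).symm
        exact mul_right_cancel this
      have hn1' := hfsu.FP hyA hyZ hn₁ hyn
      rw [hn1', one_mul]
      exact mul_mem (Subgroup.center_le_centralizer _ hz) hc
    · intro c hc
      rw [mem_cent_sing]
      exact hfsu.CU_comm hyA hc
  refine ⟨?_, ?_, ?_, ?_⟩
  · rw [hCx]
    exact ⟨⟨fun a c => Subtype.ext (hfs.M_comm a.1 a.2 c.1 c.2)⟩⟩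
  · rw [hCy]
    exact ⟨⟨fun a c => Subtype.ext (hfsu.CU_comm a.2 c.2)⟩⟩
  · rw [hCy]; exact hfsu.frob_compl
  · rw [hCy, hCx]; exact hfsu.frob_kernel

end Cfsg.Agent.Lib.helper74
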