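import Mathlib
import Cfsg.Agent.Lib.helper74.CG13

/-!
# The prime graph on class sizes of `p`-singular elements has diameter at most 3

If `p` does not divide `|Z(G)|`, no two primes are far apart (`FarS`) in the prime graph on the
class sizes of the `p`-singular elements.
-/

set_option autoImplicit false
set_option linter.unusedSectionVars false

namespace Cfsg.Agent.Lib.helper74

variable {G : Type*} [Group G] [Finite G] {p : ℕ}

/-- For commuting `u`, `y` with coprime class sizes, `u` a non-central `p`-element, the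
product `u * y` is `p`-singular. -/
theorem dvd_orderOf_mul [Fact p.Prime] {u y : G} {i : ℕ} (hu : orderOf u = p ^ i)
    (hcomm : Commute u y) (hcop : (csz u).Coprime (csz y)) (hu1 : csz u ≠ 1) :
    p ∣ orderOf (u * y) := by
  have hp := (Fact.out : p.Prime)
  by_contra hnd
  apply hu1
  have h1 : (orderOf (u * y)).Coprime (orderOf u) := by
    rw [hu]
    exact Nat.Coprime.pow_right i ((Nat.Prime.coprime_iff_not_dvd hp).mpr hnd).symm
  obtain ⟨m, hm⟩ := exists_pow_eq_self_of_coprime h1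
  have h2 : u ^ orderOf (u * y) * y ^ orderOf (u * y) = 1 := by
    rw [← hcomm.mul_pow, pow_orderOf_eq_one]
  have h3 : u ^ orderOf (u * y) = (y ^ orderOf (u * y))⁻¹ := eq_inv_of_mul_eq_one_left h2
  have h4 : u = y ^ (-((orderOf (u * y) : ℤ) * m)) := by
    rw [zpow_neg, zpow_mul, zpow_natCast, zpow_natCast, ← inv_pow, ← h3, hm]
  have h5 : csz u ∣ csz y := by
    rw [h4]
    exact Subgroup.index_dvd_of_le (cent_le_cent_zpow y _)
  exact Nat.eq_one_of_dvd_coprimes hcop dvd_rfl h5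

/-- Analysis of a commuting pair consisting of the `p`-part `u` of an element of the first type
and an element `y` of the second type whose class size is prime to `p`. -/
theorem farS_analysis [Fact p.Prime] {r s : ℕ} (hF : FarS (fun x : G => p ∣ orderOf x) r s)
    {x u y : G} (hx : p ∣ orderOf x) (hrx : r ∣ csz x) {i : ℕ} (hu : orderOf u = p ^ i)
    (hux : csz u ∣ csz x) (hu1 : csz u ≠ 1) (hy : p ∣ orderOf y) (hsy : s ∣ csz y)
    (hpy : ¬ p ∣ csz y) (hcomm : Commute u y) :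
    p ∣ csz u ∧ ∃ w : G, (∃ j, orderOf w = p ^ j) ∧ p ∣ orderOf w ∧ s ∣ csz w ∧
      ∀ g : G, Commute w (g * w * g⁻¹) := by
  have hp := (Fact.out : p.Prime)
  have hcop : (csz u).Coprime (csz y) :=
    Nat.Coprime.coprime_dvd_left hux (hF.cop hx hy hrx hsy)
  have hsing : p ∣ orderOf (u * y) := dvd_orderOf_mul hu hcomm hcop hu1
  have hd := csz_mul_dvd hcop
  have hl1 : csz y ≤ csz (u * y) := csz_le_mul hcop
  have hl2 : csz u ≤ csz (u * y) := by
    have := csz_le_mul hcop.symm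
    rwa [← hcomm.eq] at this
  have hB : (csz (u * y)).Coprime (csz y) := by
    rcases hF.H x y (u * y) hx hy hsing hrx hsy with h1 | h1
    · exfalso
      have h2 : (csz (u * y)).Coprime (csz u) := Nat.Coprime.coprime_dvd_right hux h1
      have h3 : csz (u * y) ∣ csz y := h2.dvd_of_dvd_mul_left hd
      have h4 : csz (u * y) = csz y := le_antisymm (Nat.le_of_dvd (csz_pos y) h3) hl1
      have h5 := card_comSub_dvd hcop h4
      have h6 : ¬ p ∣ Nat.card (comSub (fun z => IsConj u z)) := fun hd' => hpy (hd'.trans h5)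
      have h7 := csz_dvd_card_of_comm_mem hu (comSub (fun z => IsConj u z)) h6
        (comm_mem_comSub u)
      exact hu1 (Nat.eq_one_of_dvd_coprimes hcop dvd_rfl (h7.trans h5))
    · exact h1
  have h3 : csz (u * y) ∣ csz u := hB.dvd_of_dvd_mul_right hd
  have heq : csz (u * y) = csz u := le_antisymm (Nat.le_of_dvd (csz_pos u) h3) hl2
  obtain ⟨y', w, hy', hw, hyw, hco, j, hj⟩ := exists_pq_decomp y hp
  have hcuy' : Commute u y' := by
    obtain ⟨a, rfl⟩ := Subgroup.mem_zpowers_iff.mp hy'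
    exact hcomm.zpow_right a
  have hcuw : Commute u w := by
    obtain ⟨b, rfl⟩ := Subgroup.mem_zpowers_iff.mp hw
    exact hcomm.zpow_right b
  have hcyw : Commute y' w := by
    obtain ⟨a, rfl⟩ := Subgroup.mem_zpowers_iff.mp hy'
    obtain ⟨b, rfl⟩ := Subgroup.mem_zpowers_iff.mp hw
    exact Commute.zpow_zpow_self y a b
  have hi : i ≠ 0 := by
    rintro rfl
    rw [pow_zero, orderOf_eq_one_iff] at hu
    subst hu
    exact hu1 ((csz_eq_one_iff 1).mpr (Subgroup.one_mem _))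
  have hy'Z : y' ∈ Subgroup.center G := by
    rw [← csz_eq_one_iff]
    have ho : (orderOf u).Coprime (orderOf y') := by
      rw [hu]; exact Nat.Coprime.pow_left i hco.symm
    have hsing' : p ∣ orderOf (u * y') := by
      rw [hcuy'.orderOf_mul_eq_mul_orderOf_of_coprime ho, hu]
      exact Dvd.dvd.mul_right (dvd_pow_self p hi) _
    have hle := cent_mul_le hcuy' ho
    have d1 : csz u ∣ csz (u * y') := Subgroup.index_dvd_of_le (le_trans hle inf_le_left)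
    have d2 : csz y' ∣ csz (u * y') := Subgroup.index_dvd_of_le (le_trans hle inf_le_right)
    have d3 : csz y' ∣ csz y := by
      obtain ⟨a, ha⟩ := Subgroup.mem_zpowers_iff.mp hy'
      rw [← ha]
      exact Subgroup.index_dvd_of_le (cent_le_cent_zpow y a)
    rcases hF.H x y (u * y') hx hy hsing' hrx hsy with h1 | h1
    · exact absurd (Nat.eq_one_of_dvd_coprimes h1 d1 hux) hu1
    · exact Nat.eq_one_of_dvd_coprimes h1 d2 d3
  have hcw : csz w = csz y := by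
    have := csz_central_mul hy'Z w
    rw [← hyw] at this
    exact this.symm
  have hcuw' : csz (w * u) = csz u := by
    have h1 : u * y = y' * (u * w) := by
      rw [hyw, ← mul_assoc, ← mul_assoc, hcuy'.eq]
    rw [← hcuw.eq, ← heq, h1, csz_central_mul hy'Z]
  have hcop' : (csz w).Coprime (csz u) := by rw [hcw]; exact hcop.symm
  have h5 := card_comSub_dvd hcop' hcuw'
  have hsw : s ∣ csz w := by rw [hcw]; exact hsy
  have hpM : p ∣ Nat.card (comSub (fun z => IsConj w z)) := by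
    by_contra h6
    have h7 := csz_dvd_card_of_comm_mem hj (comSub (fun z => IsConj w z)) h6
      (comm_mem_comSub w)
    have h8 : csz w = 1 := Nat.eq_one_of_dvd_coprimes hcop' dvd_rfl (h7.trans h5)
    rw [h8] at hsw
    exact hF.hs.one_lt.ne' (Nat.dvd_one.mp hsw)
  refine ⟨hpM.trans h5, w, ⟨j, hj⟩, ?_, hsw, ?_⟩
  · have h9 : orderOf y ∣ Nat.lcm (orderOf y') (orderOf w) := by
      rw [hyw]; exact hcyw.orderOf_mul_dvd_lcm
    have h10 : p ∣ orderOf y' * orderOf w := (hy.trans h9).trans (Nat.lcm_dvd_mul _ _)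
    rcases (Nat.Prime.dvd_mul hp).mp h10 with h | h
    · exact absurd h ((Nat.Prime.coprime_iff_not_dvd hp).mp hco.symm)
    · exact h
  · have hrel : (Subgroup.centralizer ({w} : Set G)).relIndex
        (comSub (fun z => IsConj w z)) = 1 := by
      have d1 : (Subgroup.centralizer ({w} : Set G)).relIndex
          (comSub (fun z => IsConj w z)) ∣ csz w := by
        rw [← relIndex_sup_of_normal]
        exact Subgroup.relIndex_dvd_index_of_le le_sup_left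
      have d2 := Subgroup.relIndex_dvd_card (Subgroup.centralizer ({w} : Set G))
        (comSub (fun z => IsConj w z))
      exact Nat.eq_one_of_dvd_coprimes hcop' d1 (d2.trans h5)
    have hle := Subgroup.relIndex_eq_one.mp hrel
    intro g
    have h1 := mem_comSub_gen (T := fun z => IsConj w z) (IsConj.refl w) g 1
    have h2 := mem_cent_sing.mp (hle h1)
    show w * (g * w * g⁻¹) = g * w * g⁻¹ * w
    calc w * (g * w * g⁻¹) = w * (w * ((1 * w * 1⁻¹)⁻¹ * (g * w * g⁻¹))) := by group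
      _ = w * (((1 * w * 1⁻¹)⁻¹ * (g * w * g⁻¹)) * w) := by rw [h2]
      _ = g * w * g⁻¹ * w := by group

/-- The configuration left by `farS_analysis`: a `p`-element `w₀` commuting with its
conjugates, whose class size is divisible by `s` and prime to the class sizes of all
`p`-singular elements with class size divisible by `p`. -/
structure WData (G : Type*) [Group G] (p s : ℕ) (w₀ : G) : Prop where
  hs : s.Prime
  hZ : ¬ p ∣ Nat.card ↥(Subgroup.center G)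
  hw : ∃ j, orderOf w₀ = p ^ j
  hw1 : p ∣ orderOf w₀
  hsw : s ∣ csz w₀
  hcomm : ∀ g : G, Commute w₀ (g * w₀ * g⁻¹)
  hB2 : ∀ e : G, p ∣ orderOf e → p ∣ csz e → (csz e).Coprime (csz w₀)

variable {s : ℕ} {w₀ : G}

theorem WData.not_dvd (h : WData G p s w₀) : ¬ p ∣ csz w₀ := by
  intro hd
  have h1 := h.hB2 w₀ h.hw1 hd
  have h2 : csz w₀ = 1 := (Nat.coprime_self _).mp h1
  have h3 := h.hsw
  rw [h2] at h3
  exact h.hs.one_lt.ne' (Nat.dvd_one.mp h3)

theorem WData.conj_mem [Fact p.Prime] (h : WData G p s w₀) (P : Sylow p G) (g : G) :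
    g * w₀ * g⁻¹ ∈ (P : Subgroup G) := by
  obtain ⟨j, hj⟩ := h.hw
  have hN := isPGroup_normalClosure hj h.hcomm
  have hle := hN.le_sylow_of_normal P
  apply hle
  exact (Subgroup.normalClosure_normal).conj_mem _
    (Subgroup.subset_normalClosure (Set.mem_singleton w₀)) g

theorem WData.comm_of_not_dvd [Fact p.Prime] (h : WData G p s w₀) {v : G} (hv : ¬ p ∣ csz v)
    (g : G) : Commute v (g * w₀ * g⁻¹) := by
  obtain ⟨P⟩ : Nonempty (Sylow p G) := inferInstance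
  obtain ⟨k, hk⟩ := exists_conj_commute P v hv
  have h1 := hk (k⁻¹ * g * w₀ * (k⁻¹ * g)⁻¹) (h.conj_mem P (k⁻¹ * g))
  have e : k * (k⁻¹ * g * w₀ * (k⁻¹ * g)⁻¹) * k⁻¹ = g * w₀ * g⁻¹ := by group
  rw [e] at h1
  exact h1.symm

theorem WData.comm_of_pelt [Fact p.Prime] (h : WData G p s w₀) {b : G} {i : ℕ}
    (hb : orderOf b = p ^ i) (g : G) : Commute b (g * w₀ * g⁻¹) := by
  have key : ∀ b' : G, orderOf b' = p ^ i → Commute b' w₀ := by
    intro b hb
    by_cases hpb : p ∣ csz b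
    · have hb1 : p ∣ orderOf b := by
        rw [hb]
        have hi : i ≠ 0 := by
          rintro rfl
          rw [pow_zero, orderOf_eq_one_iff] at hb
          subst hb
          have : csz (1 : G) = 1 := (csz_eq_one_iff 1).mpr (Subgroup.one_mem _)
          rw [this] at hpb
          exact (Fact.out : p.Prime).one_lt.ne' (Nat.dvd_one.mp hpb)
        exact dvd_pow_self p hi
      have hc := h.hB2 b hb1 hpb
      obtain ⟨P, hbP⟩ := exists_sylow_mem hb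
      obtain ⟨k, hk⟩ := exists_conj_commute P w₀ h.not_dvd
      have h1 := hk b hbP
      obtain ⟨v, hv, hkv⟩ := conj_eq_of_coprime hc k
      rw [hkv] at h1
      have hv' : v * w₀ * v⁻¹ = w₀ := by rw [← hv]; group
      have hv'' : v⁻¹ * w₀ * v = w₀ := by rw [mul_assoc, hv]; group
      show b * w₀ = w₀ * b
      calc b * w₀ = v⁻¹ * ((v * b * v⁻¹) * (v * w₀ * v⁻¹)) * v := by group
        _ = v⁻¹ * ((v * b * v⁻¹) * w₀) * v := by rw [hv']
        _ = v⁻¹ * (w₀ * (v * b * v⁻¹)) * v := by rw [h1]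
        _ = (v⁻¹ * w₀ * v) * b := by group
        _ = w₀ * b := by rw [hv'']
    · have := h.comm_of_not_dvd hpb 1
      simpa using this
  have h1 := key (g⁻¹ * b * g⁻¹⁻¹) (by rw [orderOf_conj', hb])
  have h2 : g⁻¹ * b * g⁻¹⁻¹ * w₀ = w₀ * (g⁻¹ * b * g⁻¹⁻¹) := h1
  show b * (g * w₀ * g⁻¹) = g * w₀ * g⁻¹ * b
  calc b * (g * w₀ * g⁻¹) = g * (g⁻¹ * b * g⁻¹⁻¹ * w₀) * g⁻¹ := by group
    _ = g * (w₀ * (g⁻¹ * b * g⁻¹⁻¹)) * g⁻¹ := by rw [h2]
    _ = g * w₀ * g⁻¹ * b := by group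

theorem WData.not_dvd_of_comm [Fact p.Prime] (h : WData G p s w₀) {v : G}
    (hv : (orderOf v).Coprime p) (hc : Commute v w₀) : ¬ p ∣ csz v := by
  intro hd
  obtain ⟨j, hj⟩ := h.hw
  have ho : (orderOf w₀).Coprime (orderOf v) := by
    rw [hj]; exact Nat.Coprime.pow_left j hv.symm
  have hsing : p ∣ orderOf (w₀ * v) := by
    rw [hc.symm.orderOf_mul_eq_mul_orderOf_of_coprime ho]
    exact Dvd.dvd.mul_right h.hw1 _
  have hle := cent_mul_le hc.symm ho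
  have d1 : csz w₀ ∣ csz (w₀ * v) := Subgroup.index_dvd_of_le (le_trans hle inf_le_left)
  have d2 : csz v ∣ csz (w₀ * v) := Subgroup.index_dvd_of_le (le_trans hle inf_le_right)
  have h1 := h.hB2 (w₀ * v) hsing (hd.trans d2)
  have h2 : csz w₀ = 1 := Nat.eq_one_of_dvd_coprimes h1 d1 dvd_rfl
  have h3 := h.hsw
  rw [h2] at h3
  exact h.hs.one_lt.ne' (Nat.dvd_one.mp h3)

theorem WData.comm_conj [Fact p.Prime] (h : WData G p s w₀) {c : G} (hc : Commute c w₀)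
    (g : G) : Commute c (g * w₀ * g⁻¹) := by
  obtain ⟨c', c'', hc', hc'', hcc, hco, i, hi⟩ := exists_pq_decomp c (Fact.out : p.Prime)
  have h1 : Commute c' w₀ := by
    obtain ⟨a, rfl⟩ := Subgroup.mem_zpowers_iff.mp hc'
    exact hc.zpow_left a
  have h2 : Commute c' (g * w₀ * g⁻¹) := h.comm_of_not_dvd (h.not_dvd_of_comm hco h1) g
  have h3 : Commute c'' (g * w₀ * g⁻¹) := h.comm_of_pelt hi g
  rw [hcc]
  exact h2.mul_left h3

theorem WData.cent_normal [Fact p.Prime] (h : WData G p s w₀) :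
    (Subgroup.centralizer ({w₀} : Set G)).Normal := by
  constructor
  intro c hc g
  rw [mem_cent_sing] at hc ⊢
  have h1 : Commute c (g⁻¹ * w₀ * g⁻¹⁻¹) := h.comm_conj (show Commute c w₀ from hc.symm) g⁻¹
  have h2 : c * (g⁻¹ * w₀ * g⁻¹⁻¹) = g⁻¹ * w₀ * g⁻¹⁻¹ * c := h1
  calc w₀ * (g * c * g⁻¹) = g * (g⁻¹ * w₀ * g⁻¹⁻¹ * c) * g⁻¹ := by group
    _ = g * (c * (g⁻¹ * w₀ * g⁻¹⁻¹)) * g⁻¹ := by rw [h2]
    _ = g * c * g⁻¹ * w₀ := by group

theorem WData.sylow_le [Fact p.Prime] (h : WData G p s w₀) (P : Sylow p G) :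
    (P : Subgroup G) ≤ Subgroup.centralizer ({w₀} : Set G) := by
  intro z hz
  obtain ⟨k, hk⟩ := P.isPGroup' ⟨z, hz⟩
  have hk' : z ^ p ^ k = 1 := by simpa using congrArg Subtype.val hk
  obtain ⟨l, -, hl⟩ := (Nat.dvd_prime_pow (Fact.out : p.Prime)).mp
    (orderOf_dvd_of_pow_eq_one hk')
  rw [mem_cent_sing]
  have := h.comm_of_pelt hl 1
  simp only [one_mul, inv_one, mul_one] at this
  exact this.symm.eq

/-- The centraliser of `w₀` is the product of a Sylow `p`-subgroup and its centraliser. -/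
theorem WData.cent_le [Fact p.Prime] (h : WData G p s w₀) (P : Sylow p G) :
    Subgroup.centralizer ({w₀} : Set G)
      ≤ (P : Subgroup G) ⊔ Subgroup.centralizer ((P : Subgroup G) : Set G) := by
  have hn := h.cent_normal
  have hPC := h.sylow_le P
  have key := Cfsg.Agent.Lib.helper62.eq_of_forall_conj_mem
    (((P : Subgroup G) ⊔ Subgroup.centralizer ((P : Subgroup G) : Set G))
      ⊓ Subgroup.centralizer ({w₀} : Set G))
    (Subgroup.centralizer ({w₀} : Set G)) inf_le_right ?_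
  · intro x hx
    rw [← key] at hx
    exact hx.1
  · intro c hc
    obtain ⟨c', c'', hc', hc'', hcc, hco, i, hi⟩ := exists_pq_decomp c (Fact.out : p.Prime)
    have hcw : Commute c w₀ := (mem_cent_sing.mp hc).symm
    have h1 : Commute c' w₀ := by
      obtain ⟨a, rfl⟩ := Subgroup.mem_zpowers_iff.mp hc'
      exact hcw.zpow_left a
    have hc''C : c'' ∈ Subgroup.centralizer ({w₀} : Set G) :=
      (Subgroup.zpowers_le.mpr hc) hc''
    have hcc' : Commute c' c'' := by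
      obtain ⟨a, rfl⟩ := Subgroup.mem_zpowers_iff.mp hc'
      obtain ⟨b, rfl⟩ := Subgroup.mem_zpowers_iff.mp hc''
      exact Commute.zpow_zpow_self c a b
    have hpc' : ¬ p ∣ csz c' := h.not_dvd_of_comm hco h1
    obtain ⟨g, hg, hgc⟩ := exists_conj_commute_rel (Subgroup.centralizer ({w₀} : Set G))
      (P : Subgroup G) P.isPGroup' hPC c' hpc'
    -- the conjugates
    have hcen : ∀ z ∈ (P : Subgroup G), z * (g⁻¹ * c' * g) = (g⁻¹ * c' * g) * z := by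
      intro z hz
      have h2 := hgc z hz
      calc z * (g⁻¹ * c' * g) = g⁻¹ * ((g * z * g⁻¹) * c') * g := by group
        _ = g⁻¹ * (c' * (g * z * g⁻¹)) * g := by rw [h2]
        _ = (g⁻¹ * c' * g) * z := by group
    have ho : orderOf (g⁻¹ * c'' * g) = p ^ i := by
      have := orderOf_conj' g⁻¹ c''
      rw [inv_inv] at this
      rw [this, hi]
    have hH : g⁻¹ * c'' * g ∈ Subgroup.centralizer ({g⁻¹ * c' * g} : Set G)
        ⊓ Subgroup.centralizer ({w₀} : Set G) := by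
      refine Subgroup.mem_inf.mpr
        ⟨?_, Subgroup.mul_mem _ (Subgroup.mul_mem _ (Subgroup.inv_mem _ hg) hc''C) hg⟩
      rw [mem_cent_sing]
      calc g⁻¹ * c' * g * (g⁻¹ * c'' * g) = g⁻¹ * (c' * c'') * g := by group
        _ = g⁻¹ * (c'' * c') * g := by rw [hcc'.eq]
        _ = g⁻¹ * c'' * g * (g⁻¹ * c' * g) := by group
    have hPH : (P : Subgroup G) ≤ Subgroup.centralizer ({g⁻¹ * c' * g} : Set G)
        ⊓ Subgroup.centralizer ({w₀} : Set G) := by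
      intro z hz
      exact Subgroup.mem_inf.mpr ⟨mem_cent_sing.mpr (hcen z hz).symm, hPC hz⟩
    obtain ⟨k, hk, hkP⟩ := exists_conj_mem_sylow P _ hPH hH ho
    rw [Subgroup.mem_inf] at hk
    have hk1 : g⁻¹ * c' * g * k = k * (g⁻¹ * c' * g) := mem_cent_sing.mp hk.1
    refine ⟨g * k, Subgroup.mul_mem _ hg hk.2, ?_, ?_⟩
    · have e : (g * k)⁻¹ * c * (g * k) = (g⁻¹ * c' * g) * (k⁻¹ * (g⁻¹ * c'' * g) * k) := by
        calc (g * k)⁻¹ * c * (g * k) = k⁻¹ * (g⁻¹ * c * g) * k := by group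
          _ = k⁻¹ * (g⁻¹ * (c' * c'') * g) * k := by rw [← hcc]
          _ = k⁻¹ * ((g⁻¹ * c' * g) * k) * (k⁻¹ * (g⁻¹ * c'' * g) * k) := by group
          _ = k⁻¹ * (k * (g⁻¹ * c' * g)) * (k⁻¹ * (g⁻¹ * c'' * g) * k) := by rw [hk1]
          _ = (g⁻¹ * c' * g) * (k⁻¹ * (g⁻¹ * c'' * g) * k) := by group
      rw [e]
      refine Subgroup.mul_mem _ (Subgroup.mem_sup_right ?_) (Subgroup.mem_sup_left hkP)
      rw [Subgroup.mem_centralizer_iff]
      intro z hz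
      exact hcen z hz
    · exact Subgroup.mul_mem _ (Subgroup.mul_mem _
        (Subgroup.inv_mem _ (Subgroup.mul_mem _ hg hk.2)) hc) (Subgroup.mul_mem _ hg hk.2)

theorem WData.pelt_mem [Fact p.Prime] (h : WData G p s w₀) (P : Sylow p G) {b : G} {i : ℕ}
    (hb : orderOf b = p ^ i) : b ∈ (P : Subgroup G) := by
  apply mem_sylow_of_mem_normalizer P hb
  have h1 : b ∈ Subgroup.centralizer ({w₀} : Set G) := by
    rw [mem_cent_sing]
    have := h.comm_of_pelt hb 1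
    simp only [one_mul, inv_one, mul_one] at this
    exact this.symm.eq
  have h2 := h.cent_le P h1
  exact (sup_le Subgroup.le_normalizer (Subgroup.centralizer_le_normalizer _)) h2

/-- The configuration `WData` is contradictory as soon as some `p`-element has class size
divisible by `p`. -/
theorem WData.false [Fact p.Prime] (h : WData G p s w₀) {u : G} {i : ℕ}
    (hu : orderOf u = p ^ i) (hpu : p ∣ csz u) : False := by
  have hp := (Fact.out : p.Prime)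
  have : Fact s.Prime := ⟨h.hs⟩
  obtain ⟨P⟩ : Nonempty (Sylow p G) := inferInstance
  have hPall : ∀ (b : G) (k : ℕ), orderOf b = p ^ k → b ∈ (P : Subgroup G) :=
    fun b k hb => h.pelt_mem P hb
  have hPord : ∀ b ∈ (P : Subgroup G), ∃ k, orderOf b = p ^ k := by
    intro b hb
    obtain ⟨k, hk⟩ := P.isPGroup' ⟨b, hb⟩
    have hk' : b ^ p ^ k = 1 := by simpa using congrArg Subtype.val hk
    obtain ⟨l, -, hl⟩ := (Nat.dvd_prime_pow hp).mp (orderOf_dvd_of_pow_eq_one hk')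
    exact ⟨l, hl⟩
  have hPconj : ∀ b ∈ (P : Subgroup G), ∀ g : G, g * b * g⁻¹ ∈ (P : Subgroup G) := by
    intro b hb g
    obtain ⟨k, hk⟩ := hPord b hb
    exact hPall _ k (by rw [orderOf_conj', hk])
  have hPn : (P : Subgroup G).Normal := ⟨fun b hb g => hPconj b hb g⟩
  have hcen : ∀ b : G, ¬ p ∣ csz b → ∀ z ∈ (P : Subgroup G), b * z = z * b := by
    intro b hpb z hz
    obtain ⟨k, hk⟩ := exists_conj_commute P b hpb
    have h1 := hk (k⁻¹ * z * k⁻¹⁻¹) (hPconj z hz k⁻¹)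
    have e : k * (k⁻¹ * z * k⁻¹⁻¹) * k⁻¹ = z := by group
    rw [e] at h1
    exact h1.symm
  have hsingP : ∀ b ∈ (P : Subgroup G), p ∣ csz b → p ∣ orderOf b := by
    intro b hb hpb
    obtain ⟨k, hk⟩ := hPord b hb
    rw [hk]
    have hk0 : k ≠ 0 := by
      rintro rfl
      rw [pow_zero, orderOf_eq_one_iff] at hk
      subst hk
      have : csz (1 : G) = 1 := (csz_eq_one_iff 1).mpr (Subgroup.one_mem _)
      rw [this] at hpb
      exact hp.one_lt.ne' (Nat.dvd_one.mp hpb)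
    exact dvd_pow_self p hk0
  have hdec : ∀ v : G, w₀ * v = v * w₀ → ∀ b ∈ (P : Subgroup G),
      ∃ h₁ ∈ (P : Subgroup G), v * b * v⁻¹ = h₁ * b * h₁⁻¹ := by
    intro v hv b hb
    have h1 := h.cent_le P (mem_cent_sing.mpr hv)
    have h2 : v ∈ (((P : Subgroup G) ⊔ Subgroup.centralizer ((P : Subgroup G) : Set G)
        : Subgroup G) : Set G) := h1
    rw [Subgroup.normal_mul] at h2
    obtain ⟨h₁, hh₁, q, hq, rfl⟩ := Set.mem_mul.mp h2
    refine ⟨h₁, hh₁, ?_⟩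
    have hqb : b * q = q * b := Subgroup.mem_centralizer_iff.mp hq b hb
    calc h₁ * q * b * (h₁ * q)⁻¹ = h₁ * (q * b) * q⁻¹ * h₁⁻¹ := by group
      _ = h₁ * (b * q) * q⁻¹ * h₁⁻¹ := by rw [hqb]
      _ = h₁ * b * h₁⁻¹ := by group
  have huP : u ∈ (P : Subgroup G) := hPall u i hu
  have hnc : ∃ a b : (P : Subgroup G), a * b ≠ b * a := by
    by_contra hcon
    push Not at hcon
    apply P.not_dvd_index
    have hle : (P : Subgroup G) ≤ Subgroup.centralizer ({u} : Set G) := by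
      intro z hz
      rw [mem_cent_sing]
      exact congrArg Subtype.val (hcon ⟨u, huP⟩ ⟨z, hz⟩)
    exact hpu.trans (Subgroup.index_dvd_of_le hle)
  obtain ⟨u₂', hu₂Z, hu₂c⟩ := exists_second_center (p := p) P.isPGroup' hnc
  obtain ⟨u₂, hu₂P⟩ := u₂'
  have hu₂nc : ¬ ∀ z ∈ (P : Subgroup G), u₂ * z = z * u₂ := by
    intro hall
    apply hu₂Z
    rw [Subgroup.mem_center_iff]
    intro z
    exact Subtype.ext (hall z.1 z.2).symm
  have hu₂c' : ∀ h₁ ∈ (P : Subgroup G), ∀ z ∈ (P : Subgroup G),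
      (h₁ * u₂ * h₁⁻¹ * u₂⁻¹) * z = z * (h₁ * u₂ * h₁⁻¹ * u₂⁻¹) := by
    intro h₁ hh₁ z hz
    have h1 := Subgroup.mem_center_iff.mp (hu₂c ⟨h₁, hh₁⟩) ⟨z, hz⟩
    have h2 := congrArg Subtype.val h1
    simp only [Subgroup.coe_mul, Subgroup.coe_inv] at h2
    exact h2.symm
  have hpu₂ : p ∣ csz u₂ := by
    by_contra hcon
    exact hu₂nc (hcen u₂ hcon)
  have hsing₂ := hsingP u₂ hu₂P hpu₂
  have hc2 : (csz u₂).Coprime (csz w₀) := h.hB2 u₂ hsing₂ hpu₂
  have hsne : ∀ b : G, (csz b).Coprime (csz w₀) → ¬ s ∣ csz b := by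
    intro b hb hd
    exact h.hs.one_lt.ne' (Nat.eq_one_of_dvd_coprimes hb hd h.hsw)
  obtain ⟨T⟩ : Nonempty (Sylow s G) := inferInstance
  obtain ⟨t₀, ht₀T, ht₀⟩ : ∃ t₀ ∈ (T : Subgroup G),
      t₀ ∉ Subgroup.centralizer ({w₀} : Set G) := by
    by_contra hcon
    push Not at hcon
    have hle : (T : Subgroup G) ≤ Subgroup.centralizer ({w₀} : Set G) := hcon
    exact T.not_dvd_index (h.hsw.trans (Subgroup.index_dvd_of_le hle))
  obtain ⟨g₁, hg₁⟩ := exists_conj_commute T u₂ (hsne u₂ hc2)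
  have hτu : (g₁ * t₀ * g₁⁻¹) * u₂ = u₂ * (g₁ * t₀ * g₁⁻¹) := hg₁ t₀ ht₀T
  have hn := h.cent_normal
  have hτw : g₁ * t₀ * g₁⁻¹ ∉ Subgroup.centralizer ({w₀} : Set G) := by
    intro hmem
    apply ht₀
    have := hn.conj_mem _ hmem g₁⁻¹
    have e : g₁⁻¹ * (g₁ * t₀ * g₁⁻¹) * g₁⁻¹⁻¹ = t₀ := by group
    rwa [e] at this
  obtain ⟨k₀, hk₀⟩ : ∃ k, orderOf (g₁ * t₀ * g₁⁻¹) = s ^ k := by
    rw [orderOf_conj']
    obtain ⟨k, hk⟩ := T.isPGroup' ⟨t₀, ht₀T⟩
    have hk' : t₀ ^ s ^ k = 1 := by simpa using congrArg Subtype.val hk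
    obtain ⟨l, -, hl⟩ := (Nat.dvd_prime_pow h.hs).mp (orderOf_dvd_of_pow_eq_one hk')
    exact ⟨l, hl⟩
  generalize hτ : g₁ * t₀ * g₁⁻¹ = τ at hτu hτw hk₀
  obtain ⟨j, hj⟩ := h.hw
  have hw₀P : w₀ ∈ (P : Subgroup G) := hPall w₀ j hj
  have hw₁P : τ * w₀ * τ⁻¹ ∈ (P : Subgroup G) := hPconj w₀ hw₀P τ
  have hw₀Z : ∀ z ∈ (P : Subgroup G), w₀ * z = z * w₀ := by
    intro z hz
    obtain ⟨k, hk⟩ := hPord z hz
    have := h.comm_of_pelt hk 1
    simp only [one_mul, inv_one, mul_one] at this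
    exact this.symm.eq
  have hw₁Z : ∀ z ∈ (P : Subgroup G), (τ * w₀ * τ⁻¹) * z = z * (τ * w₀ * τ⁻¹) := by
    intro z hz
    obtain ⟨k, hk⟩ := hPord z hz
    exact (h.comm_of_pelt hk τ).symm.eq
  have haP : w₀⁻¹ * (τ * w₀ * τ⁻¹) ∈ (P : Subgroup G) :=
    Subgroup.mul_mem _ (Subgroup.inv_mem _ hw₀P) hw₁P
  have haZ : ∀ z ∈ (P : Subgroup G),
      (w₀⁻¹ * (τ * w₀ * τ⁻¹)) * z = z * (w₀⁻¹ * (τ * w₀ * τ⁻¹)) := by
    intro z hz
    have h1 := hw₀Z z hz
    have h2 := hw₁Z z hz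
    calc w₀⁻¹ * (τ * w₀ * τ⁻¹) * z = w₀⁻¹ * ((τ * w₀ * τ⁻¹) * z) := by group
      _ = w₀⁻¹ * (z * (τ * w₀ * τ⁻¹)) := by rw [h2]
      _ = w₀⁻¹ * (z * w₀) * w₀⁻¹ * (τ * w₀ * τ⁻¹) := by group
      _ = w₀⁻¹ * (w₀ * z) * w₀⁻¹ * (τ * w₀ * τ⁻¹) := by rw [← h1]
      _ = z * (w₀⁻¹ * (τ * w₀ * τ⁻¹)) := by group
  have hwu₂nc : ¬ ∀ z ∈ (P : Subgroup G), (w₀ * u₂) * z = z * (w₀ * u₂) := by
    intro hall
    apply hu₂nc
    intro z hz
    have h1 := hall z hz
    have h2 := hw₀Z z hz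
    calc u₂ * z = w₀⁻¹ * (w₀ * u₂ * z) := by group
      _ = w₀⁻¹ * (z * (w₀ * u₂)) := by rw [h1]
      _ = w₀⁻¹ * (z * w₀) * u₂ := by group
      _ = w₀⁻¹ * (w₀ * z) * u₂ := by rw [← h2]
      _ = z * u₂ := by group
  have hpwu₂ : p ∣ csz (w₀ * u₂) := by
    by_contra hcon
    exact hwu₂nc (hcen _ hcon)
  have heq : csz (w₀ * u₂) = csz u₂ := by
    have h1 := h.hB2 (w₀ * u₂) (hsingP _ (Subgroup.mul_mem _ hw₀P hu₂P) hpwu₂) hpwu₂
    have h2 : csz (w₀ * u₂) ∣ csz u₂ := h1.dvd_of_dvd_mul_left (csz_mul_dvd hc2.symm)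
    exact le_antisymm (Nat.le_of_dvd (csz_pos u₂) h2) (csz_le_mul hc2.symm)
  have hconj := isConj_comm_mul hc2.symm heq τ 1 (IsConj.refl u₂)
  obtain ⟨c, hc⟩ := isConj_iff.mp hconj
  have e0 : (1 * w₀ * 1⁻¹)⁻¹ * (τ * w₀ * τ⁻¹) * u₂ = w₀⁻¹ * (τ * w₀ * τ⁻¹) * u₂ := by group
  rw [e0] at hc
  obtain ⟨v, hv, hcv⟩ := conj_eq_of_coprime hc2 c
  obtain ⟨h₁, hh₁, hvh⟩ := hdec v hv u₂ hu₂P
  have ha : h₁ * u₂ * h₁⁻¹ = w₀⁻¹ * (τ * w₀ * τ⁻¹) * u₂ := by rw [← hvh, ← hcv, hc]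
  have hfin : w₀⁻¹ * (τ * w₀ * τ⁻¹) = 1 → False := by
    intro h4
    apply hτw
    rw [mem_cent_sing]
    have h3 : τ * w₀ * τ⁻¹ = w₀ := by
      calc τ * w₀ * τ⁻¹ = w₀ * (w₀⁻¹ * (τ * w₀ * τ⁻¹)) := by group
        _ = w₀ := by rw [h4, mul_one]
    calc w₀ * τ = (τ * w₀ * τ⁻¹) * τ := by rw [h3]
      _ = τ * w₀ := by group
  have hh₁nc : ¬ ∀ z ∈ (P : Subgroup G), h₁ * z = z * h₁ := by
    intro hall
    apply hfin
    have h1 := hall u₂ hu₂P
    have h2 : h₁ * u₂ * h₁⁻¹ = u₂ := by rw [h1]; group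
    rw [h2] at ha
    exact mul_right_cancel (b := u₂) (by rw [one_mul]; exact ha.symm)
  have hph₁ : p ∣ csz h₁ := by
    by_contra hcon
    exact hh₁nc (hcen _ hcon)
  have hc3 : (csz h₁).Coprime (csz w₀) := h.hB2 h₁ (hsingP h₁ hh₁ hph₁) hph₁
  obtain ⟨g₂, hg₂⟩ := exists_conj_commute T h₁ (hsne h₁ hc3)
  have h5 : (g₂ * t₀ * g₂⁻¹) * h₁ = h₁ * (g₂ * t₀ * g₂⁻¹) := hg₂ t₀ ht₀T
  obtain ⟨v', hv', hdv⟩ := conj_eq_of_coprime hc3 (g₁ * g₂⁻¹)
  obtain ⟨h', hh', hvh'⟩ := hdec v' hv' h₁ hh₁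
  have hτk : τ * (h' * h₁ * h'⁻¹) = (h' * h₁ * h'⁻¹) * τ := by
    rw [← hvh', ← hdv, ← hτ]
    calc g₁ * t₀ * g₁⁻¹ * (g₁ * g₂⁻¹ * h₁ * (g₁ * g₂⁻¹)⁻¹)
        = g₁ * g₂⁻¹ * ((g₂ * t₀ * g₂⁻¹) * h₁) * g₂ * g₁⁻¹ := by group
      _ = g₁ * g₂⁻¹ * (h₁ * (g₂ * t₀ * g₂⁻¹)) * g₂ * g₁⁻¹ := by rw [h5]
      _ = g₁ * g₂⁻¹ * h₁ * (g₁ * g₂⁻¹)⁻¹ * (g₁ * t₀ * g₁⁻¹) := by group
  have hζP : h'⁻¹ * u₂ * h'⁻¹⁻¹ * u₂⁻¹ ∈ (P : Subgroup G) :=
    Subgroup.mul_mem _ (Subgroup.mul_mem _ (Subgroup.mul_mem _ (Subgroup.inv_mem _ hh') hu₂P)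
      (Subgroup.inv_mem _ (Subgroup.inv_mem _ hh'))) (Subgroup.inv_mem _ hu₂P)
  have hζZ := hu₂c' h'⁻¹ (Subgroup.inv_mem _ hh')
  have hcalc := conj_calc (u := u₂) (h := h₁) (h' := h') (a := w₀⁻¹ * (τ * w₀ * τ⁻¹))
    (ζ := h'⁻¹ * u₂ * h'⁻¹⁻¹ * u₂⁻¹) ha (by group) (hζZ h₁ hh₁) (hζZ h' hh') (haZ h' hh')
    (haZ _ hζP)
  have hτa : Commute τ (w₀⁻¹ * (τ * w₀ * τ⁻¹)) := by
    have h6 : Commute τ (h' * h₁ * h'⁻¹) := hτk
    have h7 : Commute τ u₂ := hτu
    have h8 : Commute τ ((h' * h₁ * h'⁻¹) * u₂ * (h' * h₁ * h'⁻¹)⁻¹) :=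
      (h6.mul_right h7).mul_right h6.inv_right
    rw [hcalc] at h8
    have h9 := h8.mul_right h7.inv_right
    rwa [mul_inv_cancel_right] at h9
  have hpow := pow_conj_calc hτa
    (by group : τ * w₀ * τ⁻¹ = w₀ * (w₀⁻¹ * (τ * w₀ * τ⁻¹))) (orderOf τ)
  rw [pow_orderOf_eq_one, mul_one, one_mul] at hpow
  have ha1 : (w₀⁻¹ * (τ * w₀ * τ⁻¹)) ^ orderOf τ = 1 :=
    mul_left_cancel (a := w₀) (by rw [mul_one]; exact hpow.symm)
  obtain ⟨l, hl⟩ := hPord _ haP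
  have hdvd : p ^ l ∣ s ^ k₀ := by
    rw [← hl, ← hk₀]; exact orderOf_dvd_of_pow_eq_one ha1
  have hsp : s ≠ p := fun e => h.not_dvd (e ▸ h.hsw)
  have hl0 : l = 0 := by
    by_contra hl0
    have h1 : p ∣ s ^ k₀ := (dvd_pow_self p hl0).trans hdvd
    have h2 : p ∣ s := hp.dvd_of_dvd_pow h1
    exact hsp ((Nat.prime_dvd_prime_iff_eq hp h.hs).mp h2).symm
  rw [hl0, pow_zero, orderOf_eq_one_iff] at hl
  exact hfin hl

/-- One orientation of the main theorem. -/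
theorem no_farS_aux [Fact p.Prime] (hZ : ¬ p ∣ Nat.card ↥(Subgroup.center G)) {r s : ℕ}
    (hF : FarS (fun x : G => p ∣ orderOf x) r s)
    (hr : ∃ x : G, p ∣ orderOf x ∧ r ∣ csz x) (hs : ∃ x : G, p ∣ orderOf x ∧ s ∣ csz x)
    (hA : ∀ y : G, p ∣ orderOf y → s ∣ csz y → ¬ p ∣ csz y) : False := by
  have hp := (Fact.out : p.Prime)
  obtain ⟨x, hx, hrx⟩ := hr
  obtain ⟨y, hy, hsy⟩ := hs
  obtain ⟨x', u, hx', hu, hxu, hco, i, hi⟩ := exists_pq_decomp x hp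
  have hux : csz u ∣ csz x := by
    obtain ⟨a, ha⟩ := Subgroup.mem_zpowers_iff.mp hu
    rw [← ha]
    exact Subgroup.index_dvd_of_le (cent_le_cent_zpow x a)
  have hcxu : Commute x' u := by
    obtain ⟨a, rfl⟩ := Subgroup.mem_zpowers_iff.mp hx'
    obtain ⟨b, rfl⟩ := Subgroup.mem_zpowers_iff.mp hu
    exact Commute.zpow_zpow_self x a b
  have hu1' : p ∣ orderOf u := by
    have h9 : orderOf x ∣ Nat.lcm (orderOf x') (orderOf u) := by
      rw [hxu]; exact hcxu.orderOf_mul_dvd_lcm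
    have h10 : p ∣ orderOf x' * orderOf u := (hx.trans h9).trans (Nat.lcm_dvd_mul _ _)
    rcases (Nat.Prime.dvd_mul hp).mp h10 with h | h
    · exact absurd h ((Nat.Prime.coprime_iff_not_dvd hp).mp hco.symm)
    · exact h
  have hu1 : csz u ≠ 1 := csz_ne_one_of_dvd_orderOf hZ hu1'
  obtain ⟨P, huP⟩ := exists_sylow_mem hi
  obtain ⟨g, hg⟩ := exists_conj_commute P y (hA y hy hsy)
  have h1 := hg u huP
  have hcomm : Commute u (g⁻¹ * y * g⁻¹⁻¹) := by
    show u * (g⁻¹ * y * g⁻¹⁻¹) = g⁻¹ * y * g⁻¹⁻¹ * u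
    calc u * (g⁻¹ * y * g⁻¹⁻¹) = g⁻¹ * ((g * u * g⁻¹) * y) * g := by group
      _ = g⁻¹ * (y * (g * u * g⁻¹)) * g := by rw [h1]
      _ = g⁻¹ * y * g⁻¹⁻¹ * u := by group
  have hy₁ : p ∣ orderOf (g⁻¹ * y * g⁻¹⁻¹) := by rw [orderOf_conj']; exact hy
  have hsy₁ : s ∣ csz (g⁻¹ * y * g⁻¹⁻¹) := by rw [csz_conj]; exact hsy
  have hpy₁ : ¬ p ∣ csz (g⁻¹ * y * g⁻¹⁻¹) := by rw [csz_conj]; exact hA y hy hsy
  obtain ⟨hpu, w, ⟨j, hj⟩, hw1, hsw, hwc⟩ :=
    farS_analysis hF hx hrx hi hux hu1 hy₁ hsy₁ hpy₁ hcomm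
  have hW : WData G p s w :=
    { hs := hF.hs
      hZ := hZ
      hw := ⟨j, hj⟩
      hw1 := hw1
      hsw := hsw
      hcomm := hwc
      hB2 := fun e he hpe => by
        rcases hF.H x w e hx hw1 he hrx hsw with h2 | h2
        · exact absurd (Nat.eq_one_of_dvd_coprimes h2 hpe (hpu.trans hux)) hp.one_lt.ne'
        · exact h2 }
  exact hW.false hi hpu

/-- If `p` does not divide `|Z(G)|`, no two primes are far apart in the prime graph on the
class sizes of the `p`-singular elements. -/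
theorem no_farS [Fact p.Prime] (hZ : ¬ p ∣ Nat.card ↥(Subgroup.center G)) {r s : ℕ}
    (hF : FarS (fun x : G => p ∣ orderOf x) r s)
    (hr : ∃ x : G, p ∣ orderOf x ∧ r ∣ csz x) (hs : ∃ x : G, p ∣ orderOf x ∧ s ∣ csz x) :
    False := by
  by_cases hA : ∀ y : G, p ∣ orderOf y → s ∣ csz y → ¬ p ∣ csz y
  · exact no_farS_aux hZ hF hr hs hA
  · by_cases hA' : ∀ x : G, p ∣ orderOf x → r ∣ csz x → ¬ p ∣ csz x
    · exact no_farS_aux hZ hF.symm hs hr hA'
    · push Not at hA hA'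
      obtain ⟨y, hy, hsy, hpy⟩ := hA
      obtain ⟨x, hx, hrx, hpx⟩ := hA'
      have := hF.cop hx hy hrx hsy
      exact (Fact.out : p.Prime).one_lt.ne' (Nat.eq_one_of_dvd_coprimes this hpx hpy)

end Cfsg.Agent.Lib.helper74
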