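import Mathlib
import Cfsg.Agent.Lib.helper74.CG16
import Cfsg.Agent.Lib.helper74.CG2

/-!
# Class sizes `{1, n, m, nm}`: Part C1, Stage 1

From a non-commuting pair `a₀` (class size `n`), `b₀` (class size `m`), `n < m`, we build the
configuration `b`, `N`, `a` of Stage 2.
-/

set_option autoImplicit false
set_option linter.unusedSectionVars false

namespace Cfsg.Agent.Lib.helper74

variable {G : Type*} [Group G] [Finite G]

/-- Step 1: non-commuting elements of class sizes `n < m`: the product has class size `m`. -/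
theorem csz_mul_of_not_comm {n m : ℕ} (hcop : n.Coprime m) (hlt : n < m)
    (hall : ∀ g : G, csz g = 1 ∨ csz g = n ∨ csz g = m ∨ csz g = n * m) {a b : G}
    (ha : csz a = n) (hb : csz b = m) (hab : a * b ≠ b * a) : csz (a * b) = m := by
  have hc : (csz a).Coprime (csz b) := by rw [ha, hb]; exact hcop
  have h1 : csz b ≤ csz (a * b) := csz_le_mul hc
  rw [hb] at h1
  have hapos := csz_pos a
  rw [ha] at hapos
  have ha' : (Subgroup.centralizer ({a} : Set G)).index = n := ha
  have hb' : (Subgroup.centralizer ({b} : Set G)).index = m := hb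
  rcases hall (a * b) with h | h | h | h
  · omega
  · omega
  · exact h
  · exfalso
    have hle : Subgroup.centralizer ({a} : Set G) ⊓ Subgroup.centralizer ({b} : Set G)
        ≤ Subgroup.centralizer ({a * b} : Set G) := by
      intro x hx
      rw [Subgroup.mem_inf, mem_cent_sing, mem_cent_sing] at hx
      rw [mem_cent_sing, mul_assoc, hx.2, ← mul_assoc, hx.1, mul_assoc]
    have hidx : (Subgroup.centralizer ({a} : Set G) ⊓ Subgroup.centralizer ({b} : Set G)).index
        = n * m := by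
      rw [Cfsg.Agent.Lib.helper12.index_inf_of_coprime _ _ (by rw [ha', hb']; exact hcop),
        ha', hb']
    have h2 := le_of_le_of_index_le hle (by
      rw [hidx, show (Subgroup.centralizer ({a * b} : Set G)).index = n * m from h])
    have h3 : a * b ∈ Subgroup.centralizer ({a} : Set G) :=
      (h2 (mem_cent_sing.mpr rfl)).1
    rw [mem_cent_sing] at h3
    apply hab
    have h4 : a * (a * b) = a * (b * a) := by rw [h3, mul_assoc]
    exact mul_left_cancel h4

/-- Steps 1-2: the class of `b` is stable under left multiplication by quotients of conjugates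
of `a`. -/
theorem isConj_mul_of_not_comm {n m : ℕ} (hcop : n.Coprime m) (hlt : n < m)
    (hall : ∀ g : G, csz g = 1 ∨ csz g = n ∨ csz g = m ∨ csz g = n * m) {a b : G}
    (ha : csz a = n) (hb : csz b = m) (hab : a * b ≠ b * a) (g k : G) {x : G}
    (hx : IsConj b x) : IsConj b ((k * a * k⁻¹)⁻¹ * (g * a * g⁻¹) * x) :=
  isConj_comm_mul (by rw [ha, hb]; exact hcop)
    (by rw [csz_mul_of_not_comm hcop hlt hall ha hb hab, hb]) g k hx

theorem comSub_le_centralizer (T : G → Prop) (K : Subgroup G)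
    (h : ∀ a g, T a → ∀ y ∈ K, (g * a * g⁻¹) * y = y * (g * a * g⁻¹)) :
    comSub T ≤ Subgroup.centralizer (K : Set G) := by
  unfold comSub
  rw [Subgroup.closure_le]
  rintro w ⟨a, g, k, ha, rfl⟩
  rw [SetLike.mem_coe, Subgroup.mem_centralizer_iff]
  intro y hy
  have hu := h a k ha y hy
  have hv := h a g ha y hy
  calc y * ((k * a * k⁻¹)⁻¹ * (g * a * g⁻¹))
      = (k * a * k⁻¹)⁻¹ * ((k * a * k⁻¹) * y) * (k * a * k⁻¹)⁻¹ * (g * a * g⁻¹) := by group
    _ = (k * a * k⁻¹)⁻¹ * (y * (k * a * k⁻¹)) * (k * a * k⁻¹)⁻¹ * (g * a * g⁻¹) := by rw [hu]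
    _ = (k * a * k⁻¹)⁻¹ * (y * (g * a * g⁻¹)) := by group
    _ = (k * a * k⁻¹)⁻¹ * ((g * a * g⁻¹) * y) := by rw [hv]
    _ = (k * a * k⁻¹)⁻¹ * (g * a * g⁻¹) * y := by group

/-- **Part C1, Stage 1.** -/
theorem partC1_stage1 (n m : ℕ) (hn : 1 < n) (hm : 1 < m) (hcop : n.Coprime m) (hlt : n < m)
    (hall : ∀ g : G, csz g = 1 ∨ csz g = n ∨ csz g = m ∨ csz g = n * m)
    (hY : ∀ (b : G) (p k : ℕ), p.Prime → orderOf b = p ^ k → csz b = m → p ∣ n)
    (a₀ b₀ : G) (ha₀ : csz a₀ = n) (hb₀ : csz b₀ = m) (hab : a₀ * b₀ ≠ b₀ * a₀) :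
    ∃ (b : G) (N : Subgroup G) (a : G) (q k : ℕ), csz b = m ∧ (orderOf b).Coprime m ∧
      N.Normal ∧ Nat.card N ∣ m ∧ (∀ c ∈ N, IsConj b (c * b)) ∧
      (∀ x : G, csz x = n → N ≤ Subgroup.centralizer ({x} : Set G)) ∧
      a ∈ N ∧ csz a = n ∧ q.Prime ∧ orderOf a = q ^ k := by
  have hb₀nc : b₀ ∉ Subgroup.center G := fun hc => by
    have := (csz_eq_one_iff b₀).mpr hc; omega
  obtain ⟨b, s, j, hs, hbo, hbc, hbcent, -⟩ := exists_primary_same_cent hb₀nc (fun g hg => by
    rw [hb₀] at hg ⊢; exact csz_min_right hcop hn hm hall g hg)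
  rw [hb₀] at hbc
  have hsn : s ∣ n := hY b s j hs hbo hbc
  have hsm : ¬ s ∣ m := not_dvd_of_coprime hs hcop hsn
  have hbom : (orderOf b).Coprime m := by
    rw [hbo]; exact Nat.Coprime.pow_left j ((Nat.Prime.coprime_iff_not_dvd hs).mpr hsm)
  have hab' : a₀ * b ≠ b * a₀ := by
    intro hc
    have h1 : a₀ ∈ Subgroup.centralizer ({b} : Set G) := mem_cent_sing.mpr hc.symm
    rw [hbcent] at h1
    exact hab (mem_cent_sing.mp h1).symm
  have hc : (csz a₀).Coprime (csz b) := by rw [ha₀, hbc]; exact hcop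
  have heq : csz (a₀ * b) = csz b := by
    rw [csz_mul_of_not_comm hcop hlt hall ha₀ hbc hab', hbc]
  obtain ⟨N, hN⟩ : ∃ N : Subgroup G, N = comSub (fun z => IsConj a₀ z) := ⟨_, rfl⟩
  have hNn : N.Normal := by rw [hN]; infer_instance
  have hNm : Nat.card N ∣ m := by
    have := card_comSub_dvd hc heq
    rw [hbc, ← hN] at this
    exact this
  have hNb : ∀ c ∈ N, IsConj b (c * b) := by
    intro c hcN
    rw [hN] at hcN
    refine stab_gen (fun z => IsConj a₀ z) (y := b) (fun a' ha' => ?_) c hcN b (IsConj.refl b)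
    obtain ⟨g, rfl⟩ := isConj_iff.mp ha'
    refine ⟨by rw [csz_conj]; exact hc, ?_⟩
    rw [csz_of_isConj (isConj_mul_of_coprime hc g)]
    exact heq
  have hNX : ∀ x : G, csz x = n → N ≤ Subgroup.centralizer ({x} : Set G) := by
    intro x hx
    apply le_of_normal_coprime
    rw [show (Subgroup.centralizer ({x} : Set G)).index = n from hx]
    exact Nat.Coprime.coprime_dvd_left hNm hcop.symm
  have hNab : ∀ x ∈ N, ∀ y ∈ N, x * y = y * x := by
    have hle := comSub_le_centralizer (fun z => IsConj a₀ z) N (fun a' g ha' y hy => by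
      have hx : csz (g * a' * g⁻¹) = n := by rw [csz_conj, csz_of_isConj ha', ha₀]
      exact mem_cent_sing.mp (hNX _ hx hy))
    rw [← hN] at hle
    intro x hx y hy
    exact (Subgroup.mem_centralizer_iff.mp (hle hx) y hy).symm
  have haN : ∀ g, a₀⁻¹ * (g * a₀ * g⁻¹) ∈ N := by
    intro g
    have := mem_comSub_gen (T := fun z => IsConj a₀ z) (IsConj.refl a₀) g 1
    rw [hN]
    simpa using this
  obtain ⟨c', hc'N, hc'z⟩ := exists_mul_mem_center N hNab a₀ haN (by
    rw [ha₀]; exact Nat.Coprime.coprime_dvd_left hNm hcop.symm)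
  have hcc : csz c'⁻¹ = n := by
    have e : c'⁻¹ = (a₀ * c')⁻¹ * a₀ := by group
    rw [e, csz_central_mul (Subgroup.inv_mem _ hc'z), ha₀]
  have hcnc : c'⁻¹ ∉ Subgroup.center G := fun hz => by
    have := (csz_eq_one_iff _).mpr hz; omega
  obtain ⟨a, q, k, hq, hao, hac, -, haz⟩ := exists_primary_same_cent hcnc (fun g hg => by
    rw [hcc] at hg ⊢; exact csz_min_left hcop hn hm hall g hg)
  rw [hcc] at hac
  have haN' : a ∈ N := by
    have : Subgroup.zpowers c'⁻¹ ≤ N := by rw [Subgroup.zpowers_le]; exact N.inv_mem hc'N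
    exact this haz
  exact ⟨b, N, a, q, k, hbc, hbom, hNn, hNm, hNb, hNX, haN', hac, hq, hao⟩

end Cfsg.Agent.Lib.helper74
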