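import Mathlib
import Cfsg.Agent.Lib.helper74.CG17
import Cfsg.Agent.Lib.helper72.CS4BMain

/-!
# Class sizes `{1, n, m, nm}`: assembly

`main_of_C1`: the theorem, given Part C1 (no non-commuting pair in the cross case) as a
hypothesis.
-/

set_option autoImplicit false
set_option linter.unusedSectionVars false

namespace Cfsg.Agent.Lib.helper74

variable {G : Type*} [Group G] [Finite G]

theorem range_swap {n m : ℕ}
    (h : Set.range (fun x : G => (Subgroup.centralizer ({x} : Set G)).index)
      = ({1, n, m, n * m} : Set ℕ)) :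
    Set.range (fun x : G => (Subgroup.centralizer ({x} : Set G)).index)
      = ({1, m, n, m * n} : Set ℕ) := by
  rw [h, mul_comm n m]
  ext x
  simp only [Set.mem_insert_iff, Set.mem_singleton_iff]
  tauto

/-- In the cross case every primary element of class size `n` has its prime dividing `m`. -/
theorem cross_prime {n m : ℕ} (hn : 1 < n)
    (hall : ∀ g : G, csz g = 1 ∨ csz g = n ∨ csz g = m ∨ csz g = n * m)
    (hA : ¬ ∃ (a : G) (p k : ℕ), p.Prime ∧ orderOf a = p ^ k ∧ csz a = n ∧ p ∣ n)
    (a : G) (p k : ℕ) (hp : p.Prime) (hao : orderOf a = p ^ k) (ha : csz a = n) : p ∣ m := by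
  by_contra hpm
  have hpn : ¬ p ∣ n := fun hpn => hA ⟨a, p, k, hp, hao, ha, hpn⟩
  haveI : Fact p.Prime := ⟨hp⟩
  have hc : a ∈ Subgroup.center G := by
    refine central_of_not_dvd p (fun g => ?_) hao
    rcases hall g with h1 | h1 | h1 | h1 <;> rw [h1]
    · exact hp.not_dvd_one
    · exact hpn
    · exact hpm
    · exact fun hd => (hp.dvd_mul.mp hd).elim hpn hpm
  have := (csz_eq_one_iff a).mpr hc
  omega

/-- The theorem, modulo Part C1. -/
theorem main_of_C1
    (hC1 : ∀ (n m : ℕ), 1 < n → 1 < m → n.Coprime m → n < m →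
      Set.range (fun x : G => (Subgroup.centralizer ({x} : Set G)).index)
        = ({1, n, m, n * m} : Set ℕ) →
      (∀ (a : G) (p k : ℕ), p.Prime → orderOf a = p ^ k →
        (Subgroup.centralizer ({a} : Set G)).index = n → p ∣ m) →
      (∀ (b : G) (p k : ℕ), p.Prime → orderOf b = p ^ k →
        (Subgroup.centralizer ({b} : Set G)).index = m → p ∣ n) →
      ∀ a b : G, (Subgroup.centralizer ({a} : Set G)).index = n →
        (Subgroup.centralizer ({b} : Set G)).index = m → a * b = b * a)
    (n m : ℕ) (hn : 1 < n) (hm : 1 < m) (hcop : n.Coprime m)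
    (h : Set.range (fun x : G => (Subgroup.centralizer ({x} : Set G)).index)
      = ({1, n, m, n * m} : Set ℕ)) :
    Group.IsNilpotent G ∧ IsPrimePow n ∧ IsPrimePow m := by
  have hall := csz_cases h
  have h' := range_swap h
  by_cases hA : ∃ (a : G) (p k : ℕ), p.Prime ∧ orderOf a = p ^ k ∧ csz a = n ∧ p ∣ n
  · obtain ⟨a, p, k, hp, hao, ha, hpn⟩ := hA
    exact Cfsg.Agent.Lib.helper72.partB n m hn hm hcop h a p k hp ha hao hpn
  by_cases hB : ∃ (b : G) (p k : ℕ), p.Prime ∧ orderOf b = p ^ k ∧ csz b = m ∧ p ∣ m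
  · obtain ⟨b, p, k, hp, hbo, hb, hpm⟩ := hB
    obtain ⟨h1, h2, h3⟩ := Cfsg.Agent.Lib.helper72.partB m n hm hn hcop.symm h' b p k hp hb hbo hpm
    exact ⟨h1, h3, h2⟩
  exfalso
  have hX : ∀ (a : G) (p k : ℕ), p.Prime → orderOf a = p ^ k →
      (Subgroup.centralizer ({a} : Set G)).index = n → p ∣ m :=
    fun a p k hp hao ha => cross_prime hn hall hA a p k hp hao ha
  have hY : ∀ (b : G) (p k : ℕ), p.Prime → orderOf b = p ^ k →
      (Subgroup.centralizer ({b} : Set G)).index = m → p ∣ n :=
    fun b p k hp hbo hb => cross_prime hm (csz_cases_swap hall) hB b p k hp hbo hb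
  have hne : n ≠ m := by
    rintro rfl
    rw [Nat.coprime_self] at hcop
    omega
  rcases Nat.lt_or_gt_of_ne hne with hlt | hlt
  · exact partC2 n m hn hm hcop h hX hY (hC1 n m hn hm hcop hlt h hX hY)
  · exact partC2 n m hn hm hcop h hX hY
      (fun a b ha hb => (hC1 m n hm hn hcop.symm hlt h' hY hX b a hb ha).symm)

end Cfsg.Agent.Lib.helper74
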