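import Mathlib
import Cfsg.Agent.Lib.helper74.CG17

/-!
# Class sizes `{1, n, m, nm}`: Part C1, Stage 2, step (c)

In the Stage-2 configuration, `D = C(a) ⊓ C(b)` contains no primary element of class size `n`.
-/

set_option autoImplicit false
set_option linter.unusedSectionVars false

namespace Cfsg.Agent.Lib.helper74

variable {G : Type*} [Group G] [Finite G]

/-- Two subgroups of `L` meeting trivially. -/
theorem card_mul_card_le_of_disjoint (A B L : Subgroup G) (hA : A ≤ L) (hB : B ≤ L)
    (hAB : ∀ x ∈ A, x ∈ B → x = 1) : Nat.card A * Nat.card B ≤ Nat.card L := by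
  rw [← Nat.card_prod]
  apply Nat.card_le_card_of_injective
    (fun p : A × B => (⟨p.1.1 * p.2.1, L.mul_mem (hA p.1.2) (hB p.2.2)⟩ : L))
  rintro ⟨x, y⟩ ⟨x', y'⟩ hxy
  have h1 : x.1 * y.1 = x'.1 * y'.1 := congrArg Subtype.val hxy
  have h2 : x'.1⁻¹ * x.1 = y'.1 * y.1⁻¹ := by
    calc x'.1⁻¹ * x.1 = x'.1⁻¹ * (x.1 * y.1) * y.1⁻¹ := by group
      _ = x'.1⁻¹ * (x'.1 * y'.1) * y.1⁻¹ := by rw [h1]
      _ = y'.1 * y.1⁻¹ := by group
  have h3 : x'.1⁻¹ * x.1 = 1 := hAB _ (A.mul_mem (A.inv_mem x'.2) x.2)
    (by rw [h2]; exact B.mul_mem y'.2 (B.inv_mem y.2))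
  have hx : x.1 = x'.1 := (inv_mul_eq_one.mp h3).symm
  have hy : y.1 = y'.1 := by
    rw [hx] at h1; exact mul_left_cancel h1
  exact Prod.ext (Subtype.ext hx) (Subtype.ext hy)

/-- A normal subgroup containing a non-trivial element `a` has more than `csz a` elements. -/
theorem csz_succ_le_card_normal (N : Subgroup G) [hN : N.Normal] {a : G} (haN : a ∈ N)
    (ha1 : a ≠ 1) : csz a + 1 ≤ Nat.card N := by
  classical
  rw [← card_class a, ← Finite.card_option]
  apply Nat.card_le_card_of_injective
    (fun o : Option {x : G // IsConj a x} =>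
      match o with
      | none => (1 : N)
      | some x => (⟨x.1, by
          obtain ⟨g, hg⟩ := isConj_iff.mp x.2
          rw [← hg]; exact hN.conj_mem a haN g⟩ : N))
  have hne : ∀ x : {x : G // IsConj a x}, x.1 ≠ 1 := by
    intro x hx
    obtain ⟨g, hg⟩ := isConj_iff.mp x.2
    rw [hx] at hg
    apply ha1
    calc a = g⁻¹ * (g * a * g⁻¹) * g := by group
      _ = 1 := by rw [hg]; group
  intro o o' he
  rcases o with _ | x <;> rcases o' with _ | y
  · rfl
  · exfalso
    have e : (1 : G) = y.1 := congrArg Subtype.val he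
    exact hne y e.symm
  · exfalso
    have e : x.1 = (1 : G) := congrArg Subtype.val he
    exact hne x e
  · have e : x.1 = y.1 := congrArg (fun z : N => (z : G)) he
    rw [Subtype.ext e]

/-- Step (c) of Part C1, Stage 2. -/
theorem partC1_stage2c {n m : ℕ} (hn : 1 < n) (hm : 1 < m) (hcop : n.Coprime m)
    (hall : ∀ g : G, csz g = 1 ∨ csz g = n ∨ csz g = m ∨ csz g = n * m)
    (hX : ∀ (a : G) (p k : ℕ), p.Prime → orderOf a = p ^ k → csz a = n → p ∣ m)
    (hY : ∀ (b : G) (p k : ℕ), p.Prime → orderOf b = p ^ k → csz b = m → p ∣ n)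
    {b : G} (hb : csz b = m) {N : Subgroup G} (hNn : N.Normal)
    (hNX : ∀ x : G, csz x = n → N ≤ Subgroup.centralizer ({x} : Set G))
    (hS4 : ∀ c ∈ N, c * b = b * c → c = 1)
    {a : G} (haN : a ∈ N) (ha : csz a = n) {q k : ℕ} (hq : q.Prime) (hao : orderOf a = q ^ k)
    (hB : ∀ d g : G, a * d = d * a → b * d = d * b → d * (g * a * g⁻¹) = g * a * g⁻¹ * d) :
    ∀ (d : G) (s j : ℕ), s.Prime → orderOf d = s ^ j → a * d = d * a → b * d = d * b →
      csz d ≠ n := by
  intro d s j hs hdo had hbd hd
  have hn0 : 0 < n := by omega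
  have hm0 : 0 < m := by omega
  have ha1 : a ≠ 1 := by
    rintro rfl
    have h1 : csz (1 : G) = 1 := (csz_eq_one_iff _).mpr (Subgroup.one_mem _)
    omega
  have hab : a * b ≠ b * a := fun hab => ha1 (hS4 a haN hab)
  have ha' : (Subgroup.centralizer ({a} : Set G)).index = n := ha
  have hb' : (Subgroup.centralizer ({b} : Set G)).index = m := hb
  have hd' : (Subgroup.centralizer ({d} : Set G)).index = n := hd
  have hNa : N ≤ Subgroup.centralizer ({a} : Set G) := hNX a ha
  have hNd : N ≤ Subgroup.centralizer ({d} : Set G) := hNX d hd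
  have hqm : q ∣ m := hX a q k hq hao ha
  rcases hall (a * d) with h1 | h1 | h1 | h1
  · -- `a * d` central
    have hz := (csz_eq_one_iff _).mp h1
    have e1 : b * (a * d) = a * d * b := Subgroup.mem_center_iff.mp hz b
    apply hab
    have e2 : (a * b) * d = (b * a) * d := by
      calc (a * b) * d = a * (b * d) := by group
        _ = a * (d * b) := by rw [hbd]
        _ = a * d * b := by group
        _ = b * (a * d) := e1.symm
        _ = (b * a) * d := by group
    exact mul_right_cancel e2
  · -- class size `n`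
    have hK : Subgroup.centralizer ({b} : Set G) ⊓ Subgroup.centralizer ({a * d} : Set G)
        ≤ Subgroup.centralizer ({a} : Set G) := by
      intro h hh
      have hhb : b * h = h * b := mem_cent_sing.mp hh.1
      have hhad : a * d * h = h * (a * d) := mem_cent_sing.mp hh.2
      -- `e = a⁻¹ (h a h⁻¹) = d (h d h⁻¹)⁻¹`
      have e1 : a⁻¹ * (h * a * h⁻¹) = d * (h * d * h⁻¹)⁻¹ := by
        have e0 : h * a * h⁻¹ * (h * d * h⁻¹) = a * d := by
          calc h * a * h⁻¹ * (h * d * h⁻¹) = h * (a * d) * h⁻¹ := by group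
            _ = a * d * h * h⁻¹ := by rw [hhad]
            _ = a * d := by group
        calc a⁻¹ * (h * a * h⁻¹) = a⁻¹ * (h * a * h⁻¹ * (h * d * h⁻¹)) * (h * d * h⁻¹)⁻¹ := by
              group
          _ = a⁻¹ * (a * d) * (h * d * h⁻¹)⁻¹ := by rw [e0]
          _ = d * (h * d * h⁻¹)⁻¹ := by group
      have heN : a⁻¹ * (h * a * h⁻¹) ∈ N := N.mul_mem (N.inv_mem haN) (hNn.conj_mem a haN h)
      have heb : a⁻¹ * (h * a * h⁻¹) * b = b * (a⁻¹ * (h * a * h⁻¹)) := by
        rw [e1]
        have e2 : h * d * h⁻¹ * b = b * (h * d * h⁻¹) := by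
          calc h * d * h⁻¹ * b = h * d * (h⁻¹ * (b * h) * h⁻¹) := by group
            _ = h * d * (h⁻¹ * (h * b) * h⁻¹) := by rw [hhb]
            _ = h * (d * b) * h⁻¹ := by group
            _ = h * (b * d) * h⁻¹ := by rw [hbd]
            _ = (h * b) * d * h⁻¹ := by group
            _ = (b * h) * d * h⁻¹ := by rw [hhb]
            _ = b * (h * d * h⁻¹) := by group
        calc d * (h * d * h⁻¹)⁻¹ * b = d * ((h * d * h⁻¹)⁻¹ * (b * (h * d * h⁻¹)) * (h * d * h⁻¹)⁻¹)
              := by group
          _ = d * ((h * d * h⁻¹)⁻¹ * (h * d * h⁻¹ * b) * (h * d * h⁻¹)⁻¹) := by rw [← e2]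
          _ = (d * b) * (h * d * h⁻¹)⁻¹ := by group
          _ = (b * d) * (h * d * h⁻¹)⁻¹ := by rw [hbd]
          _ = b * (d * (h * d * h⁻¹)⁻¹) := by group
      have he1 := hS4 _ heN heb
      rw [mem_cent_sing]
      have e3 : h * a * h⁻¹ = a := by
        calc h * a * h⁻¹ = a * (a⁻¹ * (h * a * h⁻¹)) := by group
          _ = a := by rw [he1, mul_one]
      calc a * h = (h * a * h⁻¹) * h := by rw [e3]
        _ = h * a := by group
    -- `C(b) ⊓ C(d) ≤ C(b) ⊓ C(a d)` by index
    have hKd : Subgroup.centralizer ({b} : Set G) ⊓ Subgroup.centralizer ({a * d} : Set G)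
        ≤ Subgroup.centralizer ({b} : Set G) ⊓ Subgroup.centralizer ({d} : Set G) := by
      intro h hh
      have hha : a * h = h * a := mem_cent_sing.mp (hK hh)
      have hhad : a * d * h = h * (a * d) := mem_cent_sing.mp hh.2
      have hhd : h ∈ Subgroup.centralizer ({d} : Set G) := by
        rw [mem_cent_sing]
        have e : a * (d * h) = a * (h * d) := by
          calc a * (d * h) = a * d * h := by group
            _ = h * (a * d) := hhad
            _ = (h * a) * d := by group
            _ = (a * h) * d := by rw [hha]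
            _ = a * (h * d) := by group
        exact mul_left_cancel e
      exact ⟨hh.1, hhd⟩
    have hi1 : (Subgroup.centralizer ({b} : Set G) ⊓ Subgroup.centralizer ({a * d} : Set G)).index
        = m * n := by
      rw [Cfsg.Agent.Lib.helper12.index_inf_of_coprime _ _ (by
        rw [hb', show (Subgroup.centralizer ({a * d} : Set G)).index = n from h1]
        exact hcop.symm), hb', show (Subgroup.centralizer ({a * d} : Set G)).index = n from h1]
    have hi2 : (Subgroup.centralizer ({b} : Set G) ⊓ Subgroup.centralizer ({d} : Set G)).index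
        = m * n := by
      rw [Cfsg.Agent.Lib.helper12.index_inf_of_coprime _ _ (by
        rw [hb', hd']; exact hcop.symm), hb', hd']
    have hle := le_of_le_of_index_le hKd (by rw [hi1, hi2])
    have hbmem : b ∈ Subgroup.centralizer ({b} : Set G) ⊓ Subgroup.centralizer ({d} : Set G) :=
      ⟨mem_cent_sing.mpr rfl, mem_cent_sing.mpr hbd.symm⟩
    exact hab (mem_cent_sing.mp (hK (hle hbmem)))
  · -- class size `m`
    by_cases hsq : s = q
    · subst hsq
      have e1 : a ^ (s ^ (k + j)) = 1 :=
        orderOf_dvd_iff_pow_eq_one.mp (by rw [hao]; exact pow_dvd_pow s (Nat.le_add_right k j))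
      have e2 : d ^ (s ^ (k + j)) = 1 :=
        orderOf_dvd_iff_pow_eq_one.mp (by rw [hdo]; exact pow_dvd_pow s (Nat.le_add_left j k))
      have hpow : (a * d) ^ (s ^ (k + j)) = 1 := by
        rw [(show Commute a d from had).mul_pow, e1, e2, mul_one]
      obtain ⟨i, -, hi⟩ := (Nat.dvd_prime_pow hs).mp (orderOf_dvd_of_pow_eq_one hpow)
      have hsn : s ∣ n := hY (a * d) s i hs hi h1
      exact not_dvd_of_coprime hs hcop hsn hqm
    · have hco : (orderOf a).Coprime (orderOf d) := by
        rw [hao, hdo]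
        exact Nat.Coprime.pow _ _ ((Nat.coprime_primes hq hs).mpr (Ne.symm hsq))
      have hle := (cent_mul_le (show Commute a d from had) hco).trans inf_le_left
      have hdvd : csz a ∣ csz (a * d) := Subgroup.index_dvd_of_le hle
      rw [ha, h1] at hdvd
      have := hcop.eq_one_of_dvd hdvd
      omega
  · -- class size `n * m`
    have hNad : N ≤ Subgroup.centralizer ({a * d} : Set G) := by
      intro x hx
      have h2 : a * x = x * a := mem_cent_sing.mp (hNa hx)
      have h3 : d * x = x * d := mem_cent_sing.mp (hNd hx)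
      rw [mem_cent_sing, mul_assoc, h3, ← mul_assoc, h2, mul_assoc]
    have hFad : Subgroup.centralizer ({d} : Set G) ⊓
        (Subgroup.centralizer ({a} : Set G) ⊓ Subgroup.centralizer ({b} : Set G))
        ≤ Subgroup.centralizer ({a * d} : Set G) := by
      intro x hx
      have h2 : a * x = x * a := mem_cent_sing.mp hx.2.1
      have h3 : d * x = x * d := mem_cent_sing.mp hx.1
      rw [mem_cent_sing, mul_assoc, h3, ← mul_assoc, h2, mul_assoc]
    have hdisj : ∀ x ∈ N, x ∈ Subgroup.centralizer ({d} : Set G) ⊓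
        (Subgroup.centralizer ({a} : Set G) ⊓ Subgroup.centralizer ({b} : Set G)) → x = 1 := by
      intro x hxN hx
      exact hS4 x hxN (mem_cent_sing.mp hx.2.2).symm
    have hc1 := card_mul_card_le_of_disjoint N _ _ hNad hFad hdisj
    have hiD : (Subgroup.centralizer ({a} : Set G) ⊓ Subgroup.centralizer ({b} : Set G)).index
        = n * m := by
      rw [Cfsg.Agent.Lib.helper12.index_inf_of_coprime _ _ (by rw [ha', hb']; exact hcop),
        ha', hb']
    have hcardeq : Nat.card (Subgroup.centralizer ({a * d} : Set G))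
        = Nat.card (Subgroup.centralizer ({a} : Set G) ⊓ Subgroup.centralizer ({b} : Set G) :
          Subgroup G) := by
      have e1 := Subgroup.card_mul_index (Subgroup.centralizer ({a * d} : Set G))
      have e2 := Subgroup.card_mul_index
        (Subgroup.centralizer ({a} : Set G) ⊓ Subgroup.centralizer ({b} : Set G))
      rw [show (Subgroup.centralizer ({a * d} : Set G)).index = n * m from h1] at e1
      rw [hiD, ← e1] at e2
      exact (Nat.eq_of_mul_eq_mul_right (Nat.mul_pos hn0 hm0) e2).symm
    have hc2 := card_inf_mul_relIndex (Subgroup.centralizer ({d} : Set G))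
      (Subgroup.centralizer ({a} : Set G) ⊓ Subgroup.centralizer ({b} : Set G))
    have hrel : (Subgroup.centralizer ({d} : Set G)).relIndex
        (Subgroup.centralizer ({a} : Set G) ⊓ Subgroup.centralizer ({b} : Set G)) ≤ n := by
      have h2 := Subgroup.relIndex_le_of_le_right (H := Subgroup.centralizer ({d} : Set G))
        (le_top : Subgroup.centralizer ({a} : Set G) ⊓ Subgroup.centralizer ({b} : Set G) ≤ ⊤)
        (by rw [Subgroup.relIndex_top_right, hd']; omega)
      rw [Subgroup.relIndex_top_right, hd'] at h2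
      exact h2
    haveI := hNn
    have hNcard : n + 1 ≤ Nat.card N := by
      have := csz_succ_le_card_normal N haN ha1
      rwa [ha] at this
    -- `|N| |F| ≤ |D| = |F| * relIndex`
    have hFpos : 0 < Nat.card (Subgroup.centralizer ({d} : Set G) ⊓
        (Subgroup.centralizer ({a} : Set G) ⊓ Subgroup.centralizer ({b} : Set G)) : Subgroup G) :=
      Nat.card_pos
    rw [hcardeq, ← hc2, mul_comm] at hc1
    have h3 := Nat.le_of_mul_le_mul_left hc1 hFpos
    omega

end Cfsg.Agent.Lib.helper74
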