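import Mathlib
import Cfsg.Agent.Lib.helper74.Gaschutz

/-!
Shared lemmas (helper74), continuing `Gaschutz.lean`: the `H¹` side of Gaschütz's theorem.

* `exists_crossedHom_of_complement`: a complement `H` of the normal subgroup `K` is the kernel of a
  crossed homomorphism `d : G → K` with `d k = k⁻¹` on `K`.
* `crossedHom_average`: a crossed homomorphism `δ : G → K` (`K` abelian normal) that is trivial on a
  subgroup `U` satisfies `δ g ^ |G : U| = c * (g * c⁻¹ * g⁻¹)` for a fixed `c ∈ K`.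
* `crossedHom_principal_of_coprime`: if moreover `|G : U|` is prime to `|K|`, then `δ` is principal:
  `δ g = e * (g * e⁻¹ * g⁻¹)`.
* `complements_conj`: Gaschütz conjugacy.
-/

set_option autoImplicit false

namespace Cfsg.Agent.Lib.helper74

open scoped IsMulCommutative Pointwise

variable {G : Type*} [Group G]

/-- A complement `H` of the normal subgroup `K` is the kernel of a crossed homomorphism. -/
theorem exists_crossedHom_of_complement (K H : Subgroup G) [hKn : K.Normal]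
    (hH : Subgroup.IsComplement' K H) :
    ∃ d : G → G, IsCrossedHom K d ∧ (∀ g, d g * g ∈ H) ∧ (∀ g, d g = 1 ↔ g ∈ H) ∧
      ∀ k ∈ K, d k = k⁻¹ := by
  have hdisj : K ⊓ H = ⊥ := disjoint_iff.mp hH.disjoint
  have hex : ∀ g : G, ∃ k ∈ K, k * g ∈ H := by
    intro g
    obtain ⟨⟨k, h⟩, hkh, -⟩ := Subgroup.isComplement_iff_existsUnique.mp hH g
    have hkh' : (k : G) * (h : G) = g := hkh
    refine ⟨(k : G)⁻¹, K.inv_mem k.2, ?_⟩
    rw [← hkh']
    simp
  have huniq : ∀ g k k' : G, k ∈ K → k' ∈ K → k * g ∈ H → k' * g ∈ H → k = k' := by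
    intro g k k' hk hk' h1 h2
    have h3 : k * k'⁻¹ ∈ K ⊓ H := by
      refine ⟨K.mul_mem hk (K.inv_mem hk'), ?_⟩
      have e : k * k'⁻¹ = (k * g) * (k' * g)⁻¹ := by group
      rw [e]
      exact H.mul_mem h1 (H.inv_mem h2)
    rw [hdisj, Subgroup.mem_bot] at h3
    exact mul_inv_eq_one.mp h3
  choose d hd1 hd2 using hex
  refine ⟨d, ⟨hd1, fun g h => ?_⟩, hd2, fun g => ⟨fun h => ?_, fun h => ?_⟩, fun k hk => ?_⟩
  · apply huniq (g * h) _ _ (hd1 _) (K.mul_mem (hd1 g) (hKn.conj_mem _ (hd1 h) g)) (hd2 _)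
    have e : d g * (g * d h * g⁻¹) * (g * h) = (d g * g) * (d h * h) := by group
    rw [e]
    exact H.mul_mem (hd2 g) (hd2 h)
  · have := hd2 g
    rwa [h, one_mul] at this
  · exact huniq g _ _ (hd1 g) K.one_mem (hd2 g) (by rwa [one_mul])
  · exact huniq k _ _ (hd1 k) (K.inv_mem hk) (hd2 k) (by rw [inv_mul_cancel]; exact H.one_mem)

/-- Averaging a crossed homomorphism that is trivial on `U` over the cosets of `U`. -/
theorem crossedHom_average [Finite G] (K U : Subgroup G) [hKn : K.Normal] [IsMulCommutative K]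
    {δ : G → G} (hδ : IsCrossedHom K δ) (hU : ∀ u ∈ U, δ u = 1) :
    ∃ c ∈ K, ∀ g, δ g ^ U.index = c * (g * c⁻¹ * g⁻¹) := by
  classical
  let _ : Fintype (G ⧸ U) := Fintype.ofFinite _
  have hright : ∀ x u : G, u ∈ U → δ (x * u) = δ x := by
    intro x u hu
    rw [hδ.2, hU u hu]
    group
  let c : K := ∏ q : G ⧸ U, ⟨δ q.out, hδ.1 _⟩
  refine ⟨c, c.2, fun g => ?_⟩
  have key : c = (⟨δ g, hδ.1 g⟩ : K) ^ U.index * MulAut.conjNormal g c := by
    have h1 : ∀ q : G ⧸ U, (⟨δ (g • q).out, hδ.1 _⟩ : K) =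
        (⟨δ g, hδ.1 g⟩ : K) * MulAut.conjNormal g (⟨δ q.out, hδ.1 _⟩ : K) := by
      intro q
      apply Subtype.ext
      rw [Subgroup.coe_mul, MulAut.conjNormal_apply]
      show δ (g • q).out = δ g * (g * δ q.out * g⁻¹)
      rw [← hδ.2]
      have h2 : g • q = (QuotientGroup.mk (g * q.out) : G ⧸ U) := by
        conv_lhs => rw [← QuotientGroup.out_eq' q]
        rfl
      obtain ⟨u, hu⟩ := QuotientGroup.mk_out_eq_mul U (g * q.out)
      rw [h2, hu, hright _ _ u.2]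
    have h3 : (∏ q : G ⧸ U, (⟨δ (g • q).out, hδ.1 _⟩ : K)) = c :=
      Equiv.prod_comp (MulAction.toPerm g : G ⧸ U ≃ G ⧸ U) (fun q => (⟨δ q.out, hδ.1 _⟩ : K))
    have h4 : (∏ q : G ⧸ U, (⟨δ (g • q).out, hδ.1 _⟩ : K)) =
        (⟨δ g, hδ.1 g⟩ : K) ^ U.index * MulAut.conjNormal g c := by
      rw [Finset.prod_congr rfl (fun q _ => h1 q), Finset.prod_mul_distrib, Finset.prod_const,
        Finset.card_univ, ← map_prod, Subgroup.index_eq_card, Nat.card_eq_fintype_card]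
    exact h3.symm.trans h4
  have key' := congrArg Subtype.val key
  rw [Subgroup.coe_mul, MulAut.conjNormal_apply, Subgroup.coe_pow] at key'
  simp only at key'
  have e : g * (c : G)⁻¹ * g⁻¹ = (g * (c : G) * g⁻¹)⁻¹ := by group
  rw [e, eq_mul_inv_iff_mul_eq]
  exact key'.symm

/-- A crossed homomorphism trivial on a subgroup of index prime to `|K|` is principal. -/
theorem crossedHom_principal_of_coprime [Finite G] (K U : Subgroup G) [hKn : K.Normal]
    [IsMulCommutative K] (hcop : (Nat.card K).Coprime U.index)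
    {δ : G → G} (hδ : IsCrossedHom K δ) (hU : ∀ u ∈ U, δ u = 1) :
    ∃ e ∈ K, ∀ g, δ g = e * (g * e⁻¹ * g⁻¹) := by
  obtain ⟨c, hc, hcg⟩ := crossedHom_average K U hδ hU
  have hb : ((1 : ℕ) : ℤ) = (Nat.card K : ℤ) * Nat.gcdA (Nat.card K) U.index +
      (U.index : ℤ) * Nat.gcdB (Nat.card K) U.index := by
    have := Nat.gcd_eq_gcd_ab (Nat.card K) U.index
    rw [hcop.gcd_eq_one] at this
    exact this
  have hpow : ∀ x ∈ K, x = (x ^ U.index) ^ (Nat.gcdB (Nat.card K) U.index) := by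
    intro x hx
    have h1 : x ^ (Nat.card K) = 1 := by
      have h2 : (⟨x, hx⟩ : K) ^ Nat.card K = 1 := pow_card_eq_one'
      have := congrArg Subtype.val h2
      rwa [Subgroup.coe_pow, Subgroup.coe_one] at this
    have h3 : x = x ^ ((1 : ℕ) : ℤ) := by simp
    conv_lhs => rw [h3, hb, zpow_add, zpow_mul, zpow_mul, zpow_natCast, zpow_natCast, h1, one_zpow,
      one_mul]
  refine ⟨c ^ (Nat.gcdB (Nat.card K) U.index), K.zpow_mem hc _, fun g => ?_⟩
  have hcomm : Commute c (g * c⁻¹ * g⁻¹) :=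
    setLike_mul_comm hc (hKn.conj_mem _ (K.inv_mem hc) g)
  conv_lhs => rw [hpow _ (hδ.1 g), hcg g, hcomm.mul_zpow, conj_zpow, inv_zpow]

/-- **Gaschütz, conjugacy.** Two complements of the abelian normal subgroup `K` with the same
intersection with a subgroup `U ≥ K` of index prime to `|K|` are conjugate (by an element of `K`). -/
theorem complements_conj [Finite G] (K U : Subgroup G) [hKn : K.Normal] [IsMulCommutative K]
    (hKU : K ≤ U) (hcop : (Nat.card K).Coprime U.index)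
    (H₀ H₁ : Subgroup G) (h₀ : Subgroup.IsComplement' K H₀) (h₁ : Subgroup.IsComplement' K H₁)
    (hU : H₀ ⊓ U = H₁ ⊓ U) : ∃ e ∈ K, MulAut.conj e • H₀ = H₁ := by
  obtain ⟨d₀, hd₀, hd₀H, hd₀ker, hd₀K⟩ := exists_crossedHom_of_complement K H₀ h₀
  obtain ⟨d₁, hd₁, hd₁H, hd₁ker, hd₁K⟩ := exists_crossedHom_of_complement K H₁ h₁
  have hδ : IsCrossedHom K (fun g => d₁ g * (d₀ g)⁻¹) := hd₁.mul hd₀.inv
  have hδU : ∀ u ∈ U, (fun g => d₁ g * (d₀ g)⁻¹) u = 1 := by
    intro u hu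
    show d₁ u * (d₀ u)⁻¹ = 1
    obtain ⟨⟨k, h⟩, hkh, -⟩ := Subgroup.isComplement_iff_existsUnique.mp h₀ u
    have hkh' : (k : G) * (h : G) = u := hkh
    have hhU : (h : G) ∈ U := by
      have e : (h : G) = (k : G)⁻¹ * u := by rw [← hkh']; group
      rw [e]
      exact U.mul_mem (U.inv_mem (hKU k.2)) hu
    have hh1 : (h : G) ∈ H₁ := by
      have : (h : G) ∈ H₀ ⊓ U := ⟨h.2, hhU⟩
      rw [hU] at this
      exact this.1
    rw [← hkh', hd₁.2, hd₀.2, hd₁K _ k.2, hd₀K _ k.2, (hd₁ker _).mpr hh1, (hd₀ker _).mpr h.2]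
    group
  obtain ⟨e, he, heg⟩ := crossedHom_principal_of_coprime K U hcop hδ hδU
  refine ⟨e, he, ?_⟩
  have hle : MulAut.conj e • H₀ ≤ H₁ := by
    intro x hx
    rw [Subgroup.mem_pointwise_smul_iff_inv_smul_mem] at hx
    have hx' : e⁻¹ * x * e ∈ H₀ := by simpa [MulAut.smul_def] using hx
    have h1 : d₁ (e⁻¹ * x * e) * (d₀ (e⁻¹ * x * e))⁻¹ =
        e * (e⁻¹ * x * e * e⁻¹ * (e⁻¹ * x * e)⁻¹) := heg (e⁻¹ * x * e)
    rw [(hd₀ker _).mpr hx', inv_one, mul_one] at h1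
    have h2 := hd₁H (e⁻¹ * x * e)
    rw [h1] at h2
    have e2 : e * (e⁻¹ * x * e * e⁻¹ * (e⁻¹ * x * e)⁻¹) * (e⁻¹ * x * e) = x := by group
    rwa [e2] at h2
  apply Subgroup.eq_of_le_of_card_ge hle
  have c0 := h₀.card_mul_card
  have c1 := h₁.card_mul_card
  have hK0 : 0 < Nat.card K := Nat.card_pos
  have hc : Nat.card (MulAut.conj e • H₀ : Subgroup G) = Nat.card H₀ := by
    exact Nat.card_congr ((MulAut.conj e).subgroupMap H₀).toEquiv.symm
  rw [hc]
  have : Nat.card K * Nat.card H₁ = Nat.card K * Nat.card H₀ := by rw [c0, c1]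
  exact (Nat.eq_of_mul_eq_mul_left hK0 this).le

end Cfsg.Agent.Lib.helper74
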