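import Mathlib
import Cfsg.Agent.Lib.helper3.GfDefs

/-!
S4395, piece EXB (racing copy by helper74): the Heisenberg-type cover `P0 ⋊ C_{q^r}`.
-/

set_option autoImplicit false

namespace Cfsg.Agent.Lib.helper3.Gf

universe u

/-- the homomorphism `C_n → A` sending the generator to `g` (`g ^ n = 1`). -/
noncomputable def h74ZHom (n : ℕ) {A : Type*} [Group A] (g : A) (hg : g ^ n = 1) :
    Multiplicative (ZMod n) →* A :=
  AddMonoidHom.toMultiplicativeLeft (ZMod.lift n ⟨zmultiplesHom (Additive A) (Additive.ofMul g), by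
    rw [zmultiplesHom_apply, natCast_zsmul, ← ofMul_pow, hg]; rfl⟩)

theorem h74ZHom_gen (n : ℕ) {A : Type*} [Group A] (g : A) (hg : g ^ n = 1) :
    h74ZHom n g hg (Multiplicative.ofAdd 1) = g := by
  have h := ZMod.lift_coe n (⟨zmultiplesHom (Additive A) (Additive.ofMul g), by
    rw [zmultiplesHom_apply, natCast_zsmul, ← ofMul_pow, hg]; rfl⟩ : {f : ℤ →+ Additive A // f n = 0}) 1
  simp only [Int.cast_one, zmultiplesHom_apply, one_zsmul] at h
  unfold h74ZHom
  rw [AddMonoidHom.coe_toMultiplicativeLeft]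
  simp only [Function.comp_apply, toAdd_ofAdd]
  rw [h]; rfl

/-- the data: a field with an involutive endomorphism and a character into the norm-one units. -/
structure H74D (L : Type) [Field L] (C : Type) [Group C] where
  σ : L →+* L
  hσ : ∀ x, σ (σ x) = x
  χ : C →* Lˣ
  hχ : ∀ k, ((χ k : Lˣ) : L) * σ ((χ k : Lˣ) : L) = 1

/-- the group `P0 ⋊ C`. -/
structure H74G {L : Type} [Field L] {C : Type} [Group C] (D : H74D L C) : Type u where
  x : L
  z : L
  k : C
  h : z + D.σ z = x * D.σ x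
  d : PUnit.{u+1}

namespace H74G

variable {L : Type} [Field L] {C : Type} [Group C] {D : H74D L C}

theorem ext' (g g' : H74G.{u} D) (hx : g.x = g'.x) (hz : g.z = g'.z) (hk : g.k = g'.k) : g = g' := by
  cases g; cases g'; simp_all

noncomputable instance : Mul (H74G.{u} D) :=
  ⟨fun g g' => ⟨g.x + ((D.χ g.k : Lˣ) : L) * g'.x, g.z + g'.z + g.x * D.σ (((D.χ g.k : Lˣ) : L) * g'.x),
    g.k * g'.k, by
      have h1 := g.h; have h2 := g'.h; have hc := D.hχ g.k
      simp only [map_add, map_mul, D.hσ]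
      linear_combination h1 + h2 - (g'.x * D.σ g'.x) * hc, PUnit.unit⟩⟩

noncomputable instance : One (H74G.{u} D) := ⟨⟨0, 0, 1, by simp, PUnit.unit⟩⟩

noncomputable instance : Inv (H74G.{u} D) :=
  ⟨fun g => ⟨-(((D.χ g.k⁻¹ : Lˣ) : L) * g.x), -g.z + g.x * D.σ g.x, g.k⁻¹, by
      have h1 := g.h; have hc := D.hχ g.k⁻¹
      simp only [map_add, map_mul, map_neg, D.hσ]
      linear_combination (-1 : L) * h1 - (g.x * D.σ g.x) * hc, PUnit.unit⟩⟩

@[simp] theorem mul_x (g g' : H74G.{u} D) : (g * g').x = g.x + ((D.χ g.k : Lˣ) : L) * g'.x := rfl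
@[simp] theorem mul_z (g g' : H74G.{u} D) :
    (g * g').z = g.z + g'.z + g.x * D.σ (((D.χ g.k : Lˣ) : L) * g'.x) := rfl
@[simp] theorem mul_k (g g' : H74G.{u} D) : (g * g').k = g.k * g'.k := rfl
@[simp] theorem one_x : (1 : H74G.{u} D).x = 0 := rfl
@[simp] theorem one_z : (1 : H74G.{u} D).z = 0 := rfl
@[simp] theorem one_k : (1 : H74G.{u} D).k = 1 := rfl
@[simp] theorem inv_x (g : H74G.{u} D) : (g⁻¹).x = -(((D.χ g.k⁻¹ : Lˣ) : L) * g.x) := rfl
@[simp] theorem inv_z (g : H74G.{u} D) : (g⁻¹).z = -g.z + g.x * D.σ g.x := rfl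
@[simp] theorem inv_k (g : H74G.{u} D) : (g⁻¹).k = g.k⁻¹ := rfl

theorem chi_inv_mul (k : C) : ((D.χ k⁻¹ : Lˣ) : L) * ((D.χ k : Lˣ) : L) = 1 := by
  rw [← Units.val_mul, ← map_mul, inv_mul_cancel, map_one, Units.val_one]

noncomputable instance : Group (H74G.{u} D) :=
  Group.ofLeftAxioms
    (by
      intro g g' g''
      apply ext'
      · simp only [mul_x, mul_k, map_mul, Units.val_mul]; ring
      · have hc := D.hχ g.k
        simp only [mul_x, mul_z, mul_k, map_mul, map_add, Units.val_mul]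
        linear_combination (g'.x * D.σ ((D.χ g'.k : Lˣ) : L) * D.σ g''.x) * hc
      · simp only [mul_k, mul_assoc])
    (by
      intro g
      apply ext' <;> simp)
    (by
      intro g
      apply ext'
      · simp
      · have hc := D.hχ g.k⁻¹
        simp only [mul_z, inv_z, inv_x, inv_k, map_mul, one_z]
        linear_combination (-(g.x * D.σ g.x)) * hc
      · simp)


/-- the normal `p`-subgroup `P0`. -/
def Psub (D : H74D L C) : Subgroup (H74G.{u} D) where
  carrier := {g | g.k = 1}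
  mul_mem' := by
    intro a b ha hb
    simp only [Set.mem_setOf_eq, mul_k] at *
    rw [ha, hb, one_mul]
  one_mem' := rfl
  inv_mem' := by
    intro a ha
    simp only [Set.mem_setOf_eq, inv_k] at *
    rw [ha, inv_one]

/-- the centre `N` of `P0`. -/
def Nsub (D : H74D L C) : Subgroup (H74G.{u} D) where
  carrier := {g | g.k = 1 ∧ g.x = 0}
  mul_mem' := by
    intro a b ha hb
    obtain ⟨h1, h2⟩ := ha
    obtain ⟨h3, h4⟩ := hb
    exact ⟨by simp [h1, h3], by simp [h2, h4]⟩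
  one_mem' := ⟨rfl, rfl⟩
  inv_mem' := by
    intro a ha
    exact ⟨by simp [ha.1], by simp [ha.2]⟩

theorem mem_P {g : H74G.{u} D} : g ∈ Psub D ↔ g.k = 1 := Iff.rfl
theorem mem_N {g : H74G.{u} D} : g ∈ Nsub D ↔ g.k = 1 ∧ g.x = 0 := Iff.rfl

/-- the element `(0, 0, c)`. -/
def yel (D : H74D L C) (c : C) : H74G.{u} D := ⟨0, 0, c, by simp, PUnit.unit⟩

@[simp] theorem yel_x (c : C) : (yel.{u} D c).x = 0 := rfl
@[simp] theorem yel_z (c : C) : (yel.{u} D c).z = 0 := rfl
@[simp] theorem yel_k (c : C) : (yel.{u} D c).k = c := rfl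

theorem yel_pow (c : C) (j : ℕ) : (yel.{u} D c) ^ j = yel D (c ^ j) := by
  induction j with
  | zero => apply ext' <;> simp
  | succ j ih =>
    rw [pow_succ, ih]
    apply ext' <;> simp [pow_succ]

theorem pow_k_x (g : H74G.{u} D) (hg : g.k = 1) (j : ℕ) : (g ^ j).k = 1 ∧ (g ^ j).x = (j : L) * g.x := by
  induction j with
  | zero => simp
  | succ j ih =>
    rw [pow_succ]
    refine ⟨by simp [ih.1, hg], ?_⟩
    simp only [mul_x, ih.1, ih.2, map_one, Units.val_one, one_mul, Nat.cast_succ]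
    ring

theorem pow_z (g : H74G.{u} D) (hg : g.k = 1) (hx : g.x = 0) (j : ℕ) : (g ^ j).z = (j : L) * g.z := by
  induction j with
  | zero => simp
  | succ j ih =>
    rw [pow_succ]
    simp only [mul_z, ih, (pow_k_x g hg j).2, hx, mul_zero, zero_mul, add_zero, Nat.cast_succ]
    ring

theorem comm_kxz (g1 g2 : H74G.{u} D) (h1 : g1.k = 1) (h2 : g2.k = 1) :
    (g1 * g2 * g1⁻¹ * g2⁻¹).k = 1 ∧ (g1 * g2 * g1⁻¹ * g2⁻¹).x = 0 ∧
      (g1 * g2 * g1⁻¹ * g2⁻¹).z = g1.x * D.σ g2.x - g2.x * D.σ g1.x := by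
  refine ⟨by simp [h1, h2], by simp [h1, h2], ?_⟩
  simp only [mul_z, mul_x, mul_k, inv_z, inv_x, inv_k, h1, h2, map_one, Units.val_one, one_mul,
    inv_one, mul_one, map_neg, map_add]
  ring

end H74G

open H74G in
theorem h74_cov {L : Type} [Field L] (p q r : ℕ) [Fact p.Prime] [CharP L p] [NeZero (q ^ r)]
    (D : H74D L (Multiplicative (ZMod (q ^ r))))
    (lam : Lˣ) (hgen : D.χ (Multiplicative.ofAdd 1) = lam) (hlq : lam ^ q = 1) (hl1 : (lam : L) ≠ 1)
    (e : L) (he : e + D.σ e = 1)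
    (hirr : ∀ W : AddSubgroup L, (∀ w ∈ W, (lam : L) * w ∈ W) → W = ⊥ ∨ W = ⊤) :
    Cov p q r (Nsub.{u} D) (Psub D) (yel D (Multiplicative.ofAdd 1)) ∧ NonGen (Nsub.{u} D) := by
  have hp0 : (p : L) = 0 := CharP.cast_eq_zero L p
  have hcen : Nsub.{u} D ≤ Subgroup.center (H74G.{u} D) := by
    intro n hn
    rw [Subgroup.mem_center_iff]
    intro g
    apply ext'
    · simp [hn.1, hn.2]
    · simp [hn.1, hn.2, add_comm]
    · simp [hn.1]
  have hgenpow : ∀ j : ℕ, (Multiplicative.ofAdd (1 : ZMod (q ^ r))) ^ j = Multiplicative.ofAdd ((j : ZMod (q ^ r))) := by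
    intro j
    rw [← ofAdd_nsmul, nsmul_one]
  refine ⟨⟨fun g hg => hg.1, hcen, ⟨fun n hn g => ?_⟩, ?_, ?_, ?_, ?_, ?_, ?_, ?_, ?_, ?_⟩, ?_⟩
  · -- P normal
    show (g * n * g⁻¹).k = 1
    simp [show n.k = 1 from hn]
  · -- p-group
    rintro ⟨g, hg⟩
    refine ⟨2, ?_⟩
    apply Subtype.ext
    rw [Subgroup.coe_pow, Subgroup.coe_one, sq, pow_mul]
    have h1 := pow_k_x g hg p
    have h2 := pow_k_x (g ^ p) h1.1 p
    have hx : (g ^ p).x = 0 := by rw [h1.2, hp0, zero_mul]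
    apply ext'
    · rw [h2.2, hp0, zero_mul]; rfl
    · rw [pow_z (g ^ p) h1.1 hx p, hp0, zero_mul]; rfl
    · exact h2.1
  · -- commutators
    intro u hu v hv
    exact ⟨(comm_kxz u v hu hv).1, (comm_kxz u v hu hv).2.1⟩
  · -- p-th powers
    intro u hu
    have h1 := pow_k_x u hu p
    exact ⟨h1.1, by rw [h1.2, hp0, zero_mul]⟩
  · -- P ⊔ <y> = ⊤
    rw [eq_top_iff]
    intro g _
    have hg : g = (⟨g.x, g.z, 1, g.h, PUnit.unit⟩ : H74G.{u} D) * yel D g.k := by
      apply ext' <;> simp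
    rw [hg]
    refine Subgroup.mul_mem_sup rfl ?_
    have hk : g.k = (Multiplicative.ofAdd (1 : ZMod (q ^ r))) ^ (Multiplicative.toAdd g.k).val := by
      rw [hgenpow, ZMod.natCast_zmod_val]; rfl
    rw [hk, ← yel_pow]
    exact Subgroup.pow_mem _ (Subgroup.mem_zpowers _) _
  · -- order
    intro j hj
    rw [yel_pow] at hj
    have h1 : (Multiplicative.ofAdd (1 : ZMod (q ^ r))) ^ j = 1 := hj
    rw [hgenpow] at h1
    have h2 : ((j : ZMod (q ^ r))) = 0 := h1
    exact (ZMod.natCast_eq_zero_iff j (q ^ r)).1 h2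
  · rw [yel_pow]
    show (Multiplicative.ofAdd (1 : ZMod (q ^ r))) ^ (q ^ r) = 1
    rw [hgenpow, ZMod.natCast_self]; rfl
  · -- y^q trivial on P/N
    intro u hu
    rw [yel_pow]
    have hu' : u.k = 1 := hu
    have hc : D.χ ((Multiplicative.ofAdd (1 : ZMod (q ^ r))) ^ q) = 1 := by
      rw [map_pow, hgen, hlq]
    refine ⟨by simp [hu'], ?_⟩
    simp [hu', hc]
  · -- nontrivial
    refine ⟨⟨1, e, 1, by simpa using he, PUnit.unit⟩, rfl, ?_⟩
    intro h
    have h2 := h.2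
    simp [hgen] at h2
    apply hl1
    linear_combination h2
  · -- irreducible
    intro W hNW hWP hinv
    let W0 : AddSubgroup L :=
      { carrier := {x | ∃ g ∈ W, g.x = x}
        zero_mem' := ⟨1, W.one_mem, rfl⟩
        add_mem' := by
          rintro a b ⟨g, hg, rfl⟩ ⟨g', hg', rfl⟩
          refine ⟨g * g', W.mul_mem hg hg', ?_⟩
          simp [show g.k = 1 from hWP hg]
        neg_mem' := by
          rintro a ⟨g, hg, rfl⟩
          refine ⟨g⁻¹, W.inv_mem hg, ?_⟩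
          simp [show g.k = 1 from hWP hg] }
    have hW0 : ∀ w ∈ W0, (lam : L) * w ∈ W0 := by
      rintro w ⟨g, hg, rfl⟩
      refine ⟨_, hinv g hg, ?_⟩
      simp [hgen]
    rcases hirr W0 hW0 with h0 | h0
    · left
      apply le_antisymm _ hNW
      intro g hg
      refine ⟨hWP hg, ?_⟩
      have : g.x ∈ W0 := ⟨g, hg, rfl⟩
      rw [h0] at this
      exact this
    · right
      apply le_antisymm hWP
      intro g hg
      have : g.x ∈ W0 := by rw [h0]; trivial
      obtain ⟨g', hg', hx⟩ := this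
      have hg'k : g'.k = 1 := hWP hg'
      have hgk : g.k = 1 := hg
      have hmem : g * g'⁻¹ ∈ Nsub.{u} D := ⟨by simp [hgk, hg'k], by simp [hgk, hg'k, hx]⟩
      have : g = (g * g'⁻¹) * g' := by group
      rw [this]
      exact W.mul_mem (hNW hmem) hg'
  · -- NonGen
    intro S hS
    haveI : (Nsub.{u} D).Normal := ⟨fun n hn g => by
      have := (Subgroup.mem_center_iff.1 (hcen hn)) g
      rw [this, mul_inv_cancel_right]; exact hn⟩
    have key : ∀ x0 z0 : L, z0 + D.σ z0 = x0 * D.σ x0 → ∃ s ∈ S, s.k = 1 ∧ s.x = x0 := by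
      intro x0 z0 h0
      have hu : (⟨x0, z0, 1, h0, PUnit.unit⟩ : H74G.{u} D) ∈ S ⊔ Nsub D := by rw [hS]; trivial
      rw [← SetLike.mem_coe, Subgroup.mul_normal] at hu
      obtain ⟨s, hs, m, hm, hsm⟩ := hu
      have hm' : m.k = 1 ∧ m.x = 0 := hm
      refine ⟨s, hs, ?_, ?_⟩
      · have := congrArg H74G.k hsm
        simpa [hm'.1] using this
      · have := congrArg H74G.x hsm
        simpa [hm'.2] using this
    have hN : Nsub.{u} D ≤ S := by
      intro n hn
      have hn' : n.k = 1 ∧ n.x = 0 := hn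
      have hnz : D.σ n.z = -n.z := by
        have := n.h
        rw [hn'.2, zero_mul] at this
        linear_combination this
      have hw : D.σ ((e * n.z) * D.σ (e * n.z)) = (e * n.z) * D.σ (e * n.z) := by
        rw [map_mul, D.hσ, mul_comm]
      obtain ⟨s1, hs1, hk1, hx1⟩ := key (e * n.z) (e * ((e * n.z) * D.σ (e * n.z))) (by
        have h3 : D.σ (e * (e * n.z * D.σ (e * n.z))) = D.σ e * (e * n.z * D.σ (e * n.z)) := by
          rw [map_mul D.σ e, hw]
        rw [h3]; linear_combination ((e * n.z) * D.σ (e * n.z)) * he)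
      obtain ⟨s2, hs2, hk2, hx2⟩ := key 1 e (by simpa using he)
      have hc := comm_kxz s1 s2 hk1 hk2
      have : n = s1 * s2 * s1⁻¹ * s2⁻¹ := by
        apply ext'
        · rw [hc.2.1, hn'.2]
        · rw [hc.2.2, hx1, hx2, map_one, map_mul, hnz]
          linear_combination (-n.z) * he
        · rw [hc.1, hn'.1]
      rw [this]
      exact S.mul_mem (S.mul_mem (S.mul_mem hs1 hs2) (S.inv_mem hs1)) (S.inv_mem hs2)
    rw [← hS]
    exact (sup_eq_left.2 hN).symm

namespace H74G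

variable {L : Type} [Field L] {C : Type} [Group C] {D : H74D L C}

/-- underlying-set equivalence. -/
def toProd (D : H74D L C) :
    H74G.{u} D ≃ {xz : L × L // xz.2 + D.σ xz.2 = xz.1 * D.σ xz.1} × C where
  toFun g := (⟨(g.x, g.z), g.h⟩, g.k)
  invFun t := ⟨t.1.1.1, t.1.1.2, t.2, t.1.2, PUnit.unit⟩
  left_inv g := by cases g; rfl
  right_inv t := by rcases t with ⟨⟨⟨x, z⟩, h⟩, k⟩; rfl

/-- straightening the Hermitian slice. -/
def sliceEquiv (D : H74D L C) (e : L) (he : e + D.σ e = 1) :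
    {xz : L × L // xz.2 + D.σ xz.2 = xz.1 * D.σ xz.1} ≃ L × {z : L // z + D.σ z = 0} where
  toFun t := (t.1.1, ⟨t.1.2 - e * (t.1.1 * D.σ t.1.1), by
    have h := t.2
    simp only [map_sub, map_mul, D.hσ]
    linear_combination h - (t.1.1 * D.σ t.1.1) * he⟩)
  invFun s := ⟨(s.1, s.2.1 + e * (s.1 * D.σ s.1)), by
    have h := s.2.2
    simp only [map_add, map_mul, D.hσ]
    linear_combination h + (s.1 * D.σ s.1) * he⟩
  left_inv t := by
    rcases t with ⟨⟨x, z⟩, h⟩
    simp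
  right_inv s := by
    rcases s with ⟨x, ⟨z, h⟩⟩
    simp

/-- `L` is the square of the trace-zero set. -/
def kerEquiv (D : H74D L C) (e θ : L) (he : e + D.σ e = 1) (hθ : θ ≠ 0) (hθ' : θ + D.σ θ = 0) :
    L ≃ {z : L // z + D.σ z = 0} × {z : L // z + D.σ z = 0} where
  toFun z := (⟨z - e * (z + D.σ z), by
    simp only [map_sub, map_mul, map_add, D.hσ]
    linear_combination (-(z + D.σ z)) * he⟩, ⟨θ * (z + D.σ z), by
    simp only [map_mul, map_add, D.hσ]
    linear_combination (z + D.σ z) * hθ'⟩)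
  invFun s := s.1.1 + e * (θ⁻¹ * s.2.1)
  left_inv z := by
    show z - e * (z + D.σ z) + e * (θ⁻¹ * (θ * (z + D.σ z))) = z
    rw [inv_mul_cancel_left₀ hθ]; ring
  right_inv s := by
    rcases s with ⟨⟨a, ha⟩, ⟨b, hb⟩⟩
    have hσθ : D.σ θ = -θ := by linear_combination hθ'
    have hσb : D.σ b = -b := by linear_combination hb
    have hσa : D.σ a = -a := by linear_combination ha
    have ht : D.σ (θ⁻¹ * b) = θ⁻¹ * b := by
      rw [map_mul, map_inv₀, hσθ, hσb, inv_neg, neg_mul_neg]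
    have hz : (a + e * (θ⁻¹ * b)) + D.σ (a + e * (θ⁻¹ * b)) = θ⁻¹ * b := by
      rw [map_add, map_mul D.σ e, ht, hσa]; linear_combination (θ⁻¹ * b) * he
    apply Prod.ext
    · apply Subtype.ext
      show a + e * (θ⁻¹ * b) - e * ((a + e * (θ⁻¹ * b)) + D.σ (a + e * (θ⁻¹ * b))) = a
      rw [hz]; ring
    · apply Subtype.ext
      show θ * ((a + e * (θ⁻¹ * b)) + D.σ (a + e * (θ⁻¹ * b))) = b
      rw [hz, mul_inv_cancel_left₀ hθ]

theorem card_eq [Finite L] [Finite C] (D : H74D L C) (e θ : L) (he : e + D.σ e = 1) (hθ : θ ≠ 0)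
    (hθ' : θ + D.σ θ = 0) (m : ℕ) (hm : Nat.card L = m ^ 2) :
    Nat.card (H74G.{u} D) = m ^ 3 * Nat.card C := by
  have h1 := Nat.card_congr (toProd.{u} D)
  have h2 := Nat.card_congr (sliceEquiv D e he)
  have h3 := Nat.card_congr (kerEquiv D e θ he hθ hθ')
  rw [Nat.card_prod] at h1 h2 h3
  have hK : Nat.card {z : L // z + D.σ z = 0} = m := by
    have : Nat.card {z : L // z + D.σ z = 0} ^ 2 = m ^ 2 := by rw [sq, ← h3, hm]
    exact Nat.pow_left_injective (by norm_num : (2 : ℕ) ≠ 0) this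
  rw [h1, h2, hK, hm]; ring

end H74G

theorem h74_irr {L : Type} [Field L] [Finite L] (p q a : ℕ) [Fact p.Prime] [Fact q.Prime]
    (hcard : Nat.card L = p ^ a) (ha : a = orderOf (p : ZMod q))
    (lam : Lˣ) (hlq : lam ^ q = 1) (hl1 : (lam : L) ≠ 1)
    (W : AddSubgroup L) (hW : ∀ w ∈ W, (lam : L) * w ∈ W) : W = ⊥ ∨ W = ⊤ := by
  classical
  haveI : Fintype L := Fintype.ofFinite L
  have hdvd : Nat.card W ∣ p ^ a := hcard ▸ AddSubgroup.card_addSubgroup_dvd_card W
  obtain ⟨d, hda, hd⟩ := (Nat.dvd_prime_pow (Fact.out : p.Prime)).1 hdvd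
  let f : Function.End W := fun w => ⟨(lam : L) * w, hW w w.2⟩
  have hf : ∀ (j : ℕ) (w : W), (((f ^ j) w : W) : L) = ((lam ^ j : Lˣ) : L) * w := by
    intro j
    induction j with
    | zero =>
      intro w
      rw [pow_zero, pow_zero, Units.val_one, one_mul]; rfl
    | succ j ih =>
      intro w
      rw [pow_succ' f]
      show (lam : L) * ((f ^ j) w : L) = _
      rw [ih, pow_succ', Units.val_mul, mul_assoc]
  have hfq : f ^ q ^ 1 = 1 := by
    rw [pow_one]
    funext w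
    apply Subtype.ext
    show ((f ^ q) w : L) = (w : L)
    rw [hf, hlq, Units.val_one, one_mul]
  have hmod := Equiv.Perm.card_fixedPoints_modEq (p := q) (n := 1) hfq
  have hfix : Nat.card (Function.fixedPoints f) = 1 := by
    rw [Nat.card_eq_one_iff_unique]
    have hz : ∀ w : W, f w = w → w = 0 := by
      intro w hw
      apply Subtype.ext
      have h1 : (lam : L) * (w : L) = w := congrArg Subtype.val hw
      have h2 : ((lam : L) - 1) * (w : L) = 0 := by linear_combination h1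
      rcases mul_eq_zero.1 h2 with h3 | h3
      · exact absurd (sub_eq_zero.1 h3) hl1
      · exact h3
    refine ⟨⟨?_⟩, ⟨⟨0, ?_⟩⟩⟩
    · rintro ⟨x, hx⟩ ⟨y, hy⟩
      apply Subtype.ext
      show x = y
      rw [hz x hx, hz y hy]
    · show f 0 = 0
      apply Subtype.ext
      show (lam : L) * ((0 : W) : L) = ((0 : W) : L)
      simp
  rw [← Nat.card_eq_fintype_card, ← Nat.card_eq_fintype_card, hfix, hd] at hmod
  have h1 : (p : ZMod q) ^ d = 1 := by
    have := (ZMod.natCast_eq_natCast_iff (p ^ d) 1 q).2 hmod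
    simpa using this
  have h2 : a ∣ d := ha ▸ orderOf_dvd_of_pow_eq_one h1
  rcases Nat.eq_zero_or_pos d with h0 | h0
  · left
    apply AddSubgroup.eq_bot_of_card_eq
    rw [hd, h0, pow_zero]
  · right
    have hda' : d = a := le_antisymm hda (Nat.le_of_dvd h0 h2)
    apply AddSubgroup.eq_top_of_card_eq
    rw [hd, hda', hcard]

theorem h74_ex_aux {L : Type} [Field L] [Finite L] (p q r : ℕ) [Fact p.Prime] [Fact q.Prime]
    [CharP L p] (hpq : p ≠ q) (hr : 1 ≤ r) (hev : orderOf (p : ZMod q) % 2 = 0)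
    (hcard : Nat.card L = p ^ orderOf (p : ZMod q)) :
    ∃ (G : Type u) (_ : Group G) (_ : Finite G) (N P : Subgroup G) (y : G),
      Cov p q r N P y ∧ NonGen N ∧ Nat.card G = p ^ (3 * orderOf (p : ZMod q) / 2) * q ^ r := by
  classical
  have hp : p.Prime := Fact.out
  have hq : q.Prime := Fact.out
  obtain ⟨a, ha⟩ : ∃ a, a = orderOf (p : ZMod q) := ⟨_, rfl⟩
  rw [← ha] at hev hcard ⊢
  have hcop : Nat.Coprime p q := (Nat.coprime_primes hp hq).2 hpq
  have ha0 : 0 < a := by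
    have h1 : orderOf (ZMod.unitOfCoprime p hcop) = a := by
      rw [ha, ← orderOf_units, ZMod.coe_unitOfCoprime]
    rw [← h1]
    exact orderOf_pos _
  obtain ⟨b, hb⟩ : ∃ b, a = 2 * b := ⟨a / 2, by omega⟩
  have hb0 : 0 < b := by omega
  have hpa : (p : ZMod q) ^ a = 1 := by rw [ha]; exact pow_orderOf_eq_one _
  have hpb : (p : ZMod q) ^ b = -1 := by
    have h1 : (p : ZMod q) ^ b * (p : ZMod q) ^ b = 1 := by rw [← pow_add, ← two_mul, ← hb, hpa]
    rcases mul_self_eq_one_iff.1 h1 with h2 | h2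
    · exfalso
      have h3 := orderOf_dvd_of_pow_eq_one h2
      rw [← ha] at h3
      have h4 := Nat.le_of_dvd hb0 h3
      omega
    · exact h2
  have hq1 : q ∣ p ^ a - 1 := by
    have h1 : ((p ^ a - 1 : ℕ) : ZMod q) = 0 := by
      rw [Nat.cast_sub (Nat.one_le_pow _ _ hp.pos)]; push_cast; rw [hpa]; ring
    exact (ZMod.natCast_eq_zero_iff _ _).1 h1
  have hq2 : q ∣ p ^ b + 1 := by
    have h1 : ((p ^ b + 1 : ℕ) : ZMod q) = 0 := by
      push_cast; rw [hpb]; ring
    exact (ZMod.natCast_eq_zero_iff _ _).1 h1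
  haveI : Fintype L := Fintype.ofFinite L
  have hcardF : Fintype.card L = p ^ a := by rw [← Nat.card_eq_fintype_card, hcard]
  let σ : L →+* L := iterateFrobenius L p b
  have hσdef : ∀ x : L, σ x = x ^ p ^ b := fun x => rfl
  have hσσ : ∀ x : L, σ (σ x) = x := by
    intro x
    rw [hσdef, hσdef, ← pow_mul, ← pow_add, ← two_mul, ← hb, ← hcardF, FiniteField.pow_card]
  obtain ⟨u, hu⟩ : ∃ u : L, σ u ≠ u := by
    obtain ⟨g, hg⟩ := IsCyclic.exists_generator (α := Lˣ)
    have ho : orderOf g = p ^ a - 1 := by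
      rw [orderOf_eq_card_of_forall_mem_zpowers hg, Nat.card_units, hcard]
    refine ⟨(g : L), fun h => ?_⟩
    rw [hσdef] at h
    have h1 : g ^ p ^ b = g := Units.ext (by rw [Units.val_pow_eq_pow_val, h])
    have h2 : g ^ (p ^ b - 1) = 1 := by
      have h3 : g ^ (p ^ b - 1) * g = g := by
        rw [← pow_succ, Nat.sub_add_cancel (Nat.one_le_pow _ _ hp.pos), h1]
      exact mul_right_cancel (h3.trans (one_mul g).symm)
    have h4 := orderOf_dvd_of_pow_eq_one h2
    rw [ho] at h4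
    have h5 : 1 < p ^ b := Nat.one_lt_pow hb0.ne' hp.one_lt
    have h6 : p ^ b < p ^ a := Nat.pow_lt_pow_right hp.one_lt (by omega)
    have h7 := Nat.le_of_dvd (by omega) h4
    omega
  obtain ⟨θ, hθ⟩ : ∃ θ, θ = u - σ u := ⟨_, rfl⟩
  have hθ0 : θ ≠ 0 := by rw [hθ]; exact sub_ne_zero.2 (Ne.symm hu)
  have hθσ : θ + σ θ = 0 := by rw [hθ, map_sub, hσσ]; ring
  have hee : u / θ + σ (u / θ) = 1 := by
    have hσθ : σ θ = -θ := by linear_combination hθσ
    rw [map_div₀, hσθ, div_neg, ← sub_eq_add_neg, ← sub_div, ← hθ, div_self hθ0]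
  obtain ⟨lam, hlam⟩ := exists_prime_orderOf_dvd_card' (G := Lˣ) q
    (by rw [Nat.card_units, hcard]; exact hq1)
  have hlq : lam ^ q = 1 := by rw [← hlam]; exact pow_orderOf_eq_one _
  have hl1 : (lam : L) ≠ 1 := by
    intro h
    have h1 : lam = 1 := Units.ext h
    rw [h1, orderOf_one] at hlam
    exact hq.one_lt.ne hlam
  have hnorm : lam ^ (p ^ b + 1) = 1 := by
    obtain ⟨c, hc⟩ := hq2
    rw [hc, pow_mul, hlq, one_pow]
  haveI : NeZero (q ^ r) := ⟨pow_ne_zero _ hq.ne_zero⟩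
  have hlqr : lam ^ (q ^ r) = 1 := by
    obtain ⟨r', rfl⟩ : ∃ r', r = r' + 1 := ⟨r - 1, by omega⟩
    rw [pow_succ', pow_mul, hlq, one_pow]
  let χ : Multiplicative (ZMod (q ^ r)) →* Lˣ := h74ZHom (q ^ r) lam hlqr
  have hχgen : χ (Multiplicative.ofAdd 1) = lam := h74ZHom_gen _ _ _
  have hχ : ∀ k, ((χ k : Lˣ) : L) * σ ((χ k : Lˣ) : L) = 1 := by
    intro k
    have hk : k = (Multiplicative.ofAdd (1 : ZMod (q ^ r))) ^ (Multiplicative.toAdd k).val := by
      rw [← ofAdd_nsmul, nsmul_one, ZMod.natCast_zmod_val]; rfl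
    have hk2 : χ k = lam ^ (Multiplicative.toAdd k).val := by
      conv_lhs => rw [hk]
      rw [map_pow, hχgen]
    rw [hk2, hσdef, ← pow_succ', ← Units.val_pow_eq_pow_val, pow_right_comm, hnorm, one_pow,
      Units.val_one]
  let D : H74D L (Multiplicative (ZMod (q ^ r))) := ⟨σ, hσσ, χ, hχ⟩
  have hcov := h74_cov.{u} p q r D lam hχgen hlq hl1 (u / θ) hee
    (fun W hW => h74_irr p q a hcard ha lam hlq hl1 W hW)
  haveI : Finite (H74G.{u} D) := Finite.of_equiv _ (H74G.toProd.{u} D).symm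
  refine ⟨H74G.{u} D, inferInstance, inferInstance, H74G.Nsub D, H74G.Psub D,
    H74G.yel D (Multiplicative.ofAdd 1), hcov.1, hcov.2, ?_⟩
  rw [H74G.card_eq D (u / θ) θ hee hθ0 hθσ (p ^ b) (by rw [hcard, hb, ← pow_mul, mul_comm])]
  have hC : Nat.card (Multiplicative (ZMod (q ^ r))) = q ^ r := by
    rw [Nat.card_congr Multiplicative.toAdd, Nat.card_zmod]
  rw [hC, ← pow_mul]
  congr 2
  omega

theorem h74_ex_cov_b (p q r : ℕ) [Fact p.Prime] [Fact q.Prime] (hpq : p ≠ q) (hr : 1 ≤ r)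
    (hev : orderOf (p : ZMod q) % 2 = 0) :
    ∃ (G : Type u) (_ : Group G) (_ : Finite G) (N P : Subgroup G) (y : G),
      Cov p q r N P y ∧ NonGen N ∧ Nat.card G = p ^ (3 * orderOf (p : ZMod q) / 2) * q ^ r := by
  have hcop : Nat.Coprime p q := (Nat.coprime_primes Fact.out Fact.out).2 hpq
  have ha0 : orderOf (p : ZMod q) ≠ 0 := by
    have h1 : orderOf (ZMod.unitOfCoprime p hcop) = orderOf (p : ZMod q) := by
      rw [← orderOf_units, ZMod.coe_unitOfCoprime]
    rw [← h1]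
    exact (orderOf_pos _).ne'
  exact h74_ex_aux.{u} (L := GaloisField p (orderOf (p : ZMod q))) p q r hpq hr hev
    (GaloisField.card p _ ha0)

end Cfsg.Agent.Lib.helper3.Gf
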