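import Mathlib

/-! S5977/S5978, sub-split HCI, piece ARITH (racing copy by helper74). -/

set_option autoImplicit false

namespace Cfsg.Agent.Lib.helper99.HCI

theorem h74_hci_arith (q d r : ℕ) [Fact r.Prime] (hq : 2 ≤ q) (hd : 1 ≤ d) (hr2 : r ≠ 2)
    (hrq : ¬ r ∣ q) (hi : orderOf ((q : ℕ) : ZMod r) % 4 = 0) (cardO cardI n1 n0 e : ℕ)
    (he : (e = q ^ d - 1 ∧ n0 = q ^ (2 * d - 1) + q ^ d - q ^ (d - 1)) ∨
      (e = q ^ d + 1 ∧ n0 = q ^ (2 * d - 1) + q ^ (d - 1) - q ^ d))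
    (hO : cardO = 2 * q ^ (d * (d - 1)) * e *
      ∏ j ∈ Finset.range (d - 1), (q ^ (2 * (j + 1)) - 1))
    (hlb : (∑ t ∈ (Finset.range d).filter (fun t => orderOf ((q ^ 2 : ℕ) : ZMod r) ∣ t),
          padicValNat r ((q ^ 2) ^ t - 1)) +
        (if orderOf ((q ^ 2 : ℕ) : ZMod r) ∣ d ∧ r ∣ n1 then padicValNat r ((q ^ 2) ^ d - 1)
          else 0) ≤ padicValNat r cardI)
    (hn : Even d → q * (q - 1) * n1 + n0 = q ^ (2 * d)) :
    padicValNat r cardO ≤ padicValNat r cardI := by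
  have hr : r.Prime := Fact.out
  obtain ⟨m, hm⟩ : ∃ m, m = orderOf ((q ^ 2 : ℕ) : ZMod r) := ⟨_, rfl⟩
  rw [← hm] at hlb
  have hq0 : 0 < q := by omega
  have hq1 : ∀ t : ℕ, 1 ≤ (q ^ 2) ^ t := fun t => Nat.one_le_pow _ _ (by positivity)
  have hdiv : ∀ t : ℕ, r ∣ (q ^ 2) ^ t - 1 ↔ m ∣ t := by
    intro t
    rw [hm, orderOf_dvd_iff_pow_eq_one, ← ZMod.natCast_eq_zero_iff, Nat.cast_sub (hq1 t)]
    push_cast
    rw [sub_eq_zero]
  have hg0 : ∀ t, ¬ m ∣ t → padicValNat r ((q ^ 2) ^ t - 1) = 0 := fun t h =>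
    padicValNat.eq_zero_of_not_dvd (fun h' => h ((hdiv t).1 h'))
  have hmeven : 2 ∣ m := by
    have h1 : ((q : ℕ) : ZMod r) ^ (2 * m) = 1 := by
      have h0 := pow_orderOf_eq_one ((q ^ 2 : ℕ) : ZMod r)
      rw [← hm] at h0
      rw [pow_mul]
      push_cast at h0
      exact h0
    have h2 : orderOf ((q : ℕ) : ZMod r) ∣ 2 * m := orderOf_dvd_of_pow_eq_one h1
    have h4 : 4 ∣ orderOf ((q : ℕ) : ZMod r) := Nat.dvd_of_mod_eq_zero hi
    have h3 : 4 ∣ 2 * m := dvd_trans h4 h2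
    omega
  obtain ⟨k, rfl⟩ : ∃ k, d = k + 1 := ⟨d - 1, by omega⟩
  simp only [Nat.add_sub_cancel] at hO he
  obtain ⟨a, ha⟩ : ∃ a, a = q ^ k := ⟨_, rfl⟩
  have ha0 : 0 < a := by rw [ha]; exact pow_pos hq0 k
  have hqd : q ^ (k + 1) = q * a := by rw [ha, pow_succ']
  have h2d1 : q ^ (2 * (k + 1) - 1) = q * a * a := by
    have h1 : 2 * (k + 1) - 1 = k + k + 1 := by omega
    rw [h1, ha]; ring
  have h2d : q ^ (2 * (k + 1)) = (q * a) * (q * a) := by
    rw [← hqd, ← pow_add]; congr 1; omega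
  have hqa : 2 ≤ q * a := le_trans hq (Nat.le_mul_of_pos_right q ha0)
  have he0 : e ≠ 0 := by
    rcases he with ⟨h, _⟩ | ⟨h, _⟩ <;> rw [h, hqd] <;> omega
  have hN : (q ^ 2) ^ (k + 1) = (q * a - 1) * (q * a + 1) + 1 := by
    obtain ⟨x, hx⟩ : ∃ x, q * a = x + 1 := ⟨q * a - 1, by omega⟩
    rw [← pow_mul, h2d, hx, Nat.add_sub_cancel]; ring
  have hN0 : (q ^ 2) ^ (k + 1) - 1 ≠ 0 := by
    have := hq1 (k + 1)
    have h3 : 1 ≤ (q * a - 1) * (q * a + 1) := Nat.mul_pos (by omega) (by omega)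
    omega
  have hedvd : e ∣ (q ^ 2) ^ (k + 1) - 1 := by
    have h1 : (q ^ 2) ^ (k + 1) - 1 = (q * a - 1) * (q * a + 1) := by omega
    rw [h1]
    rcases he with ⟨h, _⟩ | ⟨h, _⟩ <;> rw [h, hqd]
    · exact dvd_mul_right _ _
    · exact dvd_mul_left _ _
  have hn1 : Even (k + 1) → r ∣ e → r ∣ n1 := by
    intro hev hre
    have h := hn hev
    obtain ⟨u, hu⟩ : ∃ u, q = u + 1 := ⟨q - 1, by omega⟩
    have hu0 : 0 < u := by omega
    have key : u * (q * n1) = u * (a * e) := by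
      rw [h2d] at h
      have hq' : q - 1 = u := by omega
      rw [hq'] at h
      rcases he with ⟨h1, h2⟩ | ⟨h1, h2⟩
      · rw [hqd] at h1 h2
        rw [h2d1] at h2
        have E1 : e + 1 = q * a := by omega
        have hle : a ≤ q * a := Nat.le_mul_of_pos_left a hq0
        have E2 : n0 + a = q * a * a + q * a := by omega
        have E1z : (e : ℤ) + 1 = q * a := by exact_mod_cast E1
        have E2z : (n0 : ℤ) + a = q * a * a + q * a := by exact_mod_cast E2
        have E3z : (q : ℤ) * u * n1 + n0 = (q * a) * (q * a) := by exact_mod_cast h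
        have hqz : (q : ℤ) = u + 1 := by exact_mod_cast hu
        have : (u : ℤ) * (q * n1) = u * (a * e) := by
          rw [hqz] at E1z E2z E3z ⊢
          linear_combination E3z - E2z - (u : ℤ) * a * E1z
        exact_mod_cast this
      · rw [hqd] at h1 h2
        rw [h2d1] at h2
        have hle : q * a ≤ q * a * a + a := by
          have : q * a ≤ q * a * a := Nat.le_mul_of_pos_right _ ha0
          omega
        have E2 : n0 + q * a = q * a * a + a := by omega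
        have E1z : (e : ℤ) = q * a + 1 := by exact_mod_cast h1
        have E2z : (n0 : ℤ) + q * a = q * a * a + a := by exact_mod_cast E2
        have E3z : (q : ℤ) * u * n1 + n0 = (q * a) * (q * a) := by exact_mod_cast h
        have hqz : (q : ℤ) = u + 1 := by exact_mod_cast hu
        have : (u : ℤ) * (q * n1) = u * (a * e) := by
          rw [hqz] at E1z E2z E3z ⊢
          linear_combination E3z - E2z - (u : ℤ) * a * E1z
        exact_mod_cast this
    have key2 : q * n1 = a * e := Nat.eq_of_mul_eq_mul_left hu0 key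
    have h5 : r ∣ q * n1 := by rw [key2]; exact Dvd.dvd.mul_left hre a
    exact (hr.dvd_mul.1 h5).resolve_left hrq
  -- the valuation of `cardO`
  have hfac : ∀ j : ℕ, q ^ (2 * (j + 1)) - 1 ≠ 0 := by
    intro j
    have : 2 ≤ q ^ (2 * (j + 1)) := le_trans hq (Nat.le_self_pow (by omega) q)
    omega
  have hprod_ne : ∀ n : ℕ, ∏ j ∈ Finset.range n, (q ^ (2 * (j + 1)) - 1) ≠ 0 := by
    intro n
    rw [Finset.prod_ne_zero_iff]
    intro j _
    exact hfac j
  have hvprod : ∀ n : ℕ, padicValNat r (∏ j ∈ Finset.range n, (q ^ (2 * (j + 1)) - 1)) =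
      ∑ j ∈ Finset.range n, padicValNat r ((q ^ 2) ^ (j + 1) - 1) := by
    intro n
    induction n with
    | zero => simp
    | succ n ih =>
      rw [Finset.prod_range_succ, Finset.sum_range_succ, padicValNat.mul (hprod_ne n) (hfac n),
        ih, pow_mul]
  have hv2 : padicValNat r 2 = 0 :=
    padicValNat.eq_zero_of_not_dvd (fun h => hr2 ((Nat.prime_dvd_prime_iff_eq hr Nat.prime_two).1 h))
  have hvq : padicValNat r (q ^ ((k + 1) * k)) = 0 :=
    padicValNat.eq_zero_of_not_dvd (fun h => hrq (hr.dvd_of_dvd_pow h))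
  have hqk0 : q ^ ((k + 1) * k) ≠ 0 := (pow_pos hq0 _).ne'
  have hvO : padicValNat r cardO = padicValNat r e +
      ∑ j ∈ Finset.range k, padicValNat r ((q ^ 2) ^ (j + 1) - 1) := by
    rw [hO, padicValNat.mul (mul_ne_zero (mul_ne_zero (by norm_num) hqk0) he0) (hprod_ne k),
      padicValNat.mul (mul_ne_zero (by norm_num) hqk0) he0,
      padicValNat.mul (by norm_num) hqk0, hv2, hvq, hvprod k]
    ring
  have hsum : ∑ j ∈ Finset.range k, padicValNat r ((q ^ 2) ^ (j + 1) - 1) =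
      ∑ t ∈ (Finset.range (k + 1)).filter (fun t => m ∣ t), padicValNat r ((q ^ 2) ^ t - 1) := by
    rw [Finset.sum_filter]
    have h1 : ∑ t ∈ Finset.range (k + 1), (if m ∣ t then padicValNat r ((q ^ 2) ^ t - 1) else 0) =
        ∑ t ∈ Finset.range (k + 1), padicValNat r ((q ^ 2) ^ t - 1) := by
      apply Finset.sum_congr rfl
      intro t _
      split_ifs with h
      · rfl
      · exact (hg0 t h).symm
    rw [h1, Finset.sum_range_succ']
    simp
  rw [hvO, hsum]
  by_cases hre : r ∣ e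
  · have hmd : m ∣ (k + 1) := (hdiv (k + 1)).1 (dvd_trans hre hedvd)
    have hev : Even (k + 1) := (even_iff_two_dvd).2 (dvd_trans hmeven hmd)
    have hrn1 := hn1 hev hre
    rw [if_pos ⟨hmd, hrn1⟩] at hlb
    have hle : padicValNat r e ≤ padicValNat r ((q ^ 2) ^ (k + 1) - 1) :=
      (padicValNat_dvd_iff_le hN0).1 (dvd_trans pow_padicValNat_dvd hedvd)
    omega
  · have h0 : padicValNat r e = 0 := padicValNat.eq_zero_of_not_dvd hre
    have h1 : 0 ≤ (if m ∣ k + 1 ∧ r ∣ n1 then padicValNat r ((q ^ 2) ^ (k + 1) - 1) else 0) :=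
      Nat.zero_le _
    omega

end Cfsg.Agent.Lib.helper99.HCI
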