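import Mathlib

/-!
# The averaging lemma behind the Hughes--Thompson--Kegel theorem

`hk_avg_abstract`: let a group `K` act by automorphisms `c g` on a commutative group `W`, let `Q`
be a finite subgroup of `K` normalized by `y`, and let `p = m + 1` be a prime. Suppose every element
`z = y g` of the coset `y Q` satisfies `z ^ p = 1` and the "splitting" identity
`∏_{i < p} c (z ^ (i + 1)) w = 1` on `W`. Then `∏_{g ∈ Q} c g w = w ^ |Q|` for all `w`.
-/

namespace Cfsg.Agent.Lib.helper74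

theorem eq_of_pow_eq_of_coprime {K : Type*} [Monoid K] {z z' : K} {p j : ℕ} (hp : 1 < p)
    (hz : z ^ p = 1) (hz' : z' ^ p = 1) (h : z ^ j = z' ^ j) (hcop : Nat.Coprime j p) : z = z' := by
  obtain ⟨a, -, ha⟩ := Nat.exists_mul_mod_eq_one_of_coprime hcop hp
  have key : ∀ u : K, u ^ p = 1 → u = (u ^ j) ^ a := fun u hu => by
    rw [← pow_mul, pow_eq_pow_mod (j * a) hu, ha, pow_one]
  rw [key z hz, key z' hz', h]

theorem hk_avg_abstract {K W : Type*} [Group K] [CommGroup W] (c : K → W →* W)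
    (hc1 : ∀ w, c 1 w = w) (hcm : ∀ g h w, c (g * h) w = c g (c h w))
    {m : ℕ} (hp : (m + 1).Prime)
    (Q : Subgroup K) [Fintype Q] (y : K) (hyQ : ∀ g ∈ Q, y⁻¹ * g * y ∈ Q)
    (hz1 : ∀ g ∈ Q, (y * g) ^ (m + 1) = 1)
    (hz2 : ∀ g ∈ Q, ∀ w : W, ∏ i ∈ Finset.range (m + 1), c ((y * g) ^ (i + 1)) w = 1)
    (w : W) : ∏ g : Q, c (g : K) w = w ^ Fintype.card Q := by
  have hmem : ∀ (j : ℕ) (g : K), g ∈ Q → (y ^ j)⁻¹ * (y * g) ^ j ∈ Q := by
    intro j g hg
    induction j with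
    | zero => simp
    | succ j ih =>
      have e : (y ^ (j + 1))⁻¹ * (y * g) ^ (j + 1)
          = y⁻¹ * ((y ^ j)⁻¹ * (y * g) ^ j) * y * g := by
        rw [pow_succ, pow_succ]; group
      rw [e]
      exact Q.mul_mem (hyQ _ ih) hg
  have stepA : ∀ j, 0 < j → j < m + 1 → ∀ w : W,
      ∏ g : Q, c ((y * (g : K)) ^ j) w = c (y ^ j) (∏ g : Q, c (g : K) w) := by
    intro j hj0 hjp w
    let φ : Q → Q := fun g => ⟨(y ^ j)⁻¹ * (y * (g : K)) ^ j, hmem j g g.2⟩
    have hφinj : Function.Injective φ := by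
      intro g g' hgg
      have h1 : (y * (g : K)) ^ j = (y * (g' : K)) ^ j := by
        have h0 : (y ^ j)⁻¹ * (y * (g : K)) ^ j = (y ^ j)⁻¹ * (y * (g' : K)) ^ j :=
          congrArg Subtype.val hgg
        exact mul_left_cancel h0
      have hcop : Nat.Coprime j (m + 1) :=
        ((Nat.Prime.coprime_iff_not_dvd hp).mpr (Nat.not_dvd_of_pos_of_lt hj0 hjp)).symm
      have h2 := eq_of_pow_eq_of_coprime hp.one_lt (hz1 g g.2) (hz1 g' g'.2) h1 hcop
      exact Subtype.ext (mul_left_cancel h2)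
    have hφbij : Function.Bijective φ := Finite.injective_iff_bijective.mp hφinj
    rw [map_prod]
    refine Fintype.prod_bijective φ hφbij _ _ (fun g => ?_)
    rw [← hcm]
    have e : (y * (g : K)) ^ j = y ^ j * ((φ g : Q) : K) := by
      show (y * (g : K)) ^ j = y ^ j * ((y ^ j)⁻¹ * (y * (g : K)) ^ j)
      group
    rw [e]
  have h1 : ∏ g : Q, ∏ i ∈ Finset.range (m + 1), c ((y * (g : K)) ^ (i + 1)) w = 1 :=
    Finset.prod_eq_one (fun g _ => hz2 g g.2 w)
  rw [Finset.prod_comm, Finset.prod_range_succ] at h1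
  have h2 : ∏ g : Q, c ((y * (g : K)) ^ (m + 1)) w = w ^ Fintype.card Q := by
    rw [Finset.prod_congr rfl (fun g _ => by rw [hz1 g g.2, hc1]), Finset.prod_const,
      Finset.card_univ]
  have h3 : ∏ i ∈ Finset.range m, ∏ g : Q, c ((y * (g : K)) ^ (i + 1)) w
      = ∏ i ∈ Finset.range m, c (y ^ (i + 1)) (∏ g : Q, c (g : K) w) :=
    Finset.prod_congr rfl (fun i hi =>
      stepA (i + 1) (Nat.succ_pos i) (by have := Finset.mem_range.mp hi; omega) w)
  rw [h2, h3] at h1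
  have h4 := hz2 1 Q.one_mem (∏ g : Q, c (g : K) w)
  have hy : y ^ (m + 1) = 1 := by simpa using hz1 1 Q.one_mem
  rw [mul_one, Finset.prod_range_succ, hy, hc1] at h4
  exact mul_left_cancel (h4.trans h1.symm)

end Cfsg.Agent.Lib.helper74
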