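import Mathlib
import Cfsg.Agent.Lib.helper74.HughesAvg
import Cfsg.Agent.Lib.lead.ThompsonPC
import Cfsg.Agent.Lib.helper4.BurnsidePQ
import Cfsg.Agent.Lib.helper65.MinNormal
import Cfsg.Agent.Lib.helper27.Radical
import Cfsg.Agent.Lib.helper40.Cores

/-!
# The Hughes--Thompson--Kegel theorem

Let `H` be a proper normal subgroup of the finite group `G` such that every element outside `H`
has order dividing the prime `p`. Then `H` is nilpotent (`hk_nilpotent`), and if `G` is not a
`p`-group then `H` has index `p` (`hk_index`).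
-/

namespace Cfsg.Agent.Lib.helper74

universe u

open Cfsg Cfsg.Agent.Lib.lead

/-- Conjugation by `g` as an endomorphism of a normal subgroup. -/
def conjHomN {G : Type*} [Group G] (V : Subgroup G) [hV : V.Normal] (g : G) : V →* V where
  toFun w := ⟨g * w.1 * g⁻¹, hV.conj_mem w.1 w.2 g⟩
  map_one' := Subtype.ext (by simp)
  map_mul' a b := Subtype.ext (by simp [mul_assoc])

open scoped IsMulCommutative in
/-- **The averaging lemma.** Let every element outside `H` have order dividing `p`. If `y`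
normalizes the finite subgroup `Q`, the coset `y Q` avoids `H`, and `V ≤ H` is an abelian normal
subgroup of order prime to `|Q|`, then `Q` centralizes `V`. -/
theorem hk_centralizes {G : Type*} [Group G] {p : ℕ} (hp : p.Prime) (H : Subgroup G)
    (hout : ∀ g : G, g ∉ H → g ^ p = 1) (Q V : Subgroup G) [Finite Q] [Finite V] [hV : V.Normal]
    (hVH : V ≤ H) (hVc : ∀ a ∈ V, ∀ b ∈ V, a * b = b * a) (y : G)
    (hyQ : y ∈ Subgroup.normalizer (Q : Set G)) (hyQH : ∀ g ∈ Q, y * g ∉ H)
    (hcop : (Nat.card Q).Coprime (Nat.card V)) :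
    ∀ g ∈ Q, ∀ v ∈ V, g * v = v * g := by
  have : IsMulCommutative V := ⟨⟨fun a b => Subtype.ext (hVc a.1 a.2 b.1 b.2)⟩⟩
  obtain ⟨m, rfl⟩ : ∃ m, p = m + 1 := ⟨p - 1, by have := hp.pos; omega⟩
  have : Fintype Q := Fintype.ofFinite Q
  have hexp : ∀ (z : G) (w : V) (n : ℕ), (z * (w : G)) ^ n
      = ((∏ i ∈ Finset.range n, conjHomN V (z ^ (i + 1)) w : V) : G) * z ^ n := by
    intro z w n
    induction n with
    | zero => simp
    | succ n ih =>
      rw [pow_succ, ih, Finset.prod_range_succ, Subgroup.coe_mul]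
      show _ * z ^ n * (z * w) = _ * (z ^ (n + 1) * w * (z ^ (n + 1))⁻¹) * z ^ (n + 1)
      rw [pow_succ]; group
  have hsplit : ∀ z : G, z ∉ H → ∀ w : V,
      ∏ i ∈ Finset.range (m + 1), conjHomN V (z ^ (i + 1)) w = 1 := by
    intro z hz w
    have h1 : (z * (w : G)) ^ (m + 1) = 1 := hout _ (fun hmem => hz (by
      have := H.mul_mem hmem (H.inv_mem (hVH w.2))
      simpa using this))
    have h2 := hexp z w (m + 1)
    rw [h1, hout z hz, mul_one] at h2
    exact Subtype.ext h2.symm
  have key := fun w => hk_avg_abstract (fun g => conjHomN V g)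
    (fun w => by apply Subtype.ext; simp [conjHomN])
    (fun g h w => by apply Subtype.ext; simp [conjHomN, mul_assoc]) hp Q y
    (fun g hg => (Subgroup.mem_normalizer_iff''.mp hyQ g).mp hg)
    (fun g hg => hout _ (hyQH g hg)) (fun g hg w => hsplit _ (hyQH g hg) w) w
  intro h hh v hv
  have hinv : conjHomN V h (∏ g : Q, conjHomN V (g : G) ⟨v, hv⟩)
      = ∏ g : Q, conjHomN V (g : G) ⟨v, hv⟩ := by
    rw [map_prod]
    exact Fintype.prod_bijective (fun g : Q => (⟨h, hh⟩ : Q) * g) (Group.mulLeft_bijective _) _ _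
      (fun g => by apply Subtype.ext; simp [conjHomN, mul_assoc])
  rw [key, map_pow] at hinv
  have h5 : (conjHomN V h ⟨v, hv⟩ * (⟨v, hv⟩ : V)⁻¹) ^ Fintype.card Q = 1 := by
    rw [mul_pow, hinv, inv_pow, mul_inv_cancel]
  have h6 : conjHomN V h ⟨v, hv⟩ * (⟨v, hv⟩ : V)⁻¹ = 1 := by
    have hd1 : orderOf (conjHomN V h ⟨v, hv⟩ * (⟨v, hv⟩ : V)⁻¹) ∣ Fintype.card Q :=
      orderOf_dvd_of_pow_eq_one h5
    have hd2 : orderOf (conjHomN V h ⟨v, hv⟩ * (⟨v, hv⟩ : V)⁻¹) ∣ Nat.card V :=
      orderOf_dvd_natCard _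
    rw [← Nat.card_eq_fintype_card] at hd1
    exact orderOf_eq_one_iff.mp (Nat.eq_one_of_dvd_coprimes hcop hd1 hd2)
  have h7 : conjHomN V h ⟨v, hv⟩ = ⟨v, hv⟩ := by rwa [mul_inv_eq_one] at h6
  have h8 : h * v * h⁻¹ = v := congrArg Subtype.val h7
  calc h * v = (h * v * h⁻¹) * h := by group
    _ = v * h := by rw [h8]

theorem orderOf_conj_eq {G : Type*} [Group G] (g x : G) : orderOf (g * x * g⁻¹) = orderOf x := by
  have := orderOf_injective (MulAut.conj g).toMonoidHom (MulAut.conj g).injective x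
  simpa [MulAut.conj_apply] using this

/-- In a finite nilpotent group the `q'`-elements are closed under multiplication. -/
theorem PN_top_of_isNilpotent {X : Type*} [Group X] [Finite X] [hX : Group.IsNilpotent X] (q : ℕ)
    [Fact q.Prime] : PN q (⊤ : Subgroup X) := by
  obtain ⟨S⟩ : Nonempty (Sylow q X) := inferInstance
  have hS' : (Nat.card (pPrimeCore q X)).Coprime q := Cfsg.Agent.Lib.helper27.pPrimeCore_coprime q
  have htop : (S : Subgroup X) ⊔ pPrimeCore q X = ⊤ := by
    rw [← Subgroup.index_eq_one, Nat.eq_one_iff_not_exists_prime_dvd]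
    intro r hr hdvd
    have : Fact r.Prime := ⟨hr⟩
    by_cases hrp : r = q
    · subst hrp
      exact S.not_dvd_index (dvd_trans hdvd (Subgroup.index_dvd_of_le le_sup_left))
    · obtain ⟨R⟩ : Nonempty (Sylow r X) := inferInstance
      have hR : (R : Subgroup X) ≤ (S : Subgroup X) ⊔ pPrimeCore q X := by
        apply le_sup_of_le_right
        apply Cfsg.Agent.Lib.helper27.normal_coprime_le_pPrimeCore
        obtain ⟨n, hn⟩ := (IsPGroup.iff_card.mp R.isPGroup')
        rw [hn]
        apply Nat.Coprime.pow_left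
        exact (Nat.coprime_primes hr (Fact.out : q.Prime)).mpr hrp
      exact R.not_dvd_index (dvd_trans hdvd (Subgroup.index_dvd_of_le hR))
  have hmem : ∀ x : X, (orderOf x).Coprime q → x ∈ pPrimeCore q X := by
    intro x hx
    have hx' : x ∈ (((S : Subgroup X) ⊔ pPrimeCore q X : Subgroup X) : Set X) := by
      rw [htop]; trivial
    rw [Subgroup.mul_normal] at hx'
    obtain ⟨s, hs, t, ht, rfl⟩ := Set.mem_mul.mp hx'
    obtain ⟨k, hk⟩ := S.isPGroup' ⟨s, hs⟩
    have hk' : s ^ q ^ k = 1 := by simpa using congrArg Subtype.val hk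
    have h1 : ((s * t : X) : X ⧸ pPrimeCore q X) ^ q ^ k = 1 := by
      rw [QuotientGroup.mk_mul, (QuotientGroup.eq_one_iff t).mpr ht, mul_one,
        ← QuotientGroup.mk_pow, hk']
      rfl
    have h2 : (orderOf ((s * t : X) : X ⧸ pPrimeCore q X)).Coprime q :=
      Nat.Coprime.coprime_dvd_left (orderOf_map_dvd (QuotientGroup.mk' (pPrimeCore q X)) (s * t)) hx
    exact (QuotientGroup.eq_one_iff _).mp (eq_one_of_pow_of_coprime h1 h2)
  intro x _ y _ hx hy
  have hxy : x * y ∈ pPrimeCore q X := mul_mem (hmem x hx) (hmem y hy)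
  exact Nat.Coprime.coprime_dvd_left (Subgroup.orderOf_dvd_natCard _ hxy) hS'

/-- A finite group whose order involves at most two primes is soluble (Burnside). -/
theorem isSolvable_of_two_primes {X : Type u} [Group X] [Finite X] (p q : ℕ) (hp : p.Prime)
    (hq : q.Prime) (h : ∀ r : ℕ, r.Prime → r ∣ Nat.card X → r = p ∨ r = q) :
    Group.IsSolvable X := by
  obtain ⟨a, m, hm, hcard⟩ :=
    Nat.exists_eq_pow_mul_and_not_dvd (Nat.card_pos (α := X)).ne' p hp.ne_one
  have hm0 : m ≠ 0 := by rintro rfl; exact hm (dvd_zero p)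
  have hm3 : m = q ^ m.primeFactorsList.length := Nat.eq_prime_pow_of_unique_prime_dvd hm0 (by
    intro d hd hdm
    rcases h d hd (hcard ▸ Dvd.dvd.mul_left hdm _) with h2 | h3
    · exact absurd (h2 ▸ hdm) hm
    · exact h3)
  rw [hm3] at hcard
  exact Cfsg.Agent.Lib.helper4.isSolvable_of_card_eq_prime_pow_mul_prime_pow p q a _ hp hq hcard

/-- `H` is soluble if a normal subgroup `U ≤ H` and the image of `H` modulo `U` are. -/
theorem isSolvable_of_normal_le {G : Type*} [Group G] (H U : Subgroup G) [U.Normal] (hUH : U ≤ H)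
    (hU : Group.IsSolvable U) (hQ : Group.IsSolvable (H.map (QuotientGroup.mk' U))) :
    Group.IsSolvable H := by
  refine Group.isSolvable_of_ker_le_range (Subgroup.inclusion hUH) ((QuotientGroup.mk' U).subgroupMap H) ?_
  intro x hx
  rw [MonoidHom.mem_ker] at hx
  have h1 : QuotientGroup.mk' U (x : G) = 1 := congrArg Subtype.val hx
  have h2 : (x : G) ∈ U := (QuotientGroup.eq_one_iff _).mp h1
  exact ⟨⟨x, h2⟩, Subtype.ext rfl⟩

theorem normalizer_le_normalizer_inf_centralizer {G : Type*} [Group G] (Q : Subgroup G) :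
    Subgroup.normalizer (Q : Set G)
      ≤ Subgroup.normalizer ((Q ⊓ Subgroup.centralizer (Q : Set G) : Subgroup G) : Set G) := by
  intro g hg
  rw [Subgroup.mem_normalizer_iff] at hg ⊢
  intro x
  rw [Subgroup.mem_inf, Subgroup.mem_inf]
  constructor
  · rintro ⟨hx1, hx2⟩
    refine ⟨(hg x).mp hx1, ?_⟩
    rw [Subgroup.mem_centralizer_iff] at hx2 ⊢
    intro u hu
    have h1 : g⁻¹ * u * g ∈ Q := by
      refine (hg (g⁻¹ * u * g)).mpr ?_
      have e : g * (g⁻¹ * u * g) * g⁻¹ = u := by group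
      rw [e]; exact hu
    have h2 := hx2 _ h1
    calc u * (g * x * g⁻¹) = g * ((g⁻¹ * u * g) * x) * g⁻¹ := by group
      _ = g * (x * (g⁻¹ * u * g)) * g⁻¹ := by rw [h2]
      _ = g * x * g⁻¹ * u := by group
  · rintro ⟨hx1, hx2⟩
    refine ⟨(hg x).mpr hx1, ?_⟩
    rw [Subgroup.mem_centralizer_iff] at hx2 ⊢
    intro u hu
    have h1 : g * u * g⁻¹ ∈ Q := (hg u).mp hu
    have h2 := hx2 _ h1
    calc u * x = g⁻¹ * ((g * u * g⁻¹) * (g * x * g⁻¹)) * g := by group
      _ = g⁻¹ * ((g * x * g⁻¹) * (g * u * g⁻¹)) * g := by rw [h2]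
      _ = x * u := by group

/-- The subgroup of `q'`-elements of `H`, when these are closed under multiplication. -/
def ppSubOf {G : Type*} [Group G] (q : ℕ) (H : Subgroup G) (h : PN q H) : Subgroup G where
  carrier := {x | x ∈ H ∧ (orderOf x).Coprime q}
  one_mem' := ⟨H.one_mem, by simp⟩
  mul_mem' := fun {a b} ha hb => ⟨H.mul_mem ha.1 hb.1, h a ha.1 b hb.1 ha.2 hb.2⟩
  inv_mem' := fun {a} ha => ⟨H.inv_mem ha.1, by rw [orderOf_inv]; exact ha.2⟩

theorem mem_ppSubOf {G : Type*} [Group G] {q : ℕ} {H : Subgroup G} (h : PN q H) (x : G) :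
    x ∈ ppSubOf q H h ↔ x ∈ H ∧ (orderOf x).Coprime q := Iff.rfl

theorem ppSubOf_le {G : Type*} [Group G] {q : ℕ} {H : Subgroup G} (h : PN q H) :
    ppSubOf q H h ≤ H := fun _ hx => hx.1

theorem ppSubOf_normal {G : Type*} [Group G] {q : ℕ} {H : Subgroup G} [hH : H.Normal]
    (h : PN q H) : (ppSubOf q H h).Normal :=
  ⟨fun x hx g => ⟨hH.conj_mem x hx.1 g, by rw [orderOf_conj_eq]; exact hx.2⟩⟩

theorem ppSubOf_card {G : Type*} [Group G] [Finite G] {q : ℕ} [hq : Fact q.Prime] {H : Subgroup G}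
    (h : PN q H) : ¬ q ∣ Nat.card (ppSubOf q H h) := by
  intro hd
  obtain ⟨x, hx⟩ := exists_prime_orderOf_dvd_card' q hd
  have h1 : (orderOf (x : G)).Coprime q := x.2.2
  rw [Subgroup.orderOf_coe, hx] at h1
  exact hq.out.one_lt.ne' ((Nat.coprime_self q).mp h1)

/-- Elements outside `H` normalizing a given Sylow subgroup of `H` (Frattini). -/
theorem exists_normalizer_not_mem {G : Type*} [Group G] [Finite G] (H : Subgroup G) [H.Normal]
    (hH : H ≠ ⊤) {q : ℕ} [Fact q.Prime] (S : Sylow q H) :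
    ∃ y : G, y ∈ Subgroup.normalizer (((S : Subgroup H).map H.subtype : Subgroup G) : Set G)
      ∧ y ∉ H := by
  have hfrat := Sylow.normalizer_sup_eq_top S
  by_contra hcon
  push Not at hcon
  apply hH
  rw [← hfrat]
  exact (sup_eq_right.mpr (fun y hy => hcon y hy)).symm

theorem hk_nilpotent_aux (p : ℕ) [hp : Fact p.Prime] :
    ∀ (n : ℕ) (G : Type u) [Group G] [Finite G] (H : Subgroup G), H.Normal → Nat.card G = n →
    H ≠ ⊤ → (∀ g : G, g ∉ H → g ^ p = 1) → Group.IsNilpotent H := by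
  intro n
  induction n using Nat.strong_induction_on with
  | _ n ih =>
  intro G _ _ H hHn hn hH hout
  have IHsub : ∀ K : Subgroup G, K ≠ ⊤ → ¬ K ≤ H → Group.IsNilpotent (H.subgroupOf K) := by
    intro K hK hKH
    refine ih (Nat.card K) (by rw [← hn]; exact card_lt_of_ne_top K hK) K (H.subgroupOf K)
      inferInstance rfl ?_ ?_
    · rwa [Ne, Subgroup.subgroupOf_eq_top]
    · intro g hg
      apply Subtype.ext
      rw [Subgroup.coe_pow, Subgroup.coe_one]
      exact hout g.1 (fun h' => hg (Subgroup.mem_subgroupOf.mpr h'))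
  have IHquot : ∀ (U : Subgroup G) [U.Normal], U ≤ H → U ≠ ⊥ →
      Group.IsNilpotent (H.map (QuotientGroup.mk' U)) := by
    intro U hUn hUH hU
    refine ih (Nat.card (G ⧸ U)) (by rw [← hn]; exact card_quot_lt U hU) (G ⧸ U)
      (H.map (QuotientGroup.mk' U)) (Subgroup.Normal.map hHn _ (QuotientGroup.mk'_surjective U))
      rfl ?_ ?_
    · intro htop
      apply hH
      have h1 := congrArg (Subgroup.comap (QuotientGroup.mk' U)) htop
      rwa [Subgroup.comap_map_eq, QuotientGroup.ker_mk', sup_eq_left.mpr hUH,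
        Subgroup.comap_top] at h1
    · intro g' hg'
      obtain ⟨g, rfl⟩ := QuotientGroup.mk'_surjective U g'
      rw [← map_pow, hout g (fun hg => hg' (Subgroup.mem_map_of_mem _ hg)), map_one]
  -- Step 1: `H` is soluble
  have hsolv : Group.IsSolvable H := by
    by_cases hodd : ∃ q : ℕ, q.Prime ∧ q ≠ 2 ∧ q ≠ p ∧ q ∣ Nat.card H
    · obtain ⟨q, hq, hq2, hqp, hqH⟩ := hodd
      have : Fact q.Prime := ⟨hq⟩
      obtain ⟨Q⟩ : Nonempty (Sylow q G) := inferInstance
      have hQH : (Q : Subgroup G) ≤ H := by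
        intro x hx
        by_contra hxH
        have h1 := hout x hxH
        obtain ⟨k, hk⟩ := Q.isPGroup' ⟨x, hx⟩
        have hk' : x ^ q ^ k = 1 := by simpa using congrArg Subtype.val hk
        have h2 := pow_gcd_eq_one.mpr ⟨h1, hk'⟩
        have h3 : Nat.gcd p (q ^ k) = 1 :=
          Nat.Coprime.pow_right k ((Nat.coprime_primes hp.out hq).mpr (Ne.symm hqp))
        rw [h3, pow_one] at h2
        exact hxH (h2 ▸ H.one_mem)
      have hQne : (Q : Subgroup G) ≠ ⊥ :=
        Sylow.ne_bot_of_dvd_card Q (dvd_trans hqH (Subgroup.card_subgroup_dvd_card H))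
      have hfrat : Subgroup.normalizer ((Q : Subgroup G) : Set G) ⊔ H = ⊤ :=
        Sylow.normalizer_sup_eq_top' Q hQH
      obtain ⟨y, hyN, hyH⟩ : ∃ y, y ∈ Subgroup.normalizer ((Q : Subgroup G) : Set G) ∧ y ∉ H := by
        by_contra hcon
        push Not at hcon
        apply hH
        rw [← hfrat]
        exact (sup_eq_right.mpr (fun y hy => hcon y hy)).symm
      have hcaseU : ∀ U : Subgroup G, U.Normal → U ≤ H → U ≠ ⊥ → IsPGroup q U →
          Group.IsSolvable H := by
        intro U hUn hUH hU hUq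
        have h1 : Group.IsNilpotent (H.map (QuotientGroup.mk' U)) := IHquot U hUH hU
        have h2 : Group.IsNilpotent U := hUq.isNilpotent
        exact isSolvable_of_normal_le H U hUH inferInstance inferInstance
      by_cases hJ : Subgroup.normalizer (thompsonSubgroupOf q (Q : Subgroup G) : Set G) = ⊤
      · exact hcaseU _ (Subgroup.normalizer_eq_top_iff.mp hJ)
          ((Cfsg.Agent.Lib.helper13.thompsonSubgroupOf_le_self _).trans hQH)
          (thompsonSubgroupOf_ne_bot _ Q.isPGroup' hQne)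
          (Q.isPGroup'.to_le (Cfsg.Agent.Lib.helper13.thompsonSubgroupOf_le_self _))
      by_cases hZ : Subgroup.normalizer (((Q : Subgroup G) ⊓
          Subgroup.centralizer ((Q : Subgroup G) : Set G) : Subgroup G) : Set G) = ⊤
      · exact hcaseU _ (Subgroup.normalizer_eq_top_iff.mp hZ) (inf_le_left.trans hQH)
          (inf_centralizer_ne_bot _ Q.isPGroup' hQne) (Q.isPGroup'.to_le inf_le_left)
      have hyJ : y ∈ Subgroup.normalizer (thompsonSubgroupOf q (Q : Subgroup G) : Set G) :=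
        Cfsg.Agent.Lib.helper13.normalizer_le_normalizer_thompsonSubgroupOf q _ hyN
      have hyZ : y ∈ Subgroup.normalizer (((Q : Subgroup G) ⊓
          Subgroup.centralizer ((Q : Subgroup G) : Set G) : Subgroup G) : Set G) :=
        normalizer_le_normalizer_inf_centralizer _ hyN
      have hPNof : ∀ K : Subgroup G, K ≠ ⊤ → y ∈ K → PN q (K ⊓ H) := by
        intro K hK hyK
        have h1 := IHsub K hK (fun hle => hyH (hle hyK))
        have h2 : PN q (⊤ : Subgroup (H.subgroupOf K)) := PN_top_of_isNilpotent q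
        rw [PN_top_subtype, PN_subgroupOf] at h2
        rwa [inf_comm] at h2
      have hPNJ := hPNof _ hJ hyJ
      have hPNZ : PN q (Subgroup.centralizer ((((Q : Subgroup G) ⊓
          Subgroup.centralizer ((Q : Subgroup G) : Set G) : Subgroup G)) : Set G) ⊓ H) :=
        (hPNof _ hZ hyZ).mono (inf_le_inf_right _ (Subgroup.centralizer_le_normalizer _))
      have hnd : ¬ q ∣ (Q : Subgroup G).relIndex H := fun hd =>
        Q.not_dvd_index (dvd_trans hd (Subgroup.relIndex_dvd_index_of_le hQH))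
      have hPN : PN q H :=
        thmAt_subgroup H (thmAt_all q hq2 _ H rfl) Q hQH Q.isPGroup' hnd hPNJ hPNZ
      -- the normal `q`-complement
      have hKn : (ppSubOf q H hPN).Normal := ppSubOf_normal hPN
      have hKH : ppSubOf q H hPN ≤ H := ppSubOf_le hPN
      have hKcard : ¬ q ∣ Nat.card (ppSubOf q H hPN) := ppSubOf_card hPN
      have hG₁ : ppSubOf q H hPN ⊔ Subgroup.zpowers y ≠ ⊤ := by
        intro htop
        have h1 : Nat.card ((Subgroup.zpowers y ⊔ ppSubOf q H hPN : Subgroup G))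
            ∣ Nat.card (Subgroup.zpowers y) * Nat.card (ppSubOf q H hPN) :=
          Cfsg.Agent.Lib.helper40.card_sup_dvd_mul _ _
        rw [sup_comm, htop, Subgroup.card_top, Nat.card_zpowers] at h1
        have h2 : q ∣ orderOf y * Nat.card (ppSubOf q H hPN) :=
          dvd_trans (dvd_trans hqH (Subgroup.card_subgroup_dvd_card H)) h1
        rcases (Nat.Prime.dvd_mul hq).mp h2 with h3 | h3
        · have h4 : q ∣ p := dvd_trans h3 (orderOf_dvd_of_pow_eq_one (hout y hyH))
          exact hqp ((Nat.prime_dvd_prime_iff_eq hq hp.out).mp h4)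
        · exact hKcard h3
      have hnilG₁ := IHsub _ hG₁ (fun hle => hyH (hle (Subgroup.mem_sup_right (Subgroup.mem_zpowers y))))
      have hKsolv : Group.IsSolvable (ppSubOf q H hPN) := by
        let f : ppSubOf q H hPN →* H.subgroupOf (ppSubOf q H hPN ⊔ Subgroup.zpowers y) :=
          { toFun := fun x => ⟨⟨x.1, Subgroup.mem_sup_left x.2⟩, x.2.1⟩
            map_one' := rfl
            map_mul' := fun _ _ => rfl }
        have hf : Function.Injective f := by
          intro a b hab
          apply Subtype.ext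
          have h1 := congrArg (fun z : H.subgroupOf (ppSubOf q H hPN ⊔ Subgroup.zpowers y) =>
            ((z.1 : (ppSubOf q H hPN ⊔ Subgroup.zpowers y : Subgroup G)) : G)) hab
          exact h1
        exact Group.isSolvable_of_isSolvable_injective hf
      have hQuot : IsPGroup q (H.map (QuotientGroup.mk' (ppSubOf q H hPN))) := by
        rintro ⟨x', hx'⟩
        obtain ⟨h, hh, rfl⟩ := Subgroup.mem_map.mp hx'
        obtain ⟨k, hk⟩ := exists_pow_coprime q h
        refine ⟨k, ?_⟩
        apply Subtype.ext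
        rw [Subgroup.coe_pow, Subgroup.coe_one]
        show (QuotientGroup.mk' (ppSubOf q H hPN) h) ^ q ^ k = 1
        rw [← map_pow]
        exact (QuotientGroup.eq_one_iff _).mpr ⟨H.pow_mem hh _, hk⟩
      have h2 : Group.IsNilpotent (H.map (QuotientGroup.mk' (ppSubOf q H hPN))) := hQuot.isNilpotent
      exact isSolvable_of_normal_le H _ hKH hKsolv inferInstance
    · push Not at hodd
      exact isSolvable_of_two_primes 2 p Nat.prime_two hp.out (fun r hr hdvd => by
        by_contra hcon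
        push Not at hcon
        exact hodd r hr hcon.1 hcon.2 hdvd)
  -- Step 2: a minimal normal subgroup of `G` inside `H`
  by_cases hHbot : H = ⊥
  · subst hHbot; infer_instance
  obtain ⟨N, ⟨hNn, hNH, hN0⟩, hNmin⟩ := (wellFounded_lt (α := Subgroup G)).has_min
    {L : Subgroup G | L.Normal ∧ L ≤ H ∧ L ≠ ⊥} ⟨H, hHn, le_rfl, hHbot⟩
  have hNmin' : ∀ L : Subgroup G, L.Normal → L ≤ N → L = ⊥ ∨ L = N := by
    intro L hLn hLN
    by_cases hL : L = ⊥
    · exact Or.inl hL
    · exact Or.inr (eq_of_le_of_not_lt hLN (hNmin L ⟨hLn, hLN.trans hNH, hL⟩))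
  have hNsolv : Group.IsSolvable N := Group.isSolvable_of_isSolvable_injective (Subgroup.inclusion_injective hNH)
  obtain ⟨r, hr, hNc, -, hNr⟩ :=
    Cfsg.Agent.Lib.helper65.minNormal_solvable_elementary N hNn hNsolv hN0 hNmin'
  have : Fact r.Prime := ⟨hr⟩
  have hquot : Group.IsNilpotent (H.map (QuotientGroup.mk' N)) := IHquot N hNH hN0
  apply ((Group.isNilpotent_of_finite_tfae (G := H)).out 0 3).mpr
  intro q hqF S
  have hf : Function.Surjective ((QuotientGroup.mk' N).subgroupMap H) :=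
    (QuotientGroup.mk' N).subgroupMap_surjective H
  have hTn : ((S : Subgroup H).map ((QuotientGroup.mk' N).subgroupMap H)).Normal := by
    have hn : ((S.mapSurjective hf : Sylow q (H.map (QuotientGroup.mk' N))) :
        Subgroup (H.map (QuotientGroup.mk' N))).Normal := inferInstance
    exact hn
  have hT : (((S : Subgroup H).map ((QuotientGroup.mk' N).subgroupMap H)).comap
      ((QuotientGroup.mk' N).subgroupMap H)).Normal := hTn.comap _
  rw [Subgroup.comap_map_eq] at hT
  have hker : ((QuotientGroup.mk' N).subgroupMap H).ker = N.subgroupOf H := by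
    ext x
    rw [MonoidHom.mem_ker, Subgroup.mem_subgroupOf]
    constructor
    · intro hx
      have h1 : QuotientGroup.mk' N (x : G) = 1 := congrArg Subtype.val hx
      exact (QuotientGroup.eq_one_iff _).mp h1
    · intro hx
      apply Subtype.ext
      exact (QuotientGroup.eq_one_iff (x : G)).mpr hx
  rw [hker] at hT
  have hkerN : N.subgroupOf H ≤ Subgroup.normalizer ((S : Subgroup H) : Set H) := by
    by_cases hqr : q = r
    · subst hqr
      have hp' : IsPGroup q (N.subgroupOf H) := hNr.comap_subtype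
      exact (hp'.le_sylow_of_normal S).trans Subgroup.le_normalizer
    · obtain ⟨y, hyS, hyH⟩ := exists_normalizer_not_mem H hH S
      have hSq : IsPGroup q ((S : Subgroup H).map H.subtype) := S.isPGroup'.map _
      have hcop : (Nat.card ((S : Subgroup H).map H.subtype)).Coprime (Nat.card N) := by
        obtain ⟨a, ha⟩ := IsPGroup.iff_card.mp hSq
        obtain ⟨b, hb⟩ := IsPGroup.iff_card.mp hNr
        rw [ha, hb]
        exact Nat.Coprime.pow _ _ ((Nat.coprime_primes hqF.out hr).mpr hqr)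
      have hcent := hk_centralizes hp.out H hout ((S : Subgroup H).map H.subtype) N hNH hNc y hyS
        (fun g hg hmem => hyH (by
          have hgH : g ∈ H := Subgroup.map_subtype_le _ hg
          have := H.mul_mem hmem (H.inv_mem hgH)
          simpa using this)) hcop
      intro x hx
      apply Subgroup.centralizer_le_normalizer
      rw [Subgroup.mem_centralizer_iff]
      intro s hs
      apply Subtype.ext
      exact hcent s.1 (Subgroup.mem_map_of_mem _ hs) x.1 (Subgroup.mem_subgroupOf.mp hx)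
  have hfr := Sylow.normalizer_sup_eq_top' S
    (le_sup_left : (S : Subgroup H) ≤ (S : Subgroup H) ⊔ N.subgroupOf H)
  have htop : Subgroup.normalizer ((S : Subgroup H) : Set H) = ⊤ := by
    rw [← hfr]
    exact (sup_eq_left.mpr (sup_le Subgroup.le_normalizer hkerN)).symm
  exact Subgroup.normalizer_eq_top_iff.mp htop

/-- **Kegel.** If every element outside the proper normal subgroup `H` of the finite group `G`
has order dividing the prime `p`, then `H` is nilpotent. -/
theorem hk_nilpotent {p : ℕ} (hp : p.Prime) {G : Type u} [Group G] [Finite G] (H : Subgroup G)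
    [hH : H.Normal] (hne : H ≠ ⊤) (hout : ∀ g : G, g ∉ H → g ^ p = 1) : Group.IsNilpotent H :=
  haveI : Fact p.Prime := ⟨hp⟩
  hk_nilpotent_aux p _ G H hH rfl hne hout

/-- **Hughes--Thompson.** If moreover `G` is not a `p`-group, then `H` has index `p`. -/
theorem hk_index {p : ℕ} (hp : p.Prime) {G : Type u} [Group G] [Finite G] (H : Subgroup G)
    [hH : H.Normal] (hne : H ≠ ⊤) (hout : ∀ g : G, g ∉ H → g ^ p = 1) (hG : ¬ IsPGroup p G) :
    H.index = p := by
  have : Fact p.Prime := ⟨hp⟩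
  have hnil : Group.IsNilpotent H := hk_nilpotent hp H hne hout
  obtain ⟨q, hq, hqp, hqG⟩ : ∃ q : ℕ, q.Prime ∧ q ≠ p ∧ q ∣ Nat.card G := by
    by_contra hcon
    push Not at hcon
    apply hG
    have h1 : Nat.card G = p ^ (Nat.card G).primeFactorsList.length :=
      Nat.eq_prime_pow_of_unique_prime_dvd Nat.card_pos.ne' (fun {d} hd hdG => by
        by_contra h
        exact hcon d hd h hdG)
    exact IsPGroup.of_card h1
  have : Fact q.Prime := ⟨hq⟩
  obtain ⟨Q⟩ : Nonempty (Sylow q G) := inferInstance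
  have hQH : (Q : Subgroup G) ≤ H := by
    intro x hx
    by_contra hxH
    have h1 := hout x hxH
    obtain ⟨k, hk⟩ := Q.isPGroup' ⟨x, hx⟩
    have hk' : x ^ q ^ k = 1 := by simpa using congrArg Subtype.val hk
    have h2 := pow_gcd_eq_one.mpr ⟨h1, hk'⟩
    have h3 : Nat.gcd p (q ^ k) = 1 :=
      Nat.Coprime.pow_right k ((Nat.coprime_primes hp hq).mpr (Ne.symm hqp))
    rw [h3, pow_one] at h2
    exact hxH (h2 ▸ H.one_mem)
  have hQne : (Q : Subgroup G) ≠ ⊥ := Sylow.ne_bot_of_dvd_card Q hqG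
  have hQn : (Q : Subgroup G).Normal := by
    have hfrat : Subgroup.normalizer ((Q : Subgroup G) : Set G) ⊔ H = ⊤ :=
      Sylow.normalizer_sup_eq_top' Q hQH
    have hHN : H ≤ Subgroup.normalizer ((Q : Subgroup G) : Set G) := by
      have hn : ((Q.subtype hQH : Sylow q H) : Subgroup H).Normal := inferInstance
      rw [Sylow.coe_subtype] at hn
      exact (Subgroup.normal_subgroupOf_iff_le_normalizer hQH).mp hn
    have htop : Subgroup.normalizer ((Q : Subgroup G) : Set G) = ⊤ := by
      rw [← hfrat]; exact (sup_eq_left.mpr hHN).symm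
    exact Subgroup.normalizer_eq_top_iff.mp htop
  obtain ⟨V, hVdef⟩ : ∃ V : Subgroup G,
      V = (Q : Subgroup G) ⊓ Subgroup.centralizer ((Q : Subgroup G) : Set G) := ⟨_, rfl⟩
  have hVn : V.Normal := by rw [hVdef]; infer_instance
  have hVne : V ≠ ⊥ := by rw [hVdef]; exact inf_centralizer_ne_bot _ Q.isPGroup' hQne
  have hVH : V ≤ H := by rw [hVdef]; exact inf_le_left.trans hQH
  have hVc : ∀ a ∈ V, ∀ b ∈ V, a * b = b * a := by
    intro a ha b hb
    rw [hVdef] at ha hb
    exact Subgroup.mem_centralizer_iff.mp hb.2 a ha.1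
  have hVq : IsPGroup q V := by rw [hVdef]; exact Q.isPGroup'.to_le inf_le_left
  have hpow : ∀ x : G ⧸ H, x ^ p = 1 := by
    intro x
    obtain ⟨g, rfl⟩ := QuotientGroup.mk_surjective x
    rw [← QuotientGroup.mk_pow]
    by_cases hg : g ∈ H
    · exact (QuotientGroup.eq_one_iff _).mpr (H.pow_mem hg p)
    · rw [hout g hg]; rfl
  have hGH : IsPGroup p (G ⧸ H) := fun x => ⟨1, by rw [pow_one]; exact hpow x⟩
  by_contra hidx
  have hnt : Nontrivial (G ⧸ H) := by
    rw [← Finite.one_lt_card_iff_nontrivial, ← Subgroup.index_eq_card]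
    have h1 : H.index ≠ 1 := fun h => hne (Subgroup.index_eq_one.mp h)
    have h0 : H.index ≠ 0 := Subgroup.index_ne_zero_of_finite
    omega
  have hcn : Nontrivial (Subgroup.center (G ⧸ H)) := hGH.center_nontrivial
  obtain ⟨zq, hzq⟩ := exists_ne (1 : Subgroup.center (G ⧸ H))
  have hzb1 : (zq : G ⧸ H) ≠ 1 := fun h => hzq (Subtype.ext h)
  have hzord : orderOf (zq : G ⧸ H) = p := orderOf_eq_prime (hpow _) hzb1
  have hzne : Subgroup.zpowers (zq : G ⧸ H) ≠ ⊤ := by
    intro htop
    apply hidx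
    rw [Subgroup.index_eq_card, ← Subgroup.card_top (G := G ⧸ H), ← htop, Nat.card_zpowers, hzord]
  obtain ⟨yb, hyb⟩ : ∃ yb : G ⧸ H, yb ∉ Subgroup.zpowers (zq : G ⧸ H) := by
    by_contra hcon
    push Not at hcon
    exact hzne ((Subgroup.eq_top_iff' _).mpr hcon)
  obtain ⟨P⟩ : Nonempty (Sylow p G) := inferInstance
  have hHP : H ⊔ (P : Subgroup G) = ⊤ := by
    rw [← Subgroup.index_eq_one]
    have h1 : (H ⊔ (P : Subgroup G)).index ∣ H.index := Subgroup.index_dvd_of_le le_sup_left
    have h2 : (H ⊔ (P : Subgroup G)).index ∣ (P : Subgroup G).index :=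
      Subgroup.index_dvd_of_le le_sup_right
    obtain ⟨k, hk⟩ := IsPGroup.iff_card.mp hGH
    have hHidx : H.index = p ^ k := by rw [Subgroup.index_eq_card, hk]
    rw [hHidx] at h1
    obtain ⟨j, -, hj⟩ := (Nat.dvd_prime_pow hp).mp h1
    rcases Nat.eq_zero_or_pos j with hj0 | hjpos
    · rw [hj, hj0, pow_zero]
    · exfalso
      exact P.not_dvd_index (dvd_trans (hj ▸ dvd_pow_self p hjpos.ne') h2)
  have hlift : ∀ xb : G ⧸ H, ∃ x ∈ (P : Subgroup G), (x : G ⧸ H) = xb := by
    intro xb
    obtain ⟨g, rfl⟩ := QuotientGroup.mk_surjective xb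
    have hg : g ∈ ((H ⊔ (P : Subgroup G) : Subgroup G) : Set G) := by rw [hHP]; trivial
    rw [Subgroup.normal_mul] at hg
    obtain ⟨h, hh, u, hu, rfl⟩ := Set.mem_mul.mp hg
    refine ⟨u, hu, ?_⟩
    rw [QuotientGroup.mk_mul, (QuotientGroup.eq_one_iff h).mpr hh, one_mul]
  obtain ⟨y, hyP, hy⟩ := hlift yb
  obtain ⟨z, hzP, hz⟩ := hlift (zq : G ⧸ H)
  have hZn : (Subgroup.zpowers (zq : G ⧸ H)).Normal := by
    constructor
    intro n hn g
    have hc : n ∈ Subgroup.center (G ⧸ H) := (Subgroup.zpowers_le.mpr zq.2) hn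
    have e : g * n * g⁻¹ = n := by
      rw [Subgroup.mem_center_iff] at hc
      rw [hc g, mul_inv_cancel_right]
    rw [e]; exact hn
  obtain ⟨E, hEdef⟩ : ∃ E : Subgroup G, E = (P : Subgroup G) ⊓
      (Subgroup.zpowers (zq : G ⧸ H)).comap (QuotientGroup.mk' H) := ⟨_, rfl⟩
  have hyE : y ∈ Subgroup.normalizer (E : Set G) := by
    have hA : y ∈ Subgroup.normalizer ((P : Subgroup G) : Set G) := Subgroup.le_normalizer hyP
    have hBn : ((Subgroup.zpowers (zq : G ⧸ H)).comap (QuotientGroup.mk' H)).Normal :=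
      hZn.comap _
    rw [Subgroup.mem_normalizer_iff] at hA ⊢
    intro x
    rw [hEdef, Subgroup.mem_inf, Subgroup.mem_inf]
    constructor
    · rintro ⟨h1, h2⟩
      exact ⟨(hA x).mp h1, hBn.conj_mem x h2 y⟩
    · rintro ⟨h1, h2⟩
      refine ⟨(hA x).mpr h1, ?_⟩
      have h3 := hBn.conj_mem _ h2 y⁻¹
      have e : y⁻¹ * (y * x * y⁻¹) * y⁻¹⁻¹ = x := by group
      rwa [e] at h3
  have hyEH : ∀ g ∈ E, y * g ∉ H := by
    intro g hg hmem
    rw [hEdef] at hg
    have h1 : (g : G ⧸ H) ∈ Subgroup.zpowers (zq : G ⧸ H) := hg.2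
    have h2 : ((y * g : G) : G ⧸ H) = 1 := (QuotientGroup.eq_one_iff _).mpr hmem
    rw [QuotientGroup.mk_mul, hy] at h2
    have h3 : yb = (g : G ⧸ H)⁻¹ := eq_inv_of_mul_eq_one_left h2
    exact hyb (h3 ▸ inv_mem h1)
  have hEp : IsPGroup p E := by rw [hEdef]; exact P.isPGroup'.to_le inf_le_left
  have hcop : (Nat.card E).Coprime (Nat.card V) := by
    obtain ⟨a, ha⟩ := IsPGroup.iff_card.mp hEp
    obtain ⟨b, hb⟩ := IsPGroup.iff_card.mp hVq
    rw [ha, hb]
    exact Nat.Coprime.pow _ _ ((Nat.coprime_primes hp hq).mpr (Ne.symm hqp))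
  have hcent := hk_centralizes hp H hout E V hVH hVc y hyE hyEH hcop
  have hzE : z ∈ E := by
    rw [hEdef]
    refine ⟨hzP, ?_⟩
    show (z : G ⧸ H) ∈ Subgroup.zpowers (zq : G ⧸ H)
    rw [hz]; exact Subgroup.mem_zpowers _
  have hzH : z ∉ H := fun h => hzb1 (by rw [← hz]; exact (QuotientGroup.eq_one_iff z).mpr h)
  obtain ⟨v, hv1⟩ := (Subgroup.ne_bot_iff_exists_ne_one).mp hVne
  have hv1' : (v : G) ≠ 1 := fun h => hv1 (Subtype.ext h)
  have hzv : z * (v : G) ∉ H := fun hmem => hzH (by
    have := H.mul_mem hmem (H.inv_mem (hVH v.2))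
    simpa using this)
  have h1 : (z * (v : G)) ^ p = 1 := hout _ hzv
  have hcomm : Commute z (v : G) := hcent z hzE v v.2
  rw [hcomm.mul_pow, hout z hzH, one_mul] at h1
  obtain ⟨k, hk⟩ := hVq v
  have hk' : (v : G) ^ q ^ k = 1 := by simpa using congrArg Subtype.val hk
  have h2 := pow_gcd_eq_one.mpr ⟨h1, hk'⟩
  have h3 : Nat.gcd p (q ^ k) = 1 :=
    Nat.Coprime.pow_right k ((Nat.coprime_primes hp hq).mpr (Ne.symm hqp))
  rw [h3, pow_one] at h2
  exact hv1' h2

/-- The Hughes subgroup `⟨g | g ^ p ≠ 1⟩` is normal. -/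
theorem hughes_normal {G : Type*} [Group G] (p : ℕ) :
    (Subgroup.closure {g : G | g ^ p ≠ 1}).Normal := by
  constructor
  intro n hn g
  induction hn using Subgroup.closure_induction with
  | mem x hx =>
    refine Subgroup.subset_closure ?_
    show (g * x * g⁻¹) ^ p ≠ 1
    rw [conj_pow]
    intro h
    apply hx
    have e : x ^ p = g⁻¹ * (g * x ^ p * g⁻¹) * g := by group
    rw [e, h]; group
  | one => simp
  | mul x y _ _ hx hy =>
    have e : g * (x * y) * g⁻¹ = (g * x * g⁻¹) * (g * y * g⁻¹) := by group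
    rw [e]; exact mul_mem hx hy
  | inv x _ hx =>
    have e : g * x⁻¹ * g⁻¹ = (g * x * g⁻¹)⁻¹ := by group
    rw [e]; exact inv_mem hx

/-- **Hughes--Thompson--Kegel.** -/
theorem hughes_thompson_kegel {G : Type u} [Group G] [Finite G] (p : ℕ) (hp : p.Prime)
    (hG : ¬ IsPGroup p G) (hH : Subgroup.closure {g : G | g ^ p ≠ 1} ≠ ⊤) :
    Group.IsNilpotent (Subgroup.closure {g : G | g ^ p ≠ 1}) ∧
      (Subgroup.closure {g : G | g ^ p ≠ 1}).index = p := by
  have hn : (Subgroup.closure {g : G | g ^ p ≠ 1}).Normal := hughes_normal p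
  have hout : ∀ g : G, g ∉ Subgroup.closure {g : G | g ^ p ≠ 1} → g ^ p = 1 := fun g hg => by
    by_contra h
    exact hg (Subgroup.subset_closure h)
  exact ⟨hk_nilpotent hp _ hH hout, hk_index hp _ hH hout hG⟩

end Cfsg.Agent.Lib.helper74
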