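import Mathlib

/-!
# Krull–Remak–Schmidt for finite groups (helper74)

* `Indec H`: the indecomposability predicate used in S4223.
* `fitting`: Fitting's lemma for a normal endomorphism of an indecomposable finite group.
* `injective_or_injective_of_sum`: if `α + β = id` with `α` normal then one of them is injective.
* `exists_bijective_coord`: an indecomposable direct factor of a finite product of
  indecomposable groups projects bijectively onto one of the factors.
* `krs`: Krull–Remak–Schmidt for families indexed by finite types.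
-/

namespace Cfsg.Agent.Lib.helper74

universe u v

/-- Indecomposability in the sense of S4223. -/
def Indec (H : Type*) [Group H] : Prop :=
  ∀ A B : Subgroup H, A.Normal → B.Normal → A ⊓ B = ⊥ → A ⊔ B = ⊤ → A = ⊥ ∨ B = ⊥

theorem end_pow_normal {H : Type*} [Group H] (α : Monoid.End H)
    (hα : ∀ g h, α (g * h * g⁻¹) = g * α h * g⁻¹) (n : ℕ) :
    ∀ g h, (α ^ n) (g * h * g⁻¹) = g * (α ^ n) h * g⁻¹ := by
  induction n with
  | zero => intro g h; simp
  | succ n ih =>
    intro g h
    rw [pow_succ]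
    change (α ^ n) (α (g * h * g⁻¹)) = g * (α ^ n) (α h) * g⁻¹
    rw [hα, ih]

theorem end_pow_range_antitone {H : Type*} [Group H] (α : Monoid.End H) {m n : ℕ} (h : m ≤ n) :
    (α ^ n : H →* H).range ≤ (α ^ m : H →* H).range := by
  obtain ⟨k, rfl⟩ := Nat.exists_eq_add_of_le h
  rintro _ ⟨x, rfl⟩
  refine ⟨(α ^ k) x, ?_⟩
  rw [pow_add]
  rfl

/-- Fitting's lemma: a normal endomorphism of an indecomposable finite group is injective or
nilpotent. -/
theorem fitting {H : Type*} [Group H] [Finite H] (hH : Indec H) (a : Monoid.End H)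
    (hα : ∀ g h, a (g * h * g⁻¹) = g * a h * g⁻¹) :
    Function.Injective a ∨ ∃ n : ℕ, ∀ x, (a ^ n) x = 1 := by
  classical
  -- a minimal range
  obtain ⟨c, ⟨n, rfl⟩, hmin⟩ := Nat.lt_wfRel.wf.has_min
    (Set.range fun k : ℕ => Nat.card ((a ^ k : H →* H).range)) ⟨_, 0, rfl⟩
  have hstab : ∀ k, n ≤ k → (a ^ k : H →* H).range = (a ^ n : H →* H).range := by
    intro k hk
    apply Subgroup.eq_of_le_of_card_ge (end_pow_range_antitone a hk)
    have := hmin _ ⟨k, rfl⟩
    exact not_lt.mp this
  set b : Monoid.End H := a ^ (n + 1) with hb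
  have hbn : ∀ g h, b (g * h * g⁻¹) = g * b h * g⁻¹ := end_pow_normal a hα (n + 1)
  have hbb : (b * b : Monoid.End H) = a ^ ((n + 1) + (n + 1)) := by rw [hb, ← pow_add]
  have hrange : ∀ g : H, ∃ z : H, b g = b (b z) := by
    intro g
    have h1 : b g ∈ (a ^ (n + 1) : H →* H).range := ⟨g, rfl⟩
    rw [hstab (n + 1) (by omega), ← hstab ((n + 1) + (n + 1)) (by omega), ← hbb] at h1
    obtain ⟨z, hz⟩ := h1
    exact ⟨z, hz.symm⟩
  let I : Subgroup H := (b : H →* H).range
  let K : Subgroup H := (b : H →* H).ker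
  have hIn : I.Normal := by
    refine ⟨?_⟩
    rintro _ ⟨y, rfl⟩ g
    exact ⟨g * y * g⁻¹, hbn g y⟩
  have hKn : K.Normal := MonoidHom.normal_ker _
  -- b is injective on I
  have hinjI : ∀ x ∈ I, b x = 1 → x = 1 := by
    let bI : I → I := fun x => ⟨b x.1, ⟨x.1, rfl⟩⟩
    have hsurj : Function.Surjective bI := by
      rintro ⟨y, g, rfl⟩
      obtain ⟨z, hz⟩ := hrange g
      refine ⟨⟨b z, ⟨z, rfl⟩⟩, ?_⟩
      apply Subtype.ext
      exact hz.symm
    have hinj : Function.Injective bI := Finite.injective_iff_surjective.mpr hsurj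
    intro x hx hx1
    have : bI ⟨x, hx⟩ = bI ⟨1, I.one_mem⟩ := by
      apply Subtype.ext
      change b x = b 1
      rw [hx1, map_one]
    have := hinj this
    exact congrArg Subtype.val this
  have hinf : I ⊓ K = ⊥ := by
    rw [eq_bot_iff]
    intro x hx
    obtain ⟨hxI, hxK⟩ := Subgroup.mem_inf.mp hx
    rw [Subgroup.mem_bot]
    exact hinjI x hxI (MonoidHom.mem_ker.mp hxK)
  have hsup : I ⊔ K = ⊤ := by
    rw [eq_top_iff]
    intro g _
    obtain ⟨z, hz⟩ := hrange g
    have h1 : g = b z * ((b z)⁻¹ * g) := by group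
    rw [h1]
    apply Subgroup.mul_mem_sup
    · exact ⟨z, rfl⟩
    · change b ((b z)⁻¹ * g) = 1
      rw [map_mul, map_inv, hz, inv_mul_cancel]
  rcases hH I K hIn hKn hinf hsup with h | h
  · right
    refine ⟨n + 1, fun x => ?_⟩
    have : b x ∈ I := ⟨x, rfl⟩
    rw [h, Subgroup.mem_bot] at this
    exact this
  · left
    have hbinj : Function.Injective b := (MonoidHom.ker_eq_bot_iff _).mp h
    intro x y hxy
    apply hbinj
    rw [hb, pow_succ]
    change (a ^ n) (a x) = (a ^ n) (a y)
    rw [hxy]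

/-- If `α + β = id` and `α` is a normal endomorphism of an indecomposable finite group, then
`α` or `β` is injective. -/
theorem injective_or_injective_of_sum {H : Type*} [Group H] [Finite H] (hH : Indec H)
    (α β : Monoid.End H) (hα : ∀ g h, α (g * h * g⁻¹) = g * α h * g⁻¹)
    (hsum : ∀ h, α h * β h = h) : Function.Injective α ∨ Function.Injective β := by
  rcases fitting hH α hα with h | ⟨n, hn⟩
  · exact Or.inl h
  · right
    rw [injective_iff_map_eq_one]
    intro x hx
    have h1 : α x = x := by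
      have := hsum x
      rw [hx, mul_one] at this
      exact this
    have h2 : ∀ k : ℕ, (α ^ k) x = x := by
      intro k
      induction k with
      | zero => simp
      | succ k ih =>
        rw [pow_succ]
        change (α ^ k) (α x) = x
        rw [h1, ih]
    rw [← h2 n, hn]

section coord

variable {κ : Type*} [DecidableEq κ] (B : κ → Type*) [∀ j, Group (B j)]

/-- Restriction of a family to the complement of `j₀`. -/
def restrictNe (j₀ : κ) : ((j : κ) → B j) →* ((j : {j // j ≠ j₀}) → B j.1) :=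
  MonoidHom.pi (fun j => Pi.evalMonoidHom B j.1)

/-- Extension by one of a family on the complement of `j₀`. -/
def extendNe (j₀ : κ) : ((j : {j // j ≠ j₀}) → B j.1) →* ((j : κ) → B j) where
  toFun y j := if h : j = j₀ then 1 else y ⟨j, h⟩
  map_one' := by funext j; by_cases h : j = j₀ <;> simp [h]
  map_mul' x y := by funext j; by_cases h : j = j₀ <;> simp [h]

omit [DecidableEq κ] in
theorem restrictNe_apply (j₀ : κ) (x : (j : κ) → B j) (j : {j // j ≠ j₀}) :
    restrictNe B j₀ x j = x j.1 := rfl

theorem extendNe_apply_self (j₀ : κ) (y : (j : {j // j ≠ j₀}) → B j.1) :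
    extendNe B j₀ y j₀ = 1 := by
  simp [extendNe]

theorem extendNe_apply_ne (j₀ : κ) (y : (j : {j // j ≠ j₀}) → B j.1) {j : κ} (h : j ≠ j₀) :
    extendNe B j₀ y j = y ⟨j, h⟩ := by
  simp [extendNe, h]

theorem restrictNe_extendNe (j₀ : κ) (y : (j : {j // j ≠ j₀}) → B j.1) :
    restrictNe B j₀ (extendNe B j₀ y) = y := by
  funext j
  rw [restrictNe_apply, extendNe_apply_ne B j₀ y j.2]

theorem mulSingle_mul_extendNe (j₀ : κ) (x : (j : κ) → B j) :
    Pi.mulSingle j₀ (x j₀) * extendNe B j₀ (restrictNe B j₀ x) = x := by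
  funext j
  by_cases h : j = j₀
  · subst h
    rw [Pi.mul_apply, extendNe_apply_self, Pi.mulSingle_eq_same, mul_one]
  · rw [Pi.mul_apply, extendNe_apply_ne B j₀ _ h, Pi.mulSingle_eq_of_ne h, one_mul,
      restrictNe_apply]

theorem conj_mulSingle (j₀ : κ) (y : (j : κ) → B j) (b : B j₀) :
    y * Pi.mulSingle j₀ b * y⁻¹ = Pi.mulSingle j₀ (y j₀ * b * (y j₀)⁻¹) := by
  funext j
  by_cases h : j = j₀
  · subst h
    simp
  · simp [h]

end coord

/-- An indecomposable direct factor `H` of a finite product of indecomposable finite groups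
projects bijectively onto one of the factors. -/
theorem exists_bijective_coord {H : Type u} [Group H] [Finite H] [Nontrivial H] (hH : Indec H) :
    ∀ (n : ℕ) (κ : Type) [Fintype κ] (B : κ → Type v) [∀ j, Group (B j)] [∀ j, Finite (B j)],
      Fintype.card κ = n → (∀ j, Indec (B j)) →
      ∀ (f : H →* ((j : κ) → B j)) (g : ((j : κ) → B j) →* H), (∀ h, g (f h) = h) →
        (∀ y h, ∃ h', y * f h * y⁻¹ = f h') → ∃ j, Function.Bijective (fun h => f h j) := by
  classical
  intro n
  induction n with
  | zero =>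
    intro κ _ B _ _ hcard _ f g hgf _
    exfalso
    have : IsEmpty κ := Fintype.card_eq_zero_iff.mp hcard
    obtain ⟨x, hx⟩ := exists_ne (1 : H)
    apply hx
    rw [← hgf x, ← hgf 1]
    congr 1
    exact Subsingleton.elim _ _
  | succ n ih =>
    intro κ _ B _ _ hcard hB f g hgf hnorm
    have : Nonempty κ := by
      rw [← Fintype.card_pos_iff]; omega
    obtain ⟨j₀⟩ := this
    let p₂ := restrictNe B j₀
    let i₂ := extendNe B j₀
    let α : Monoid.End H :=
      g.comp ((MonoidHom.mulSingle B j₀).comp ((Pi.evalMonoidHom B j₀).comp f))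
    let β : Monoid.End H := g.comp (i₂.comp (p₂.comp f))
    have hα : ∀ x h, α (x * h * x⁻¹) = x * α h * x⁻¹ := by
      intro x h
      change g (Pi.mulSingle j₀ ((f (x * h * x⁻¹)) j₀)) = x * g (Pi.mulSingle j₀ (f h j₀)) * x⁻¹
      have : Pi.mulSingle j₀ ((f (x * h * x⁻¹)) j₀)
          = f x * Pi.mulSingle j₀ (f h j₀) * (f x)⁻¹ := by
        rw [conj_mulSingle]; simp
      rw [this, map_mul, map_mul, map_inv, hgf]
    have hsum : ∀ h, α h * β h = h := by
      intro h
      change g (Pi.mulSingle j₀ (f h j₀)) * g (i₂ (p₂ (f h))) = h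
      rw [← map_mul, mulSingle_mul_extendNe, hgf]
    rcases injective_or_injective_of_sum hH α β hα hsum with hinj | hinj
    · -- α injective
      have hbij : Function.Bijective α := Finite.injective_iff_bijective.mp hinj
      refine ⟨j₀, ?_⟩
      let f₁ : H →* B j₀ := (Pi.evalMonoidHom B j₀).comp f
      let g₁ : B j₀ →* H := g.comp (MonoidHom.mulSingle B j₀)
      have hα1 : ∀ h, g₁ (f₁ h) = α h := fun h => rfl
      have hf₁inj : Function.Injective f₁ := by
        intro x y hxy
        apply hinj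
        rw [← hα1, ← hα1, hxy]
      refine ⟨hf₁inj, ?_⟩
      have hIn : f₁.range.Normal := by
        refine ⟨?_⟩
        rintro _ ⟨h, rfl⟩ b
        obtain ⟨h', hh'⟩ := hnorm (Pi.mulSingle j₀ b) h
        refine ⟨h', ?_⟩
        have := congrFun hh' j₀
        simp only [Pi.mul_apply, Pi.inv_apply, Pi.mulSingle_eq_same] at this
        exact this.symm
      have hKn : g₁.ker.Normal := MonoidHom.normal_ker _
      have hinf : f₁.range ⊓ g₁.ker = ⊥ := by
        rw [eq_bot_iff]
        rintro _ ⟨⟨h, rfl⟩, hk⟩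
        have h1 : α h = 1 := hk
        have h2 : h = 1 := hinj (by rw [h1, map_one])
        rw [h2, map_one]; exact Subgroup.mem_bot.mpr rfl
      have hsup : f₁.range ⊔ g₁.ker = ⊤ := by
        rw [eq_top_iff]
        intro b _
        obtain ⟨h, hh⟩ := hbij.2 (g₁ b)
        have h1 : b = f₁ h * ((f₁ h)⁻¹ * b) := by group
        rw [h1]
        apply Subgroup.mul_mem_sup (show f₁ h ∈ f₁.range from ⟨h, rfl⟩)
        change g₁ ((f₁ h)⁻¹ * b) = 1
        rw [map_mul, map_inv, hα1, hh, inv_mul_cancel]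
      rcases hB j₀ _ _ hIn hKn hinf hsup with h0 | h0
      · exfalso
        obtain ⟨x, hx⟩ := exists_ne (1 : H)
        apply hx
        apply hf₁inj
        have : f₁ x ∈ f₁.range := ⟨x, rfl⟩
        rw [h0, Subgroup.mem_bot] at this
        rw [this, map_one]
      · rw [h0, sup_bot_eq] at hsup
        exact MonoidHom.range_eq_top.mp hsup
    · -- β injective
      have hbij : Function.Bijective β := Finite.injective_iff_bijective.mp hinj
      let β' : H ≃* H := MulEquiv.ofBijective β hbij
      let f₂ : H →* ((j : {j // j ≠ j₀}) → B j.1) := p₂.comp f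
      let g₂ : ((j : {j // j ≠ j₀}) → B j.1) →* H := β'.symm.toMonoidHom.comp (g.comp i₂)
      have hcard' : Fintype.card {j // j ≠ j₀} = n := by
        have := Fintype.card_congr (Equiv.optionSubtypeNe j₀)
        rw [Fintype.card_option] at this
        omega
      have hg₂ : ∀ h, g₂ (f₂ h) = h := by
        intro h
        change β'.symm (β' h) = h
        exact β'.symm_apply_apply h
      have hn₂ : ∀ y h, ∃ h', y * f₂ h * y⁻¹ = f₂ h' := by
        intro y h
        obtain ⟨h', hh'⟩ := hnorm (i₂ y) h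
        refine ⟨h', ?_⟩
        have := congrArg p₂ hh'
        rw [map_mul, map_mul, map_inv, restrictNe_extendNe] at this
        exact this
      obtain ⟨j', hj'⟩ := ih {j // j ≠ j₀} (fun j => B j.1) hcard' (fun j => hB j.1) f₂ g₂
        hg₂ hn₂
      exact ⟨j'.1, hj'⟩

/-- Krull–Remak–Schmidt for finite groups, families indexed by finite types. -/
theorem krs : ∀ (n : ℕ) (ι : Type) [Fintype ι] (κ : Type) [Fintype κ]
    (A : ι → Type u) (B : κ → Type v) [∀ i, Group (A i)] [∀ j, Group (B j)]
    [∀ i, Finite (A i)] [∀ j, Finite (B j)],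
    Fintype.card ι = n → (∀ i, Nontrivial (A i) ∧ Indec (A i)) →
    (∀ j, Nontrivial (B j) ∧ Indec (B j)) →
    (((i : ι) → A i) ≃* ((j : κ) → B j)) → ∃ σ : ι ≃ κ, ∀ i, Nonempty (A i ≃* B (σ i)) := by
  classical
  intro n
  induction n with
  | zero =>
    intro ι _ κ _ A B _ _ _ _ hcard hA hB e
    have hι : IsEmpty ι := Fintype.card_eq_zero_iff.mp hcard
    have hκ : IsEmpty κ := by
      refine ⟨fun j => ?_⟩
      obtain ⟨hnt, -⟩ := hB j
      obtain ⟨b, hb⟩ := exists_ne (1 : B j)
      apply hb
      have h1 : e.symm (Pi.mulSingle j b) = e.symm 1 := Subsingleton.elim _ _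
      have h2 := e.symm.injective h1
      have := congrFun h2 j
      simpa using this
    exact ⟨Equiv.equivOfIsEmpty ι κ, fun i => isEmptyElim i⟩
  | succ n ih =>
    intro ι _ κ _ A B _ _ _ _ hcard hA hB e
    have : Nonempty ι := by rw [← Fintype.card_pos_iff]; omega
    obtain ⟨i₀⟩ := this
    have hnt := (hA i₀).1
    let f : A i₀ →* ((j : κ) → B j) := e.toMonoidHom.comp (MonoidHom.mulSingle A i₀)
    let g : ((j : κ) → B j) →* A i₀ := (Pi.evalMonoidHom A i₀).comp e.symm.toMonoidHom
    have hgf : ∀ h, g (f h) = h := by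
      intro h
      change (e.symm (e (Pi.mulSingle i₀ h))) i₀ = h
      rw [e.symm_apply_apply, Pi.mulSingle_eq_same]
    have hnorm : ∀ y h, ∃ h', y * f h * y⁻¹ = f h' := by
      intro y h
      refine ⟨(e.symm y) i₀ * h * ((e.symm y) i₀)⁻¹, ?_⟩
      change y * e (Pi.mulSingle i₀ h) * y⁻¹ = e (Pi.mulSingle i₀ _)
      rw [← conj_mulSingle, map_mul, map_mul, map_inv, e.apply_symm_apply]
    obtain ⟨j₀, hj₀⟩ := exists_bijective_coord (hA i₀).2 (Fintype.card κ) κ B rfl
      (fun j => (hB j).2) f g hgf hnorm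
    -- the iso A i₀ ≃* B j₀
    let f₁ : A i₀ →* B j₀ := (Pi.evalMonoidHom B j₀).comp f
    have hf₁ : Function.Bijective f₁ := hj₀
    let e₀ : A i₀ ≃* B j₀ := MulEquiv.ofBijective f₁ hf₁
    -- the complement map
    let φ : ((j : {j // j ≠ j₀}) → B j.1) →* ((i : {i // i ≠ i₀}) → A i.1) :=
      (restrictNe A i₀).comp (e.symm.toMonoidHom.comp (extendNe B j₀))
    have hφinj : Function.Injective φ := by
      rw [injective_iff_map_eq_one]
      intro b' hb'
      set z := e.symm (extendNe B j₀ b') with hz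
      have hz1 : restrictNe A i₀ z = 1 := hb'
      have hz2 : z = Pi.mulSingle i₀ (z i₀) := by
        have := mulSingle_mul_extendNe A i₀ z
        rw [hz1, map_one, mul_one] at this
        exact this.symm
      have hz3 : extendNe B j₀ b' = e z := by rw [hz, e.apply_symm_apply]
      have hz4 : f₁ (z i₀) = 1 := by
        change e (Pi.mulSingle i₀ (z i₀)) j₀ = 1
        rw [← hz2, ← hz3, extendNe_apply_self]
      have hz5 : z i₀ = 1 := hf₁.1 (by rw [hz4, map_one])
      have hz6 : z = 1 := by rw [hz2, hz5, Pi.mulSingle_one]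
      have hz7 : extendNe B j₀ b' = 1 := by rw [hz3, hz6, map_one]
      have := congrArg (restrictNe B j₀) hz7
      rw [restrictNe_extendNe, map_one] at this
      exact this
    have hcardA : Nat.card ((i : ι) → A i)
        = Nat.card (A i₀) * Nat.card ((i : {i // i ≠ i₀}) → A i.1) := by
      rw [Nat.card_congr (Equiv.piSplitAt i₀ A), Nat.card_prod]
    have hcardB : Nat.card ((j : κ) → B j)
        = Nat.card (B j₀) * Nat.card ((j : {j // j ≠ j₀}) → B j.1) := by
      rw [Nat.card_congr (Equiv.piSplitAt j₀ B), Nat.card_prod]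
    have hc1 : Nat.card (A i₀) = Nat.card (B j₀) := Nat.card_congr e₀.toEquiv
    have hc2 : Nat.card ((i : ι) → A i) = Nat.card ((j : κ) → B j) := Nat.card_congr e.toEquiv
    have hc3 : Nat.card ((i : {i // i ≠ i₀}) → A i.1)
        = Nat.card ((j : {j // j ≠ j₀}) → B j.1) := by
      rw [hcardA, hcardB, hc1] at hc2
      exact Nat.eq_of_mul_eq_mul_left Nat.card_pos hc2
    have hφbij : Function.Bijective φ := hφinj.bijective_of_nat_card_le hc3.le
    let e' : ((i : {i // i ≠ i₀}) → A i.1) ≃* ((j : {j // j ≠ j₀}) → B j.1) :=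
      (MulEquiv.ofBijective φ hφbij).symm
    have hcard' : Fintype.card {i // i ≠ i₀} = n := by
      have := Fintype.card_congr (Equiv.optionSubtypeNe i₀)
      rw [Fintype.card_option] at this
      omega
    obtain ⟨σ', hσ'⟩ := ih {i // i ≠ i₀} {j // j ≠ j₀} (fun i => A i.1) (fun j => B j.1) hcard'
      (fun i => hA i.1) (fun j => hB j.1) e'
    let σ : ι ≃ κ := (Equiv.optionSubtypeNe i₀).symm.trans
      ((Equiv.optionCongr σ').trans (Equiv.optionSubtypeNe j₀))
    refine ⟨σ, fun i => ?_⟩
    by_cases hi : i = i₀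
    · subst hi
      have : σ i = j₀ := by
        simp [σ]
      rw [this]
      exact ⟨e₀⟩
    · have : σ i = (σ' ⟨i, hi⟩).1 := by
        simp [σ, Equiv.optionSubtypeNe_symm_of_ne hi]
      rw [this]
      exact hσ' ⟨i, hi⟩

end Cfsg.Agent.Lib.helper74
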