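import Mathlib
import Cfsg.Prelude.Def_LieTypeChar
import Cfsg.Agent.Lib.helper44.LODefs
import Cfsg.Agent.Lib.helper6.LOARITH

/-! S2363 pieces TF4 and REE: arithmetic cores with the order formula as a hypothesis
(racing copy by helper74). -/

set_option autoImplicit false

namespace Cfsg.Agent.Lib.helper44.LO

open Cfsg

theorem h74_pair_lt (x y : ℕ) (hx : 1 ≤ x) (hxy : x ≤ y) : (x - 1) * (y + 1) < x * y := by
  obtain ⟨t, rfl⟩ : ∃ t, x = t + 1 := ⟨x - 1, by omega⟩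
  rw [Nat.add_sub_cancel, Nat.mul_succ, Nat.succ_mul]
  omega

/-- arithmetic core of TF4 -/
theorem h74_lo_tf4_core (f : ℕ) (hf : 1 ≤ f) (n : ℕ)
    (h : n = (2 ^ f) ^ 12 * (2 ^ f - 1) * ((2 ^ f) ^ 3 + 1) * ((2 ^ f) ^ 4 - 1) * ((2 ^ f) ^ 6 + 1)) :
    LOGood 2 n := by
  obtain ⟨q, hq⟩ : ∃ q, q = 2 ^ f := ⟨_, rfl⟩
  rw [← hq] at h
  have h2q : 2 ∣ q := by rw [hq]; exact dvd_pow_self 2 (by omega)
  have hq2 : 2 ≤ q := Nat.le_of_dvd (by rw [hq]; positivity) h2q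
  have hq1 : 1 ≤ q := by omega
  refine lo_good Nat.prime_two f hf 1 n 12
    (((q - 1) * (q ^ 3 + 1)) * ((q ^ 4 - 1) * (q ^ 6 + 1))) 14 ?_ (by norm_num) ?_ ?_
    (by norm_num) (by norm_num)
  · rw [← hq, h]; ring
  · intro hd
    obtain ⟨s3, hs3⟩ : 2 ∣ q ^ 3 := dvd_pow h2q (by norm_num)
    obtain ⟨s4, hs4⟩ : 2 ∣ q ^ 4 := dvd_pow h2q (by norm_num)
    obtain ⟨s6, hs6⟩ : 2 ∣ q ^ 6 := dvd_pow h2q (by norm_num)
    have h4pos : 1 ≤ q ^ 4 := Nat.one_le_pow _ _ (by omega)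
    obtain ⟨t, ht⟩ := h2q
    rcases (Nat.Prime.dvd_mul Nat.prime_two).1 hd with h1 | h1
    · rcases (Nat.Prime.dvd_mul Nat.prime_two).1 h1 with h3 | h3 <;> omega
    · rcases (Nat.Prime.dvd_mul Nat.prime_two).1 h1 with h3 | h3 <;> omega
  · rw [← hq, one_mul]
    have e14 : q ^ 14 = (q * q ^ 3) * (q ^ 4 * q ^ 6) := by ring
    rw [e14]
    have ha : (q - 1) * (q ^ 3 + 1) < q * q ^ 3 :=
      h74_pair_lt q (q ^ 3) hq1 (Nat.le_self_pow (by norm_num) q)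
    have hb : (q ^ 4 - 1) * (q ^ 6 + 1) < q ^ 4 * q ^ 6 :=
      h74_pair_lt (q ^ 4) (q ^ 6) (Nat.one_le_pow _ _ (by omega))
        (Nat.pow_le_pow_right (by omega) (by norm_num))
    exact Nat.mul_lt_mul'' ha hb

/-- arithmetic core of REE -/
theorem h74_lo_ree_core (f : ℕ) (hf : 1 ≤ f) (n : ℕ)
    (h : n = (3 ^ f) ^ 3 * (3 ^ f - 1) * ((3 ^ f) ^ 3 + 1)) : LOGood 3 n := by
  obtain ⟨q, hq⟩ : ∃ q, q = 3 ^ f := ⟨_, rfl⟩
  rw [← hq] at h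
  have h3q : 3 ∣ q := by rw [hq]; exact dvd_pow_self 3 (by omega)
  have hq3 : 3 ≤ q := Nat.le_of_dvd (by rw [hq]; positivity) h3q
  have hq1 : 1 ≤ q := by omega
  refine lo_good Nat.prime_three f hf 1 n 3 ((q - 1) * (q ^ 3 + 1)) 4 ?_ (by norm_num) ?_ ?_
    (by norm_num) (by norm_num)
  · rw [← hq, h]; ring
  · intro hd
    obtain ⟨s3, hs3⟩ : 3 ∣ q ^ 3 := dvd_pow h3q (by norm_num)
    obtain ⟨t, ht⟩ := h3q
    rcases (Nat.Prime.dvd_mul Nat.prime_three).1 hd with h1 | h1 <;> omega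
  · rw [← hq, one_mul]
    have e4 : q ^ 4 = q * q ^ 3 := by ring
    rw [e4]
    exact h74_pair_lt q (q ^ 3) hq1 (Nat.le_self_pow (by norm_num) q)

end Cfsg.Agent.Lib.helper44.LO
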