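import Mathlib

/-! Generic generation lemmas for finite `p`-groups (helper74): a subgroup of order `p ^ k` is
generated by at most `k` elements, and the Burnside basis bound through the Frattini subgroup. -/

set_option autoImplicit false

namespace Cfsg.Agent.Lib.helper74.PGenBasis

/-- A subgroup of order `p ^ k` is generated by at most `k` elements. -/
theorem h74_gen_le {G : Type*} [Group G] [Finite G] (p : ℕ) [Fact p.Prime] (H : Subgroup G)
    (k : ℕ) (hH : Nat.card H = p ^ k) :
    ∃ T : Finset G, T.card ≤ k ∧ Subgroup.closure (T : Set G) = H := by
  classical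
  have hp : p.Prime := Fact.out
  have key : ∀ j : ℕ, j ≤ k → ∃ T : Finset G, T.card ≤ j ∧ Subgroup.closure (T : Set G) ≤ H ∧
      (Subgroup.closure (T : Set G) = H ∨ p ^ j ≤ Nat.card (Subgroup.closure (T : Set G))) := by
    intro j
    induction j with
    | zero =>
      intro _
      refine ⟨∅, by simp, by simp, Or.inr ?_⟩
      simp
    | succ j ih =>
      intro hj
      obtain ⟨T, hT, hle, h⟩ := ih (by omega)
      rcases h with h | h
      · exact ⟨T, by omega, hle, Or.inl h⟩
      · by_cases hEq : Subgroup.closure (T : Set G) = H
        · exact ⟨T, by omega, hle, Or.inl hEq⟩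
        · have hlt : Subgroup.closure (T : Set G) < H := lt_of_le_of_ne hle hEq
          obtain ⟨g, hgH, hgT⟩ := SetLike.exists_of_lt hlt
          have hKH : Subgroup.closure ((insert g T : Finset G) : Set G) ≤ H := by
            rw [Finset.coe_insert, Subgroup.closure_le]
            intro y hy
            rcases hy with rfl | hy
            · exact hgH
            · exact hle (Subgroup.subset_closure hy)
          have hTK : Subgroup.closure (T : Set G) ≤
              Subgroup.closure ((insert g T : Finset G) : Set G) := by
            apply Subgroup.closure_mono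
            rw [Finset.coe_insert]
            exact Set.subset_insert _ _
          have hgK : g ∈ Subgroup.closure ((insert g T : Finset G) : Set G) := by
            apply Subgroup.subset_closure
            rw [Finset.coe_insert]
            exact Set.mem_insert _ _
          refine ⟨insert g T, ?_, hKH, Or.inr ?_⟩
          · have := Finset.card_insert_le g T
            omega
          · have hdvd : Nat.card (Subgroup.closure ((insert g T : Finset G) : Set G)) ∣ p ^ k :=
              hH ▸ Subgroup.card_dvd_of_le hKH
            obtain ⟨a, _, hKa⟩ := (Nat.dvd_prime_pow hp).1 hdvd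
            by_contra hcon
            have ha : a ≤ j := by
              by_contra ha'
              apply hcon
              rw [hKa]
              exact Nat.pow_le_pow_right hp.pos (by omega)
            have hc : Nat.card (Subgroup.closure ((insert g T : Finset G) : Set G)) ≤
                Nat.card (Subgroup.closure (T : Set G)) := by
              rw [hKa]
              exact le_trans (Nat.pow_le_pow_right hp.pos ha) h
            have hEq2 := Subgroup.eq_of_le_of_card_ge hTK hc
            exact hgT (hEq2 ▸ hgK)
  obtain ⟨T, hT, hle, h⟩ := key k le_rfl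
  rcases h with h | h
  · exact ⟨T, hT, h⟩
  · exact ⟨T, hT, Subgroup.eq_of_le_of_card_ge hle (hH ▸ h)⟩

/-- Burnside basis bound: if the Frattini subgroup of `H` has index `p ^ d` then `H` is
generated by at most `d` elements. -/
theorem h74_burnside_basis {G : Type*} [Group G] [Finite G] (p : ℕ) [Fact p.Prime]
    (H : Subgroup G) (d : ℕ) (hd : (frattini H).index = p ^ d) :
    ∃ T : Finset G, T.card ≤ d ∧ Subgroup.closure (T : Set G) = H := by
  classical
  have hcard : Nat.card (⊤ : Subgroup (H ⧸ frattini H)) = p ^ d := by
    rw [Subgroup.card_top, ← hd]
    rfl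
  obtain ⟨T', hT', hcl⟩ := h74_gen_le p (⊤ : Subgroup (H ⧸ frattini H)) d hcard
  let T2 : Finset H := T'.image Quotient.out
  have hT2 : T2.card ≤ d := le_trans Finset.card_image_le hT'
  have hmap : (Subgroup.closure (T2 : Set H)).map (QuotientGroup.mk' (frattini H)) = ⊤ := by
    rw [MonoidHom.map_closure, ← hcl]
    congr 1
    ext q
    constructor
    · rintro ⟨h, hh, rfl⟩
      rw [Finset.coe_image] at hh
      obtain ⟨q', hq', rfl⟩ := hh
      have : (QuotientGroup.mk' (frattini H)) (Quotient.out q') = q' := Quotient.out_eq q'
      rw [this]
      exact hq'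
    · intro hq
      refine ⟨Quotient.out q, ?_, Quotient.out_eq q⟩
      rw [Finset.coe_image]
      exact ⟨q, hq, rfl⟩
  have hsup : Subgroup.closure (T2 : Set H) ⊔ frattini H = ⊤ := by
    have h1 := congrArg (Subgroup.comap (QuotientGroup.mk' (frattini H))) hmap
    rw [QuotientGroup.comap_map_mk', Subgroup.comap_top] at h1
    rw [sup_comm]
    exact h1
  have htop : Subgroup.closure (T2 : Set H) = ⊤ := frattini_nongenerating hsup
  refine ⟨T2.image Subtype.val, le_trans Finset.card_image_le hT2, ?_⟩
  have h2 : Subgroup.closure ((T2.image Subtype.val : Finset G) : Set G) =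
      (Subgroup.closure (T2 : Set H)).map H.subtype := by
    rw [MonoidHom.map_closure, Finset.coe_image]
    rfl
  rw [h2, htop, ← MonoidHom.range_eq_map, Subgroup.range_subtype]

end Cfsg.Agent.Lib.helper74.PGenBasis
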