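import Mathlib
import Cfsg.Agent.Lib.helper65.PearlBasic

/-! S5238L piece D2 (racer copy by helper74): `rel_ph`. -/

set_option autoImplicit false

namespace Cfsg.Agent.Lib.helper65.PearlPow

open Cfsg.Agent.Lib.helper68

variable {H : Type*} [Group H]

/-- D2 (racer copy). -/
theorem h74_rel_ph {u v : ℕ} (x : H) {s s' : ℕ → H} (hs : PolySeq v s) (h : Rel u s s') :
    Rel (u + 1) (ph x s) (ph x s') := by
  unfold Rel at h ⊢
  have e1 : (fun n => (ph x s n)⁻¹ * ph x s' n) =
      fun n => com (com (s n) x) ((s n)⁻¹ * s' n) * com ((s n)⁻¹ * s' n) x := by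
    funext n
    unfold ph com
    group
  rw [e1]
  have hx : x ∈ gam H 1 := by
    unfold gam
    simp
  have h1 : PolySeq (u + 1) (fun n => com ((s n)⁻¹ * s' n) x) :=
    PolySeq.comm h (polyseq_const hx)
  have h2 : PolySeq (v + 1 + u) (fun n => com (com (s n) x) ((s n)⁻¹ * s' n)) :=
    PolySeq.comm (polyseq_ph x hs) h
  exact PolySeq.mul (PolySeq.mono (by omega) h2) h1

end Cfsg.Agent.Lib.helper65.PearlPow
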