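import Mathlib
import Cfsg.Agent.Lib.helper68.HallPet
import Cfsg.Agent.Lib.helper35.PearlG1

/-! S5238G pieces K1 (`pg_card`), K2 (`pg_x_notin`), K3 (`pg_com_surj`), K4 (`pg_uniserial`):
verbatim Skel statements (prefixed racer copies by helper74), wrappers over the landed
`Cfsg.Agent.Lib.helper35.PearlG1`. -/

set_option autoImplicit false

namespace Cfsg.Agent.Lib.helper65.PearlG

open Cfsg.Agent.Lib.helper68

variable {G : Type*} [Group G] [Finite G]

/-- K1 (racer copy), verbatim statement. -/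
theorem h74_pg_card (p : ℕ) [Fact p.Prime] (n : ℕ) (hG : Nat.card G = p ^ n) (x : G)
    (hC : Nat.card (Subgroup.centralizer ({x} : Set G)) = p ^ 2) (i : ℕ) (hi : 2 ≤ i)
    (hin : i ≤ n) : Nat.card (gam G i) = p ^ (n - i) :=
  Cfsg.Agent.Lib.helper35.PearlG.h35_pg_card p n hG x hC i hi hin

/-- K2 (racer copy), verbatim statement. -/
theorem h74_pg_x_notin (p : ℕ) [Fact p.Prime] (n : ℕ) (hG : Nat.card G = p ^ n) (hn : 3 ≤ n) (x : G)
    (hC : Nat.card (Subgroup.centralizer ({x} : Set G)) = p ^ 2) : x ∉ gam G 2 :=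
  (Cfsg.Agent.Lib.helper35.PearlG.h35_pg_series p n hG x hC hn).1

/-- K3 (racer copy), verbatim statement. -/
theorem h74_pg_com_surj (p : ℕ) [Fact p.Prime] (n : ℕ) (hG : Nat.card G = p ^ n) (x : G)
    (hC : Nat.card (Subgroup.centralizer ({x} : Set G)) = p ^ 2) (w : ℕ) (hw : 1 ≤ w)
    (hwn : w + 1 ≤ n) (m : G) (hm : m ∈ gam G (w + 1)) : ∃ g ∈ gam G w, m = com x g := by
  by_cases hn : 3 ≤ n
  · obtain ⟨g, hg, hgm⟩ := Cfsg.Agent.Lib.helper35.PearlG.h35_pg_onto p n hG x hC hn w hw m hm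
    exact ⟨g, hg, hgm.symm⟩
  · have hn2 : n = 2 := by omega
    have hw1 : w = 1 := by omega
    subst hw1
    subst hn2
    have h1 := h74_pg_card p 2 hG x hC 2 le_rfl le_rfl
    rw [Nat.sub_self, pow_zero] at h1
    have hbot : gam G 2 = ⊥ := Subgroup.card_eq_one.mp h1
    have hm1 : m = 1 := by
      have : m ∈ gam G 2 := hm
      rw [hbot, Subgroup.mem_bot] at this
      exact this
    refine ⟨1, Subgroup.one_mem _, ?_⟩
    rw [hm1]
    unfold com
    group

/-- K4 (racer copy), verbatim statement. -/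
theorem h74_pg_uniserial (p : ℕ) [Fact p.Prime] (n : ℕ) (hG : Nat.card G = p ^ n) (x : G)
    (hC : Nat.card (Subgroup.centralizer ({x} : Set G)) = p ^ 2) (i : ℕ) (hi : 2 ≤ i)
    (hin : i + 2 ≤ n) (m : G) (hm : m ∈ gam G i) (hm' : m ∉ gam G (i + 1)) :
    com m x ∉ gam G (i + 2) :=
  Cfsg.Agent.Lib.helper35.PearlG.h35_pg_uniserial p n hG x hC i hi hin m hm hm'

end Cfsg.Agent.Lib.helper65.PearlG
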