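import Mathlib
import Cfsg.Agent.Lib.helper65.PearlBasic
import Cfsg.Agent.Lib.helper74.PearlD2
import Cfsg.Agent.Lib.helper74.PearlI2

/-! S5238L piece S (racer copy by helper74): `s_claim`. -/

set_option autoImplicit false

namespace Cfsg.Agent.Lib.helper65.PearlPow

open Cfsg.Agent.Lib.helper68

variable {H : Type*} [Group H]

/-- S (racer copy). -/
theorem h74_s_claim (x g : H) {w : ℕ} (hw : 1 ≤ w) (hg : g ∈ gam H w) (j : ℕ) :
    Rel (w + j + 2) ((ph x)^[j] (dl (tt x g))) (dl ((ph x)^[j] (tt x g))) := by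
  induction j with
  | zero => exact rel_refl _ _
  | succ j ih =>
    rw [Function.iterate_succ_apply', Function.iterate_succ_apply']
    have ht : PolySeq w (tt x g) := tt_polyseq x g hg
    have hd : PolySeq (w + 1) (dl (tt x g)) := PolySeq.diff ht
    have hA : PolySeq (w + 1 + j) ((ph x)^[j] (dl (tt x g))) := polyseq_ph_iter x hd j
    have hB : PolySeq (w + j) ((ph x)^[j] (tt x g)) := polyseq_ph_iter x ht j
    have r1 : Rel (w + j + 2 + 1) (ph x ((ph x)^[j] (dl (tt x g))))
        (ph x (dl ((ph x)^[j] (tt x g)))) := h74_rel_ph x hA ih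
    have r2 : Rel (2 * (w + j) + 2) (ph x (dl ((ph x)^[j] (tt x g))))
        (dl (ph x ((ph x)^[j] (tt x g)))) := h74_rel_dl_ph x hB
    exact rel_trans (rel_mono (by omega) r1) (rel_mono (by omega) r2)

end Cfsg.Agent.Lib.helper65.PearlPow
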