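import Mathlib
import Cfsg.Agent.Lib.helper74.PronBasic

/-!
# Pronormality of overgroups of Sylow subgroups in extensions (helper74)

Internal form of the Guo–Maslova–Revin extension criterion.
-/

open scoped Pointwise

namespace Cfsg.Agent.Lib.helper74

section transfer

variable {G : Type*} [Group G]

/-- The image of a pronormal subgroup under a surjective homomorphism is pronormal. -/
theorem isPronormal_map {H : Type*} [Group H] (f : G →* H) (hf : Function.Surjective f)
    {K : Subgroup G} (hK : Cfsg.IsPronormal K) : Cfsg.IsPronormal (K.map f) := by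
  rw [isPronormal_iff_smul] at hK ⊢
  intro g'
  obtain ⟨g, rfl⟩ := hf g'
  obtain ⟨x, hx, hxe⟩ := hK g
  refine ⟨f x, ?_, ?_⟩
  · rw [← map_conj_smul, ← Subgroup.map_sup]
    exact Subgroup.mem_map_of_mem f hx
  · rw [← map_conj_smul, ← map_conj_smul, hxe]

/-- Pronormality of the image in a quotient, read in the group. -/
theorem exists_of_isPronormal_map_mk {Y : Subgroup G} [Y.Normal] {K : Subgroup G}
    (hK : Cfsg.IsPronormal (K.map (QuotientGroup.mk' Y))) (g : G) :
    ∃ x ∈ K ⊔ MulAut.conj g • K, MulAut.conj g • K ⊔ Y = MulAut.conj x • K ⊔ Y := by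
  rw [isPronormal_iff_smul] at hK
  obtain ⟨x', hx', hxe⟩ := hK (QuotientGroup.mk' Y g)
  rw [← map_conj_smul, ← Subgroup.map_sup] at hx'
  obtain ⟨x, hx, rfl⟩ := hx'
  refine ⟨x, hx, ?_⟩
  rw [← map_conj_smul, ← map_conj_smul] at hxe
  have := congrArg (Subgroup.comap (QuotientGroup.mk' Y)) hxe
  rw [QuotientGroup.comap_map_mk', QuotientGroup.comap_map_mk'] at this
  rw [sup_comm, this, sup_comm]

/-- Pronormality in a subgroup `M`, read in the group. -/
theorem pronOn_of_isPronormal_subgroupOf {K M : Subgroup G} (hKM : K ≤ M)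
    (hK : Cfsg.IsPronormal (K.subgroupOf M)) : PronOn K M := by
  rw [isPronormal_iff_smul] at hK
  intro g hg
  obtain ⟨x, hx, hxe⟩ := hK ⟨g, hg⟩
  refine ⟨x, ?_, ?_⟩
  · have := Subgroup.mem_map_of_mem M.subtype hx
    rw [Subgroup.map_sup, map_conj_smul, Subgroup.map_subgroupOf_eq_of_le hKM] at this
    exact this
  · have := congrArg (Subgroup.map M.subtype) hxe
    rw [map_conj_smul, map_conj_smul, Subgroup.map_subgroupOf_eq_of_le hKM] at this
    exact this

theorem isPronormal_of_pronOn {M : Subgroup G} {K' : Subgroup M}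
    (h : PronOn (K'.map M.subtype) M) : Cfsg.IsPronormal K' := by
  rw [isPronormal_iff_smul]
  intro g
  obtain ⟨x, hx, hxe⟩ := h g g.2
  have hKM : K'.map M.subtype ≤ M := Subgroup.map_subtype_le _
  have hxM : x ∈ M := by
    have : K'.map M.subtype ⊔ MulAut.conj (g : G) • K'.map M.subtype ≤ M :=
      sup_le hKM (conj_smul_le_of_mem hKM g.2)
    exact this hx
  refine ⟨⟨x, hxM⟩, ?_, ?_⟩
  · rw [← Subgroup.mem_map_iff_mem M.subtype_injective, Subgroup.map_sup, map_conj_smul]
    exact hx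
  · apply Subgroup.map_injective M.subtype_injective
    rw [map_conj_smul, map_conj_smul]
    exact hxe

end transfer

section main

variable {G : Type*} [Group G] [Finite G] {p : ℕ} [Fact p.Prime]

omit [Finite G] in
theorem card_mul_relIndex' {H L : Subgroup G} (h : H ≤ L) :
    Nat.card H * H.relIndex L = Nat.card L := by
  have := Subgroup.relIndex_mul_relIndex ⊥ H L bot_le h
  rwa [Subgroup.relIndex_bot_left, Subgroup.relIndex_bot_left] at this

/-- For `A` normal, `|A : K ∩ A|` divides `|G : K|`. -/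
theorem relIndex_dvd_index_of_normal_right (K A : Subgroup G) [A.Normal] :
    K.relIndex A ∣ K.index := by
  have hb : A.relIndex (K ⊔ A) = A.relIndex K := Subgroup.relIndex_sup_right K A
  have h1 : Nat.card (K ⊓ A : Subgroup G) * (K ⊓ A).relIndex A = Nat.card A :=
    card_mul_relIndex' inf_le_right
  have h2 : Nat.card (K ⊓ A : Subgroup G) * (K ⊓ A).relIndex K = Nat.card K :=
    card_mul_relIndex' inf_le_left
  have h3 : Nat.card K * K.relIndex (K ⊔ A) = Nat.card (K ⊔ A : Subgroup G) :=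
    card_mul_relIndex' le_sup_left
  have h4 : Nat.card A * A.relIndex (K ⊔ A) = Nat.card (K ⊔ A : Subgroup G) :=
    card_mul_relIndex' le_sup_right
  rw [Subgroup.inf_relIndex_right] at h1
  rw [Subgroup.inf_relIndex_left] at h2
  rw [hb] at h4
  have hpos : 0 < Nat.card (K ⊓ A : Subgroup G) := Nat.card_pos
  have hpos2 : 0 < A.relIndex K := by
    rcases Nat.eq_zero_or_pos (A.relIndex K) with h | h
    · rw [h, mul_zero] at h2
      exact absurd h2.symm (Nat.card_pos (α := K)).ne'
    · exact h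
  have key : Nat.card (K ⊓ A : Subgroup G) * A.relIndex K * K.relIndex (K ⊔ A)
      = Nat.card (K ⊓ A : Subgroup G) * A.relIndex K * K.relIndex A := by
    calc Nat.card (K ⊓ A : Subgroup G) * A.relIndex K * K.relIndex (K ⊔ A)
        = Nat.card K * K.relIndex (K ⊔ A) := by rw [h2]
      _ = Nat.card (K ⊔ A : Subgroup G) := h3
      _ = Nat.card A * A.relIndex K := h4.symm
      _ = Nat.card (K ⊓ A : Subgroup G) * K.relIndex A * A.relIndex K := by rw [h1]
      _ = Nat.card (K ⊓ A : Subgroup G) * A.relIndex K * K.relIndex A := by ring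
  have h5 : K.relIndex (K ⊔ A) = K.relIndex A :=
    Nat.eq_of_mul_eq_mul_left (Nat.mul_pos hpos hpos2) key
  rw [← h5]
  exact Subgroup.relIndex_dvd_index_of_le le_sup_left

/-- Step 4: elements of `N_G(T)` normalizing `K ⊓ A`. -/
theorem pron_step4 {A T K : Subgroup G} [A.Normal] (hTA : T ≤ A) (hT : IsPGroup p T)
    (hTidx : ¬ p ∣ T.relIndex A) (hTK : T ≤ K) (hK : ¬ p ∣ K.index)
    (hN : ∀ K : Subgroup G, T ≤ K → K ≤ Subgroup.normalizer (T : Set G) →
      ¬ p ∣ K.relIndex (Subgroup.normalizer (T : Set G)) →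
      PronOn K (Subgroup.normalizer (T : Set G)))
    {c : G} (hc : c ∈ Subgroup.normalizer (T : Set G))
    (hcL : MulAut.conj c • (K ⊓ A) = K ⊓ A) :
    ∃ u ∈ K ⊔ MulAut.conj c • K, MulAut.conj c • K = MulAut.conj u • K := by
  set N := Subgroup.normalizer (T : Set G) with hNdef
  set L := K ⊓ A with hLdef
  have hTL : T ≤ L := le_inf hTK hTA
  have hTN : T ≤ N := Subgroup.le_normalizer
  have hTLidx : ¬ p ∣ T.relIndex L := by
    intro h
    apply hTidx
    rw [← Subgroup.relIndex_mul_relIndex T L A hTL inf_le_right]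
    exact Dvd.dvd.mul_right h _
  have hKL : ∀ k ∈ K, MulAut.conj k • L = L := by
    intro k hk
    rw [hLdef, Subgroup.smul_inf, Subgroup.conj_smul_eq_self_of_mem hk,
      Subgroup.Normal.conj_smul_eq_self]
  -- Frattini: K = L ⊔ (K ⊓ N)
  have hF : K ≤ L ⊔ (K ⊓ N) := by
    intro k hk
    have h1 : MulAut.conj k • T ≤ L := by
      rw [← hKL k hk]
      exact Subgroup.pointwise_smul_le_pointwise_smul_iff.mpr hTL
    obtain ⟨w, hw, hwT⟩ := exists_conj_le_of_pgroup (M := L) hT hTLidx h1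
      (isPGroup_conj_smul hT k)
    have h2 : MulAut.conj (w * k) • T = T := by
      rw [conj_mul_smul]
      apply Subgroup.eq_of_le_of_card_ge hwT
      rw [card_conj_smul, card_conj_smul]
    have h3 : w * k ∈ N := conj_smul_eq_self_iff.mp h2
    have h4 : k = w⁻¹ * (w * k) := by group
    rw [h4]
    exact Subgroup.mul_mem_sup (L.inv_mem hw)
      (Subgroup.mem_inf.mpr ⟨K.mul_mem (inf_le_left (a := K) hw) hk, h3⟩)
  have hKeq : K = L ⊔ (K ⊓ N) := le_antisymm hF (sup_le inf_le_left inf_le_left)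
  -- K ⊓ N has index prime to p in N
  have hKNidx : ¬ p ∣ (K ⊓ N).relIndex N := by
    obtain ⟨S, hTS, hSK, hS, hSidx⟩ := exists_pgroup_between hTK hT
    have h1 : S ⊓ A ≤ T :=
      le_of_pgroup_of_relIndex (le_inf hTS hTA) inf_le_right (hS.to_le inf_le_left) hTidx
    have h2 : S ⊓ A = T := le_antisymm h1 (le_inf hTS hTA)
    have hSN : S ≤ N := by
      intro s hs
      apply conj_smul_eq_self_iff.mp
      rw [← h2, Subgroup.smul_inf, Subgroup.conj_smul_eq_self_of_mem hs,
        Subgroup.Normal.conj_smul_eq_self]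
    have hSi : ¬ p ∣ S.index := by
      rw [← Subgroup.relIndex_mul_index hSK]
      intro h
      rcases (Nat.Prime.dvd_mul Fact.out).mp h with h | h
      · exact hSidx h
      · exact hK h
    have hSKN : S ≤ K ⊓ N := le_inf hSK hSN
    intro h
    apply hSi
    rw [← Subgroup.relIndex_mul_index hSN,
      ← Subgroup.relIndex_mul_relIndex S (K ⊓ N) N hSKN inf_le_right]
    exact Dvd.dvd.mul_right (Dvd.dvd.mul_left h _) _
  obtain ⟨u, hu, hue⟩ := hN (K ⊓ N) (le_inf hTK hTN) inf_le_right hKNidx c hc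
  have huK : u ∈ K ⊔ MulAut.conj c • K :=
    (sup_le_sup inf_le_left
      (Subgroup.pointwise_smul_le_pointwise_smul_iff.mpr inf_le_left)) hu
  have hcL' : MulAut.conj c⁻¹ • L = L := by
    conv_lhs => rw [← hcL]
    exact conj_inv_smul_conj_smul c L
  -- u normalizes L
  have huL : u ∈ Subgroup.normalizer (L : Set G) := by
    have h1 : (K ⊓ N) ⊔ MulAut.conj c • (K ⊓ N) ≤ Subgroup.normalizer (L : Set G) := by
      apply sup_le
      · intro k hk
        exact conj_smul_eq_self_iff.mp (hKL k (Subgroup.mem_inf.mp hk).1)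
      · intro y hy
        rw [mem_conj_smul_iff] at hy
        apply conj_smul_eq_self_iff.mp
        have h2 : y = c * (c⁻¹ * y * c) * c⁻¹ := by group
        rw [h2, conj_mul_smul, conj_mul_smul, hcL', hKL _ (Subgroup.mem_inf.mp hy).1, hcL]
    exact h1 hu
  have huL' : MulAut.conj u⁻¹ • L = L := by
    have := conj_smul_eq_self_iff.mpr huL
    conv_lhs => rw [← this]
    exact conj_inv_smul_conj_smul u L
  refine ⟨u, huK, ?_⟩
  have hdL : MulAut.conj (u⁻¹ * c) • L = L := by
    rw [conj_mul_smul, hcL, huL']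
  have hdN : MulAut.conj (u⁻¹ * c) • (K ⊓ N) = K ⊓ N := by
    rw [conj_mul_smul, hue, conj_inv_smul_conj_smul]
  have hdK : MulAut.conj (u⁻¹ * c) • K = K := by
    conv_lhs => rw [hKeq]
    rw [Subgroup.smul_sup, hdL, hdN, ← hKeq]
  have h5 : c = u * (u⁻¹ * c) := by group
  conv_lhs => rw [h5]
  rw [conj_mul_smul, hdK]

/-- Steps 2–3: conjugation by the elements of `A`. -/
theorem pron_stepA {A T K : Subgroup G} [A.Normal] (hTA : T ≤ A) (hT : IsPGroup p T)
    (hTidx : ¬ p ∣ T.relIndex A) (hTK : T ≤ K) (hK : ¬ p ∣ K.index)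
    (hA : ∀ K : Subgroup G, K ≤ A → ¬ p ∣ K.relIndex A → PronOn K A)
    (hN : ∀ K : Subgroup G, T ≤ K → K ≤ Subgroup.normalizer (T : Set G) →
      ¬ p ∣ K.relIndex (Subgroup.normalizer (T : Set G)) →
      PronOn K (Subgroup.normalizer (T : Set G)))
    {a : G} (ha : a ∈ A) :
    ∃ z ∈ K ⊔ MulAut.conj a • K, MulAut.conj a • K = MulAut.conj z • K := by
  set L := K ⊓ A with hLdef
  have hTL : T ≤ L := le_inf hTK hTA
  have hLK : L ≤ K := inf_le_left
  have hLA : L ≤ A := inf_le_right
  have hLidx : ¬ p ∣ L.relIndex A := by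
    rw [hLdef, Subgroup.inf_relIndex_right]
    intro h
    exact hK (h.trans (relIndex_dvd_index_of_normal_right K A))
  have hTLidx : ¬ p ∣ T.relIndex L := by
    intro h
    apply hTidx
    rw [← Subgroup.relIndex_mul_relIndex T L A hTL hLA]
    exact Dvd.dvd.mul_right h _
  -- Step 2
  obtain ⟨z₁, hz₁, hz₁e⟩ := hA L hLA hLidx a ha
  have hz₁K : z₁ ∈ K ⊔ MulAut.conj a • K :=
    (sup_le_sup hLK (Subgroup.pointwise_smul_le_pointwise_smul_iff.mpr hLK)) hz₁
  have hz₁A : z₁ ∈ A := by
    have : L ⊔ MulAut.conj a • L ≤ A := sup_le hLA (conj_smul_le_of_mem hLA ha)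
    exact this hz₁
  have hbL : MulAut.conj (z₁⁻¹ * a) • L = L := by
    rw [conj_mul_smul, hz₁e, conj_inv_smul_conj_smul]
  -- Step 3
  have h1 : MulAut.conj (z₁⁻¹ * a) • T ≤ L := by
    rw [← hbL]
    exact Subgroup.pointwise_smul_le_pointwise_smul_iff.mpr hTL
  obtain ⟨w, hw, hwT⟩ := exists_conj_le_of_pgroup (M := L) hT hTLidx h1
    (isPGroup_conj_smul hT _)
  set c := w * (z₁⁻¹ * a) with hcdef
  have hcT : MulAut.conj c • T = T := by
    rw [hcdef, conj_mul_smul]
    apply Subgroup.eq_of_le_of_card_ge hwT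
    rw [card_conj_smul, card_conj_smul]
  have hcN : c ∈ Subgroup.normalizer (T : Set G) := conj_smul_eq_self_iff.mp hcT
  have hwL : MulAut.conj w • L = L := Subgroup.conj_smul_eq_self_of_mem hw
  have hcL : MulAut.conj c • L = L := by rw [hcdef, conj_mul_smul, hbL, hwL]
  obtain ⟨u, hu, hue⟩ := pron_step4 hTA hT hTidx hTK hK hN hcN hcL
  have ha_eq : a = z₁ * w⁻¹ * c := by rw [hcdef]; group
  have hwK : w ∈ K ⊔ MulAut.conj a • K := Subgroup.mem_sup_left (hLK hw)
  have hcK : MulAut.conj c • K ≤ K ⊔ MulAut.conj a • K := by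
    have h2 : MulAut.conj c • K = MulAut.conj (w * z₁⁻¹) • MulAut.conj a • K := by
      rw [← conj_mul_smul, hcdef]
      congr 2
      group
    rw [h2]
    exact conj_smul_le_of_mem le_sup_right (mul_mem hwK (inv_mem hz₁K))
  have huK : u ∈ K ⊔ MulAut.conj a • K := (sup_le le_sup_left hcK) hu
  refine ⟨z₁ * w⁻¹ * u, mul_mem (mul_mem hz₁K (inv_mem hwK)) huK, ?_⟩
  conv_lhs => rw [ha_eq]
  rw [conj_mul_smul, hue, ← conj_mul_smul]

/-- The extension criterion, internal form: `A ⊴ G`, `T` a Sylow `p`-subgroup of `A`;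
if overgroups of Sylow `p`-subgroups are pronormal in `A` and in `N_G(T)` (those containing `T`),
their images are pronormal in `G/A` and normalizers of the images lift, then all overgroups of
Sylow `p`-subgroups of `G` are pronormal. -/
theorem pron_main {A T : Subgroup G} [A.Normal] (hTA : T ≤ A) (hT : IsPGroup p T)
    (hTidx : ¬ p ∣ T.relIndex A)
    (hA : ∀ K : Subgroup G, K ≤ A → ¬ p ∣ K.relIndex A → PronOn K A)
    (hN : ∀ K : Subgroup G, T ≤ K → K ≤ Subgroup.normalizer (T : Set G) →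
      ¬ p ∣ K.relIndex (Subgroup.normalizer (T : Set G)) →
      PronOn K (Subgroup.normalizer (T : Set G)))
    (hQ1 : ∀ K : Subgroup G, ¬ p ∣ K.index → ∀ g : G,
      ∃ y ∈ K ⊔ MulAut.conj g • K, MulAut.conj g • K ⊔ A = MulAut.conj y • K ⊔ A)
    (hQ2 : ∀ K : Subgroup G, ¬ p ∣ K.index → ∀ g : G, MulAut.conj g • K ⊔ A = K ⊔ A →
      ∃ a ∈ A, ∃ n ∈ Subgroup.normalizer (K : Set G), g = a * n)
    (K : Subgroup G) (hK : ¬ p ∣ K.index) : PronOn K ⊤ := by
  have key : ∀ K : Subgroup G, ¬ p ∣ K.index → T ≤ K → PronOn K ⊤ := by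
    intro K hK hTK g _
    obtain ⟨y, hy, hye⟩ := hQ1 K hK g
    have h1 : MulAut.conj (y⁻¹ * g) • K ⊔ A = K ⊔ A := by
      have := congrArg (fun X => MulAut.conj y⁻¹ • X) hye
      simp only [Subgroup.smul_sup, Subgroup.Normal.conj_smul_eq_self,
        conj_inv_smul_conj_smul] at this
      rw [conj_mul_smul]
      exact this
    obtain ⟨a, ha, n, hn, hg1⟩ := hQ2 K hK _ h1
    have hnK : MulAut.conj n • K = K := conj_smul_eq_self_iff.mpr hn
    have h2 : MulAut.conj g • K = MulAut.conj y • MulAut.conj a • K := by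
      have : g = y * (a * n) := by rw [← hg1]; group
      rw [this, conj_mul_smul, conj_mul_smul, hnK]
    obtain ⟨z, hz, hze⟩ := pron_stepA hTA hT hTidx hTK hK hA hN ha
    have h3 : MulAut.conj a • K ≤ K ⊔ MulAut.conj g • K := by
      have : MulAut.conj a • K = MulAut.conj y⁻¹ • MulAut.conj g • K := by
        rw [h2, conj_inv_smul_conj_smul]
      rw [this]
      exact conj_smul_le_of_mem le_sup_right (inv_mem hy)
    have hzJ : z ∈ K ⊔ MulAut.conj g • K := (sup_le le_sup_left h3) hz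
    exact ⟨y * z, mul_mem hy hzJ, by rw [h2, hze, ← conj_mul_smul]⟩
  have hLidx : ¬ p ∣ (K ⊓ A).relIndex A := by
    rw [Subgroup.inf_relIndex_right]
    intro h
    exact hK (h.trans (relIndex_dvd_index_of_normal_right K A))
  obtain ⟨S₁, -, hS₁L, hS₁, hS₁idx⟩ :=
    exists_pgroup_between (p := p) (T := ⊥) (K := K ⊓ A) bot_le IsPGroup.of_bot
  have hS₁A : ¬ p ∣ S₁.relIndex A := by
    rw [← Subgroup.relIndex_mul_relIndex S₁ (K ⊓ A) A hS₁L inf_le_right]
    intro h
    rcases (Nat.Prime.dvd_mul Fact.out).mp h with h | h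
    · exact hS₁idx h
    · exact hLidx h
  obtain ⟨w, -, hwT⟩ := exists_conj_le_of_pgroup (M := A) hS₁ hS₁A hTA hT
  have hTK' : T ≤ MulAut.conj w⁻¹ • K := by
    rw [Subgroup.subset_pointwise_smul_iff, ← map_inv, inv_inv]
    exact hwT.trans (hS₁L.trans inf_le_left)
  have := key (MulAut.conj w⁻¹ • K) (by rw [index_conj_smul]; exact hK) hTK'
  exact pronOn_top_conj w⁻¹ this

/-- Converse, part (a): pronormality descends to overgroups of `T` in `N_G(T)`. -/
theorem pron_normalizer_of_pron {A T : Subgroup G} [A.Normal] (hTA : T ≤ A) (hT : IsPGroup p T)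
    (hTidx : ¬ p ∣ T.relIndex A)
    (h : ∀ K : Subgroup G, ¬ p ∣ K.index → PronOn K ⊤)
    (K : Subgroup G) (hKN : K ≤ Subgroup.normalizer (T : Set G))
    (hKidx : ¬ p ∣ K.relIndex (Subgroup.normalizer (T : Set G))) :
    PronOn K (Subgroup.normalizer (T : Set G)) := by
  have hNidx : ¬ p ∣ (Subgroup.normalizer (T : Set G)).index := by
    obtain ⟨S, hTS, -, hS, hSidx⟩ := exists_pgroup_between (le_top : T ≤ ⊤) hT
    rw [Subgroup.relIndex_top_right] at hSidx
    have h1 : S ⊓ A ≤ T :=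
      le_of_pgroup_of_relIndex (le_inf hTS hTA) inf_le_right (hS.to_le inf_le_left) hTidx
    have h2 : S ⊓ A = T := le_antisymm h1 (le_inf hTS hTA)
    have hSN : S ≤ Subgroup.normalizer (T : Set G) := by
      intro s hs
      apply conj_smul_eq_self_iff.mp
      rw [← h2, Subgroup.smul_inf, Subgroup.conj_smul_eq_self_of_mem hs,
        Subgroup.Normal.conj_smul_eq_self]
    intro h
    exact hSidx (h.trans (Subgroup.index_dvd_of_le hSN))
  have hKi : ¬ p ∣ K.index := by
    rw [← Subgroup.relIndex_mul_index hKN]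
    intro h
    rcases (Nat.Prime.dvd_mul Fact.out).mp h with h | h
    · exact hKidx h
    · exact hNidx h
  intro g _
  exact h K hKi g (Subgroup.mem_top g)

omit [Finite G] in
/-- Converse, part (b): normalizers of images of pronormal subgroups lift. -/
theorem pron_normalizer_decomp {A : Subgroup G} [A.Normal] {K : Subgroup G} (hK : PronOn K ⊤)
    (g : G) (hg : MulAut.conj g • K ⊔ A = K ⊔ A) :
    ∃ a ∈ A, ∃ n ∈ Subgroup.normalizer (K : Set G), g = a * n := by
  obtain ⟨x, hx, hxe⟩ := hK g (Subgroup.mem_top g)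
  have hx' : x ∈ A ⊔ K := by
    have : K ⊔ MulAut.conj g • K ≤ A ⊔ K := by
      apply sup_le le_sup_right
      calc MulAut.conj g • K ≤ MulAut.conj g • K ⊔ A := le_sup_left
        _ = K ⊔ A := hg
        _ = A ⊔ K := sup_comm _ _
    exact this hx
  obtain ⟨a, ha, k, hk, rfl⟩ := Subgroup.mem_sup_of_normal_left.mp hx'
  refine ⟨a, ha, k * (a * k)⁻¹ * g, ?_, by group⟩
  apply conj_smul_eq_self_iff.mp
  rw [conj_mul_smul, conj_mul_smul, hxe, conj_inv_smul_conj_smul,
    Subgroup.conj_smul_eq_self_of_mem hk]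

end main

end Cfsg.Agent.Lib.helper74
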