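import Mathlib
import Cfsg.Agent.Lib.helper74.PronMain

/-!
# Translating the pronormality hypotheses of S4270/S4271 to the internal form (helper74)
-/

open scoped Pointwise

namespace Cfsg.Agent.Lib.helper74

section ext

variable {G : Type*} [Group G] [Finite G] {p : ℕ} [Fact p.Prime]

/-- Data carried by a Sylow `p`-subgroup of `A`, read in `G`. -/
theorem sylow_map_subtype_data {A T : Subgroup G}
    (hT : ∃ P : Sylow p ↥A, (P : Subgroup ↥A).map A.subtype = T) :
    T ≤ A ∧ IsPGroup p T ∧ ¬ p ∣ T.relIndex A := by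
  obtain ⟨P, rfl⟩ := hT
  refine ⟨Subgroup.map_subtype_le _, P.2.map _, ?_⟩
  have : ((P : Subgroup A).map A.subtype).relIndex A = (P : Subgroup A).index := by
    rw [Subgroup.relIndex, Subgroup.subgroupOf,
      Subgroup.comap_map_eq_self_of_injective A.subtype_injective]
  rw [this]
  exact P.not_dvd_index

/-- Pronormality of overgroups of Sylow subgroups of the subgroup `A`, internal form. -/
theorem pronOn_of_subgroup {A : Subgroup G}
    (hA : ∀ K : Subgroup ↥A, (∃ P : Sylow p ↥A, (P : Subgroup ↥A) ≤ K) → Cfsg.IsPronormal K)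
    (K : Subgroup G) (hKA : K ≤ A) (hK : ¬ p ∣ K.relIndex A) : PronOn K A := by
  apply pronOn_of_isPronormal_subgroupOf hKA
  apply hA
  exact (exists_sylow_le_iff (K.subgroupOf A)).mpr hK

/-- Pronormality of the images in `G ⧸ A`, internal form. -/
theorem exists_of_quotient {A : Subgroup G} [A.Normal]
    (hQ : ∀ K : Subgroup (G ⧸ A), (∃ P : Sylow p (G ⧸ A), (P : Subgroup (G ⧸ A)) ≤ K) →
      Cfsg.IsPronormal K)
    (K : Subgroup G) (hK : ¬ p ∣ K.index) (g : G) :
    ∃ y ∈ K ⊔ MulAut.conj g • K, MulAut.conj g • K ⊔ A = MulAut.conj y • K ⊔ A := by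
  apply exists_of_isPronormal_map_mk
  apply hQ
  rw [exists_sylow_le_iff]
  intro h
  exact hK (h.trans (Subgroup.index_map_dvd K (QuotientGroup.mk'_surjective A)))

/-- Pronormality in `M ⧸ Y` gives internal pronormality of the subgroups between `Y` and `M`. -/
theorem pronOn_of_quotient {M Y : Subgroup G} [(Y.subgroupOf M).Normal]
    (h : ∀ K : Subgroup (↥M ⧸ Y.subgroupOf M),
      (∃ P : Sylow p (↥M ⧸ Y.subgroupOf M), (P : Subgroup (↥M ⧸ Y.subgroupOf M)) ≤ K) →
        Cfsg.IsPronormal K)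
    (K : Subgroup G) (hYK : Y ≤ K) (hKM : K ≤ M) (hKidx : ¬ p ∣ K.relIndex M) :
    PronOn K M := by
  have hpr : Cfsg.IsPronormal ((K.subgroupOf M).map (QuotientGroup.mk' (Y.subgroupOf M))) := by
    apply h
    rw [exists_sylow_le_iff]
    intro hd
    exact hKidx (hd.trans (Subgroup.index_map_dvd _ (QuotientGroup.mk'_surjective _)))
  have hYK' : Y.subgroupOf M ≤ K.subgroupOf M := Subgroup.comap_mono hYK
  intro c hc
  obtain ⟨x, hx, hxe⟩ := exists_of_isPronormal_map_mk hpr ⟨c, hc⟩
  have h1 : Y.subgroupOf M ≤ MulAut.conj (⟨c, hc⟩ : M) • K.subgroupOf M := by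
    have := Subgroup.pointwise_smul_le_pointwise_smul_iff (a := MulAut.conj (⟨c, hc⟩ : M)) |>.mpr hYK'
    rwa [Subgroup.Normal.conj_smul_eq_self] at this
  have h2 : Y.subgroupOf M ≤ MulAut.conj x • K.subgroupOf M := by
    have := Subgroup.pointwise_smul_le_pointwise_smul_iff (a := MulAut.conj x) |>.mpr hYK'
    rwa [Subgroup.Normal.conj_smul_eq_self] at this
  rw [sup_eq_left.mpr h1, sup_eq_left.mpr h2] at hxe
  refine ⟨x, ?_, ?_⟩
  · have := Subgroup.mem_map_of_mem M.subtype hx
    rw [Subgroup.map_sup, map_conj_smul, Subgroup.map_subgroupOf_eq_of_le hKM] at this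
    exact this
  · have := congrArg (Subgroup.map M.subtype) hxe
    rw [map_conj_smul, map_conj_smul, Subgroup.map_subgroupOf_eq_of_le hKM] at this
    exact this

/-- Internal pronormality of the subgroups between `Y` and `M` gives pronormality in
`M ⧸ Y`. -/
theorem quotient_of_pronOn {M Y : Subgroup G} (hYM : Y ≤ M) [(Y.subgroupOf M).Normal]
    (h : ∀ K : Subgroup G, Y ≤ K → K ≤ M → ¬ p ∣ K.relIndex M → PronOn K M)
    (K' : Subgroup (↥M ⧸ Y.subgroupOf M))
    (hK' : ∃ P : Sylow p (↥M ⧸ Y.subgroupOf M), (P : Subgroup (↥M ⧸ Y.subgroupOf M)) ≤ K') :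
    Cfsg.IsPronormal K' := by
  rw [exists_sylow_le_iff] at hK'
  set K₁ : Subgroup M := K'.comap (QuotientGroup.mk' (Y.subgroupOf M)) with hK₁
  have hsurj := QuotientGroup.mk'_surjective (Y.subgroupOf M)
  have hidx : K₁.index = K'.index := Subgroup.index_comap_of_surjective K' hsurj
  have hYK₁ : Y.subgroupOf M ≤ K₁ := by
    intro x hx
    rw [hK₁, Subgroup.mem_comap]
    have : QuotientGroup.mk' (Y.subgroupOf M) x = 1 := (QuotientGroup.eq_one_iff x).mpr hx
    rw [this]
    exact K'.one_mem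
  have hYK : Y ≤ K₁.map M.subtype := by
    rw [← Subgroup.map_subgroupOf_eq_of_le hYM]
    exact Subgroup.map_mono hYK₁
  have hrel : (K₁.map M.subtype).relIndex M = K₁.index := by
    rw [Subgroup.relIndex, Subgroup.subgroupOf,
      Subgroup.comap_map_eq_self_of_injective M.subtype_injective]
  have hpr : PronOn (K₁.map M.subtype) M :=
    h _ hYK (Subgroup.map_subtype_le _) (by rw [hrel, hidx]; exact hK')
  have h1 : Cfsg.IsPronormal K₁ := isPronormal_of_pronOn hpr
  have h2 := isPronormal_map (QuotientGroup.mk' (Y.subgroupOf M)) hsurj h1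
  rwa [hK₁, Subgroup.map_comap_eq_self_of_surjective hsurj] at h2

omit [Finite G] in
/-- If the normalizer of the image of `K` in `G ⧸ A` is covered by `N_G(K)`, then elements
normalizing `K` modulo `A` decompose. -/
theorem decomp_of_normalizer_le {A : Subgroup G} [A.Normal] {K : Subgroup G}
    (hle : Subgroup.normalizer ((K.map (QuotientGroup.mk' A) : Subgroup (G ⧸ A)) : Set (G ⧸ A))
      ≤ (Subgroup.normalizer (K : Set G)).map (QuotientGroup.mk' A))
    (g : G) (hg : MulAut.conj g • K ⊔ A = K ⊔ A) :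
    ∃ a ∈ A, ∃ n ∈ Subgroup.normalizer (K : Set G), g = a * n := by
  have h1 : (MulAut.conj g • K).map (QuotientGroup.mk' A) = K.map (QuotientGroup.mk' A) := by
    have := congrArg (Subgroup.map (QuotientGroup.mk' A)) hg
    rw [Subgroup.map_sup, Subgroup.map_sup, QuotientGroup.map_mk'_self, sup_bot_eq,
      sup_bot_eq] at this
    exact this
  rw [map_conj_smul] at h1
  have h2 := hle (conj_smul_eq_self_iff.mp h1)
  obtain ⟨n, hn, hng⟩ := h2
  refine ⟨g * n⁻¹, ?_, n, hn, by group⟩
  rw [← QuotientGroup.eq_one_iff (N := A), QuotientGroup.mk_mul, QuotientGroup.mk_inv]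
  have : (QuotientGroup.mk n : G ⧸ A) = QuotientGroup.mk g := hng
  rw [this, mul_inv_cancel]

omit [Finite G] in
/-- Conversely, decomposition gives the equality of normalizers. -/
theorem normalizer_map_eq_of_decomp {A : Subgroup G} [A.Normal] {K : Subgroup G}
    (h : ∀ g : G, MulAut.conj g • K ⊔ A = K ⊔ A →
      ∃ a ∈ A, ∃ n ∈ Subgroup.normalizer (K : Set G), g = a * n) :
    (Subgroup.normalizer (K : Set G)).map (QuotientGroup.mk' A)
      = Subgroup.normalizer ((K.map (QuotientGroup.mk' A) : Subgroup (G ⧸ A)) : Set (G ⧸ A)) := by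
  apply le_antisymm (Subgroup.le_normalizer_map _)
  intro g' hg'
  obtain ⟨g, rfl⟩ := QuotientGroup.mk'_surjective A g'
  have h1 := conj_smul_eq_self_iff.mpr hg'
  rw [← map_conj_smul] at h1
  have h2 := congrArg (Subgroup.comap (QuotientGroup.mk' A)) h1
  rw [QuotientGroup.comap_map_mk', QuotientGroup.comap_map_mk'] at h2
  obtain ⟨a, ha, n, hn, rfl⟩ := h g (by rw [sup_comm, h2, sup_comm])
  refine ⟨n, hn, ?_⟩
  change (QuotientGroup.mk n : G ⧸ A) = QuotientGroup.mk (a * n)
  rw [QuotientGroup.mk_mul, (QuotientGroup.eq_one_iff a).mpr ha, one_mul]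

/-- In a finite group with self-normalizing Sylow `p`-subgroups, overgroups of Sylow
`p`-subgroups are pronormal. -/
theorem isPronormal_of_self_normalizing
    (hX : ∀ P : Sylow p G, Subgroup.normalizer ((P : Subgroup G) : Set G) = P)
    (K : Subgroup G) (hK : ∃ P : Sylow p G, (P : Subgroup G) ≤ K) : Cfsg.IsPronormal K := by
  obtain ⟨P, hP⟩ := hK
  rw [isPronormal_iff_smul]
  intro g
  have h1 : (P : Subgroup G) ≤ K ⊔ MulAut.conj g • K := hP.trans le_sup_left
  have h2 : MulAut.conj g • (P : Subgroup G) ≤ K ⊔ MulAut.conj g • K :=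
    (Subgroup.pointwise_smul_le_pointwise_smul_iff.mpr hP).trans le_sup_right
  have h3 : ¬ p ∣ (P : Subgroup G).relIndex (K ⊔ MulAut.conj g • K) := fun h =>
    P.not_dvd_index (h.trans (Subgroup.relIndex_dvd_index_of_le h1))
  obtain ⟨w, hw, hwP⟩ := exists_conj_le_of_pgroup P.2 h3 h2 (isPGroup_conj_smul P.2 g)
  have h4 : MulAut.conj (w * g) • (P : Subgroup G) = P := by
    rw [conj_mul_smul]
    apply Subgroup.eq_of_le_of_card_ge hwP
    rw [card_conj_smul, card_conj_smul]
  have h5 : w * g ∈ K := by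
    have := conj_smul_eq_self_iff.mp h4
    rw [hX P] at this
    exact hP this
  refine ⟨w⁻¹, inv_mem hw, ?_⟩
  have h6 : g = w⁻¹ * (w * g) := by group
  conv_lhs => rw [h6]
  rw [conj_mul_smul, Subgroup.conj_smul_eq_self_of_mem h5]

/-- In a finite group with self-normalizing Sylow `p`-subgroups, overgroups of Sylow
`p`-subgroups are self-normalizing. -/
theorem normalizer_le_of_self_normalizing
    (hX : ∀ P : Sylow p G, Subgroup.normalizer ((P : Subgroup G) : Set G) = P)
    (K : Subgroup G) (hK : ∃ P : Sylow p G, (P : Subgroup G) ≤ K) :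
    Subgroup.normalizer (K : Set G) ≤ K := by
  obtain ⟨P, hP⟩ := hK
  intro g hg
  have hgK : MulAut.conj g • K = K := conj_smul_eq_self_iff.mpr hg
  have h2 : MulAut.conj g • (P : Subgroup G) ≤ K := by
    rw [← hgK]
    exact Subgroup.pointwise_smul_le_pointwise_smul_iff.mpr hP
  have h3 : ¬ p ∣ (P : Subgroup G).relIndex K := fun h =>
    P.not_dvd_index (h.trans (Subgroup.relIndex_dvd_index_of_le hP))
  obtain ⟨w, hw, hwP⟩ := exists_conj_le_of_pgroup P.2 h3 h2 (isPGroup_conj_smul P.2 g)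
  have h4 : MulAut.conj (w * g) • (P : Subgroup G) = P := by
    rw [conj_mul_smul]
    apply Subgroup.eq_of_le_of_card_ge hwP
    rw [card_conj_smul, card_conj_smul]
  have h5 : w * g ∈ K := by
    have := conj_smul_eq_self_iff.mp h4
    rw [hX P] at this
    exact hP this
  have h6 : g = w⁻¹ * (w * g) := by group
  rw [h6]
  exact K.mul_mem (K.inv_mem hw) h5

end ext

end Cfsg.Agent.Lib.helper74
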