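import Cfsg.Agent.Lib.helper74.QODefs
import Cfsg.Agent.Lib.helper3.QO_L6c
import Cfsg.Agent.Lib.helper78.QO_L1
import Cfsg.Agent.Lib.helper75.QO_L2
import Cfsg.Agent.Lib.helper56.QO_L5a
import Cfsg.Agent.Lib.helper75.QO_L5b
import Cfsg.Agent.Lib.helper6.QO_L7
import Cfsg.Agent.Lib.helper29.QO_T
import Cfsg.Agent.Lib.helper78.QO_D
import Cfsg.Agent.Lib.helper29.QO_N
import Cfsg.Agent.Lib.helper86.QO_REPa

set_option autoImplicit false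

namespace Cfsg.Agent.Lib.helper74.QO

/-- PIECE REP: the replacement theorem, from helper86's `replacement_of` and the landed pieces. -/
theorem replacement {V : Type*} [AddCommGroup V] [Finite V] (p : ℕ) [Fact p.Prime]
    (hp2 : p ≠ 2) (hV : ∀ v : V, p • v = 0) (𝔾 : Subgroup (AddMonoid.End V)ˣ)
    (E : ℕ → AddSubgroup (AddMonoid.End V)) (n : ℕ) (hn : E n = ⊥)
    (hmono : ∀ i, E (i + 1) ≤ E i)
    (hE1 : ∀ g ∈ 𝔾, ((g : (AddMonoid.End V)ˣ) : AddMonoid.End V) - 1 ∈ E 1)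
    (hEm : ∀ i, ∀ e ∈ E i, ∀ g ∈ 𝔾,
        (((g : (AddMonoid.End V)ˣ) : AddMonoid.End V) - 1) * e ∈ E (i + 1) ∧
        e * (((g : (AddMonoid.End V)ˣ) : AddMonoid.End V) - 1) ∈ E (i + 1))
    (A : Subgroup (AddMonoid.End V)ˣ) (hA𝔾 : A ≤ 𝔾) (hA : Quad A)
    (x : (AddMonoid.End V)ˣ) (hx : x ∈ 𝔾)
    (hxq : ((x : AddMonoid.End V) - 1) * ((x : AddMonoid.End V) - 1) = 0)
    (hN : ∀ s : ℤ, ∀ b ∈ A,
      x ^ s * b * x ^ (-s) ∈ Subgroup.normalizer (A : Set (AddMonoid.End V)ˣ))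
    (hx' : x ∉ Subgroup.normalizer (A : Set (AddMonoid.End V)ˣ)) :
    ∃ A' : Subgroup (AddMonoid.End V)ˣ, A' ≤ 𝔾 ∧ Quad A' ∧ Nat.card A' = Nat.card A ∧
      Nat.card (Fix A) ≤ Nat.card (Fix A') ∧ pot E n A < pot E n A' :=
  Cfsg.Agent.Lib.helper86.QO.replacement_of p hp2 hV 𝔾 E n hn hmono hE1 hEm A hA𝔾 hA x hx hxq hN
    hx'
    (fun W ξ hξ hW => Cfsg.Agent.Lib.helper78.QO.lim_mul W ξ hξ hW)
    (fun W ξ hξ => Cfsg.Agent.Lib.helper75.QO.lim_card W ξ hξ)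
    (fun W ξ E' hE' hc => Cfsg.Agent.Lib.helper56.QO.lim_inf_card W ξ E' hE' hc)
    (fun W ξ E' n' hn' hmono' h0 hE' hc hcard =>
      Cfsg.Agent.Lib.helper75.QO.lim_strict W ξ E' n' hn' hmono' h0 hE' hc hcard)
    (fun H B hB hBH y hy hyq k hk hN' =>
      Cfsg.Agent.Lib.helper3.QO.lim_units_mem H B hB hBH y hy hyq k hk hN')
    (fun W ξ hξ => Cfsg.Agent.Lib.helper6.QO.lim_fix W ξ hξ)

/-- PIECE LIN (main assembly) -/
theorem lin {V : Type*} [AddCommGroup V] [Finite V] (p : ℕ) [Fact p.Prime]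
    (hp2 : p ≠ 2) (hV : ∀ v : V, p • v = 0) (𝔾 : Subgroup (AddMonoid.End V)ˣ)
    (h𝔾 : IsPGroup p 𝔾) (E : Subgroup (AddMonoid.End V)ˣ) (hE : E ≤ 𝔾) (hE1 : E ≠ ⊥)
    (hEc : ∀ a ∈ E, ∀ b ∈ E, a * b = b * a) (hEp : ∀ a ∈ E, a ^ p = 1)
    (hoff : Nat.card V ≤ Nat.card E * Nat.card (Fix E)) :
    ∃ A : Subgroup (AddMonoid.End V)ˣ, A ≤ 𝔾 ∧ A ≠ ⊥ ∧ Quad A ∧
      Nat.card V ≤ Nat.card A * Nat.card (Fix A) ∧
      ∀ g ∈ 𝔾, ∀ a ∈ A, g * a * g⁻¹ ∈ Subgroup.normalizer (A : Set (AddMonoid.End V)ˣ) := by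
  classical
  have : Finite (AddMonoid.End V)ˣ := inferInstance
  obtain ⟨F, n, hn, hmono, hF1, hFm⟩ :=
    Cfsg.Agent.Lib.helper29.QO.exists_filtration p hV 𝔾 h𝔾
  obtain ⟨A₀, hA₀E, hA₀1, hA₀q, hA₀off⟩ :=
    Cfsg.Agent.Lib.helper29.QO.exists_quad_offender p hV E hE1 hEc hEp hoff
  let Q : Set (Subgroup (AddMonoid.End V)ˣ) :=
    {A | A ≤ 𝔾 ∧ A ≠ ⊥ ∧ Quad A ∧ Nat.card V ≤ Nat.card A * Nat.card (Fix A)}
  have hne : Q.Nonempty := ⟨A₀, hA₀E.trans hE, hA₀1, hA₀q, hA₀off⟩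
  obtain ⟨A, hAQ, hmax⟩ := Set.exists_max_image Q (pot F n) (Set.toFinite Q) hne
  obtain ⟨hA𝔾, hA1, hAq, hAoff⟩ := hAQ
  refine ⟨A, hA𝔾, hA1, hAq, hAoff, ?_⟩
  by_contra hnot
  obtain ⟨x, hx𝔾, ⟨g, hg, a, ha, rfl⟩, hxN, hN⟩ :=
    Cfsg.Agent.Lib.helper78.QO.exists_bad_conj p 𝔾 h𝔾 A hA𝔾 hnot
  have hxq : (((g * a * g⁻¹ : (AddMonoid.End V)ˣ) : AddMonoid.End V) - 1)
      * (((g * a * g⁻¹ : (AddMonoid.End V)ˣ) : AddMonoid.End V) - 1) = 0 := by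
    have h := hAq a ha a ha
    have e1 : ((g⁻¹ : (AddMonoid.End V)ˣ) : AddMonoid.End V) * (g : AddMonoid.End V) = 1 := by
      simp
    have e2 : (g : AddMonoid.End V) * ((g⁻¹ : (AddMonoid.End V)ˣ) : AddMonoid.End V) = 1 := by
      simp
    have e : ((g * a * g⁻¹ : (AddMonoid.End V)ˣ) : AddMonoid.End V) - 1
        = (g : AddMonoid.End V) * ((a : AddMonoid.End V) - 1)
          * ((g⁻¹ : (AddMonoid.End V)ˣ) : AddMonoid.End V) := by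
      rw [mul_sub, sub_mul, mul_one, e2]; simp
    rw [e]
    calc (g : AddMonoid.End V) * ((a : AddMonoid.End V) - 1)
          * ((g⁻¹ : (AddMonoid.End V)ˣ) : AddMonoid.End V)
          * ((g : AddMonoid.End V) * ((a : AddMonoid.End V) - 1)
          * ((g⁻¹ : (AddMonoid.End V)ˣ) : AddMonoid.End V))
        = (g : AddMonoid.End V) * (((a : AddMonoid.End V) - 1)
          * (((g⁻¹ : (AddMonoid.End V)ˣ) : AddMonoid.End V) * (g : AddMonoid.End V))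
          * ((a : AddMonoid.End V) - 1)) * ((g⁻¹ : (AddMonoid.End V)ˣ) : AddMonoid.End V) := by
          noncomm_ring
      _ = 0 := by rw [e1, mul_one, h, mul_zero, zero_mul]
  obtain ⟨A', hA'𝔾, hA'q, hcard, hfix, hpot⟩ :=
    replacement p hp2 hV 𝔾 F n hn hmono hF1 hFm A hA𝔾 hAq _ hx𝔾 hxq hN hxN
  have hA'1 : A' ≠ ⊥ := by
    intro h
    apply hA1
    have h1 : Nat.card A = 1 := by rw [← hcard, h]; simp
    exact Subgroup.eq_bot_of_card_eq A h1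
  have hA'off : Nat.card V ≤ Nat.card A' * Nat.card (Fix A') :=
    calc Nat.card V ≤ Nat.card A * Nat.card (Fix A) := hAoff
      _ ≤ Nat.card A' * Nat.card (Fix A') := by
          rw [hcard]; exact Nat.mul_le_mul_left _ hfix
  have := hmax A' ⟨hA'𝔾, hA'1, hA'q, hA'off⟩
  omega

end Cfsg.Agent.Lib.helper74.QO
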