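import Cfsg.Agent.Lib.helper74.QOMain
import Cfsg.Prelude.Def_Transfer

set_option autoImplicit false
open scoped IsMulCommutative

namespace Cfsg.Agent.Lib.helper74.QO

section
variable {Ω : Type*} [Group Ω] (V : Subgroup Ω) [IsMulCommutative ↥V]

/-- conjugation by `g ∈ N(V)` as an additive endomorphism of `Additive V` -/
def conjEnd (g : Ω) (hg : g ∈ Subgroup.normalizer (V : Set Ω)) : AddMonoid.End (Additive ↥V) :=
  AddMonoidHom.mk' (fun v => Additive.ofMul
      (⟨g * ((Additive.toMul v : ↥V) : Ω) * g⁻¹,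
        (Subgroup.mem_normalizer_iff.mp hg _).mp (Additive.toMul v).2⟩ : ↥V))
    (by
      intro a b
      apply Additive.toMul.injective
      apply Subtype.ext
      simp [mul_assoc])

theorem conjEnd_apply (g : Ω) (hg : g ∈ Subgroup.normalizer (V : Set Ω)) (v : Additive ↥V) :
    ((Additive.toMul (conjEnd V g hg v) : ↥V) : Ω) = g * ((Additive.toMul v : ↥V) : Ω) * g⁻¹ := rfl

/-- conjugation as a unit -/
def conjUnit (g : Ω) (hg : g ∈ Subgroup.normalizer (V : Set Ω)) : (AddMonoid.End (Additive ↥V))ˣ where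
  val := conjEnd V g hg
  inv := conjEnd V g⁻¹ (inv_mem hg)
  val_inv := by
    apply AddMonoidHom.ext
    intro v
    apply Additive.toMul.injective
    apply Subtype.ext
    show g * (g⁻¹ * ((Additive.toMul v : ↥V) : Ω) * g⁻¹⁻¹) * g⁻¹ = ((Additive.toMul v : ↥V) : Ω)
    group
  inv_val := by
    apply AddMonoidHom.ext
    intro v
    apply Additive.toMul.injective
    apply Subtype.ext
    show g⁻¹ * (g * ((Additive.toMul v : ↥V) : Ω) * g⁻¹) * g⁻¹⁻¹ = ((Additive.toMul v : ↥V) : Ω)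
    group

theorem conjUnit_apply (g : Ω) (hg : g ∈ Subgroup.normalizer (V : Set Ω)) (v : Additive ↥V) :
    ((Additive.toMul (((conjUnit V g hg : (AddMonoid.End (Additive ↥V))ˣ) :
      AddMonoid.End (Additive ↥V)) v) : ↥V) : Ω) = g * ((Additive.toMul v : ↥V) : Ω) * g⁻¹ := rfl

/-- the conjugation representation of `G ≤ N(V)` -/
def conjRep (G : Subgroup Ω) (hGV : G ≤ Subgroup.normalizer (V : Set Ω)) :
    ↥G →* (AddMonoid.End (Additive ↥V))ˣ where
  toFun g := conjUnit V (g : Ω) (hGV g.2)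
  map_one' := by
    apply Units.ext
    apply AddMonoidHom.ext
    intro v
    apply Additive.toMul.injective
    apply Subtype.ext
    show ((1 : ↥G) : Ω) * ((Additive.toMul v : ↥V) : Ω) * ((1 : ↥G) : Ω)⁻¹
      = ((Additive.toMul v : ↥V) : Ω)
    simp
  map_mul' a b := by
    apply Units.ext
    apply AddMonoidHom.ext
    intro v
    apply Additive.toMul.injective
    apply Subtype.ext
    show ((a * b : ↥G) : Ω) * ((Additive.toMul v : ↥V) : Ω) * ((a * b : ↥G) : Ω)⁻¹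
      = (a : Ω) * ((b : Ω) * ((Additive.toMul v : ↥V) : Ω) * (b : Ω)⁻¹) * (a : Ω)⁻¹
    simp [mul_assoc]

theorem conjRep_apply (G : Subgroup Ω) (hGV : G ≤ Subgroup.normalizer (V : Set Ω)) (g : ↥G)
    (v : Additive ↥V) :
    ((Additive.toMul (((conjRep V G hGV g : (AddMonoid.End (Additive ↥V))ˣ) :
      AddMonoid.End (Additive ↥V)) v) : ↥V) : Ω) = (g : Ω) * ((Additive.toMul v : ↥V) : Ω) * (g : Ω)⁻¹ := rfl

theorem conjRep_injective (G : Subgroup Ω) (hGV : G ≤ Subgroup.normalizer (V : Set Ω))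
    (hfaith : G ⊓ Subgroup.centralizer (V : Set Ω) = ⊥) :
    Function.Injective (conjRep V G hGV) := by
  rw [injective_iff_map_eq_one]
  intro g hg
  have h1 : (g : Ω) ∈ G ⊓ Subgroup.centralizer (V : Set Ω) := by
    refine Subgroup.mem_inf.mpr ⟨g.2, ?_⟩
    rw [Subgroup.mem_centralizer_iff]
    intro v hv
    have := conjRep_apply V G hGV g (Additive.ofMul ⟨v, hv⟩)
    rw [hg] at this
    simp at this
    calc v * (g : Ω) = ((g : Ω) * v * (g : Ω)⁻¹) * (g : Ω) := by rw [← this]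
      _ = (g : Ω) * v := by group
  rw [hfaith, Subgroup.mem_bot] at h1
  exact Subtype.ext h1


theorem one_add_pow_of_sq_zero {R : Type*} [Ring R] (w : R) (hw : w * w = 0) (n : ℕ) :
    (1 + w) ^ n = 1 + n • w := by
  induction n with
  | zero => simp
  | succ n ih =>
    rw [pow_succ, ih, mul_add, mul_one, add_mul, one_mul, smul_mul_assoc, hw, smul_zero, add_zero,
      succ_nsmul]
    abel

theorem transport [Finite Ω] (p : ℕ) [Fact p.Prime] (hp : 5 ≤ p) (G : Subgroup Ω)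
    (hV : Cfsg.IsElementaryAbelian p V) (hG : IsPGroup p ↥G)
    (hGV : G ≤ Subgroup.normalizer (V : Set Ω))
    (hfaith : G ⊓ Subgroup.centralizer (V : Set Ω) = ⊥)
    (hF : ∃ E : Subgroup Ω, E ≤ G ∧ E ≠ ⊥ ∧ Cfsg.IsElementaryAbelian p E ∧
      Nat.card ↥V ≤ Nat.card ↥E * Nat.card ↥(V ⊓ Subgroup.centralizer (E : Set Ω))) :
    ∃ A : Subgroup Ω, A ≤ G ∧ A ≠ ⊥ ∧ Cfsg.IsElementaryAbelian p A ∧
      Nat.card ↥V ≤ Nat.card ↥A * Nat.card ↥(V ⊓ Subgroup.centralizer (A : Set Ω)) ∧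
      ⁅⁅V, A⁆, A⁆ = ⊥ ∧
      ∀ g ∈ Subgroup.closure {x : Ω | ∃ h ∈ G, ∃ a ∈ A, x = h * a * h⁻¹},
        ∀ a ∈ A, g * a * g⁻¹ ∈ A := by
  classical
  obtain ⟨E, hEG, hE1, hEel, hEoff⟩ := hF
  set ρ := conjRep V G hGV with hρ
  have hinj : Function.Injective ρ := conjRep_injective V G hGV hfaith
  have hp2 : p ≠ 2 := by omega
  have hV' : ∀ v : Additive ↥V, p • v = 0 := by
    intro v
    apply Additive.toMul.injective
    apply Subtype.ext
    show (((Additive.toMul v : ↥V) ^ p : ↥V) : Ω) = 1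
    rw [Subgroup.coe_pow]
    exact hV.2 _ (Additive.toMul v).2
  have hcardV : Nat.card (Additive ↥V) = Nat.card ↥V := Nat.card_congr Additive.toMul
  -- cardinalities of images
  have hcard : ∀ B : Subgroup Ω, B ≤ G →
      Nat.card ↥((B.subgroupOf G).map ρ) = Nat.card ↥B := by
    intro B hB
    rw [← Nat.card_congr (Subgroup.equivMapOfInjective (B.subgroupOf G) ρ hinj).toEquiv]
    exact Nat.card_congr (Subgroup.subgroupOfEquivOfLe hB).toEquiv
  have hfix : ∀ B : Subgroup Ω, B ≤ G →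
      Nat.card (Fix ((B.subgroupOf G).map ρ))
        = Nat.card ↥(V ⊓ Subgroup.centralizer (B : Set Ω)) := by
    intro B hB
    symm
    refine Nat.card_congr ⟨fun x => ⟨Additive.ofMul ⟨x.1, x.2.1⟩, ?_⟩,
      fun y => ⟨((Additive.toMul y.1 : ↥V) : Ω),
        Subgroup.mem_inf.mpr ⟨(Additive.toMul y.1).2, ?_⟩⟩,
      fun x => rfl, fun y => rfl⟩
    · rintro _ ⟨b, hb, rfl⟩
      apply Additive.toMul.injective
      apply Subtype.ext
      show (b : Ω) * (x : Ω) * (b : Ω)⁻¹ = (x : Ω)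
      have hx := Subgroup.mem_centralizer_iff.mp x.2.2 (b : Ω) (Subgroup.mem_subgroupOf.mp hb)
      rw [hx]; group
    · rw [Subgroup.mem_centralizer_iff]
      intro b hb
      have hy := y.2 (ρ ⟨b, hB hb⟩) ⟨⟨b, hB hb⟩, Subgroup.mem_subgroupOf.mpr hb, rfl⟩
      have hy2 : b * ((Additive.toMul y.1 : ↥V) : Ω) * b⁻¹ = ((Additive.toMul y.1 : ↥V) : Ω) :=
        congrArg (fun z : Additive ↥V => ((Additive.toMul z : ↥V) : Ω)) hy
      calc b * ((Additive.toMul y.1 : ↥V) : Ω)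
          = (b * ((Additive.toMul y.1 : ↥V) : Ω) * b⁻¹) * b := by group
        _ = ((Additive.toMul y.1 : ↥V) : Ω) * b := by rw [hy2]
  -- apply the linear theorem
  have hE'1 : (E.subgroupOf G).map ρ ≠ ⊥ := by
    intro h
    apply hE1
    have h1 : Nat.card ↥E = 1 := by rw [← hcard E hEG, h]; simp
    exact Subgroup.eq_bot_of_card_eq E h1
  have hE'c : ∀ a ∈ (E.subgroupOf G).map ρ, ∀ b ∈ (E.subgroupOf G).map ρ, a * b = b * a := by
    rintro _ ⟨a, ha, rfl⟩ _ ⟨b, hb, rfl⟩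
    rw [← map_mul, ← map_mul]
    congr 1
    apply Subtype.ext
    haveI : IsMulCommutative ↥E := hEel.1
    have hc := mul_comm' (⟨(a : Ω), Subgroup.mem_subgroupOf.mp ha⟩ : ↥E)
      ⟨(b : Ω), Subgroup.mem_subgroupOf.mp hb⟩
    have hc2 : (a : Ω) * (b : Ω) = (b : Ω) * (a : Ω) := congrArg (fun z : ↥E => (z : Ω)) hc
    exact hc2
  have hE'p : ∀ a ∈ (E.subgroupOf G).map ρ, a ^ p = 1 := by
    rintro _ ⟨a, ha, rfl⟩
    rw [← map_pow]
    have : a ^ p = 1 := by
      apply Subtype.ext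
      rw [Subgroup.coe_pow]
      exact hEel.2 _ (Subgroup.mem_subgroupOf.mp ha)
    rw [this, map_one]
  have hE'off : Nat.card (Additive ↥V) ≤ Nat.card ↥((E.subgroupOf G).map ρ)
      * Nat.card (Fix ((E.subgroupOf G).map ρ)) := by
    rw [hcardV, hcard E hEG, hfix E hEG]; exact hEoff
  obtain ⟨A', hA'r, hA'1, hA'q, hA'off, hA'n⟩ :=
    lin p hp2 hV' ρ.range (hG.of_surjective ρ.rangeRestrict ρ.rangeRestrict_surjective)
      ((E.subgroupOf G).map ρ) (Subgroup.map_le_range ρ _) hE'1 hE'c hE'p hE'off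
  -- pull back
  set A : Subgroup Ω := (A'.comap ρ).map G.subtype with hAdef
  have hAG : A ≤ G := Subgroup.map_subtype_le _
  have hAsub : A.subgroupOf G = A'.comap ρ :=
    Subgroup.comap_map_eq_self_of_injective G.subtype_injective _
  have hAmap : (A.subgroupOf G).map ρ = A' := by
    rw [hAsub]; exact Subgroup.map_comap_eq_self hA'r
  have hmem : ∀ a ∈ A, ∃ h : a ∈ G, ρ ⟨a, h⟩ ∈ A' := by
    rintro _ ⟨a, ha, rfl⟩
    exact ⟨a.2, ha⟩
  have hmem' : ∀ a (h : a ∈ G), ρ ⟨a, h⟩ ∈ A' → a ∈ A := fun a h ha => ⟨⟨a, h⟩, ha, rfl⟩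
  have hcardA : Nat.card ↥A = Nat.card ↥A' := by rw [← hcard A hAG, hAmap]
  have hfixA : Nat.card ↥(V ⊓ Subgroup.centralizer (A : Set Ω)) = Nat.card (Fix A') := by
    rw [← hfix A hAG, hAmap]
  have hcommA' : ∀ a ∈ A', ∀ b ∈ A', a * b = b * a := by
    intro a ha b hb
    apply Units.ext
    have h1 := hA'q a ha b hb
    have h2 := hA'q b hb a ha
    have e1 : (a : AddMonoid.End (Additive ↥V)) * (b : AddMonoid.End (Additive ↥V))
        = ((a : AddMonoid.End (Additive ↥V)) - 1) * ((b : AddMonoid.End (Additive ↥V)) - 1)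
          + (a : AddMonoid.End (Additive ↥V)) + (b : AddMonoid.End (Additive ↥V)) - 1 := by
      noncomm_ring
    have e2 : (b : AddMonoid.End (Additive ↥V)) * (a : AddMonoid.End (Additive ↥V))
        = ((b : AddMonoid.End (Additive ↥V)) - 1) * ((a : AddMonoid.End (Additive ↥V)) - 1)
          + (a : AddMonoid.End (Additive ↥V)) + (b : AddMonoid.End (Additive ↥V)) - 1 := by
      noncomm_ring
    rw [Units.val_mul, Units.val_mul, e1, e2, h1, h2]
  have hpowA' : ∀ a ∈ A', a ^ p = 1 := by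
    intro a ha
    apply Units.ext
    have h1 := hA'q a ha a ha
    have e : (a : AddMonoid.End (Additive ↥V)) = 1 + ((a : AddMonoid.End (Additive ↥V)) - 1) := by
      abel
    rw [Units.val_pow_eq_pow_val, e, one_add_pow_of_sq_zero _ h1]
    have : p • ((a : AddMonoid.End (Additive ↥V)) - 1) = 0 := by
      apply AddMonoidHom.ext
      intro v
      show p • (((a : AddMonoid.End (Additive ↥V)) - 1) v) = 0
      exact hV' _
    rw [this]; simp
  refine ⟨A, hAG, ?_, ⟨?_, ?_⟩, ?_, ?_, ?_⟩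
  · intro h
    apply hA'1
    have h1 : Nat.card ↥A' = 1 := by rw [← hcardA, h]; simp
    exact Subgroup.eq_bot_of_card_eq A' h1
  · refine IsMulCommutative.of_comm ?_
    intro x y
    obtain ⟨hx, hx'⟩ := hmem x.1 x.2
    obtain ⟨hy, hy'⟩ := hmem y.1 y.2
    have h := hcommA' _ hx' _ hy'
    rw [← map_mul, ← map_mul] at h
    have h2 := congrArg Subtype.val (hinj h)
    exact Subtype.ext h2
  · intro a ha
    obtain ⟨h, h'⟩ := hmem a ha
    have h1 := hpowA' _ h'
    rw [← map_pow, ← map_one ρ] at h1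
    have h2 := congrArg Subtype.val (hinj h1)
    simpa using h2
  · rw [hcardA, hfixA, ← hcardV]; exact hA'off
  · rw [Subgroup.commutator_eq_bot_iff_le_centralizer, Subgroup.commutator_le]
    intro v hv a ha
    rw [Subgroup.mem_centralizer_iff]
    intro b hb
    obtain ⟨hbG, hb'⟩ := hmem b hb
    obtain ⟨haG, ha'⟩ := hmem a ha
    have hq := hA'q _ hb' _ ha'
    have hq2 := congrArg (fun f : AddMonoid.End (Additive ↥V) => f (Additive.ofMul ⟨v, hv⟩)) hq
    have hq2' : ((ρ ⟨b, hbG⟩ : (AddMonoid.End (Additive ↥V))ˣ) : AddMonoid.End (Additive ↥V))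
          (((ρ ⟨a, haG⟩ : (AddMonoid.End (Additive ↥V))ˣ) : AddMonoid.End (Additive ↥V))
            (Additive.ofMul ⟨v, hv⟩) - Additive.ofMul ⟨v, hv⟩)
        - (((ρ ⟨a, haG⟩ : (AddMonoid.End (Additive ↥V))ˣ) : AddMonoid.End (Additive ↥V))
            (Additive.ofMul ⟨v, hv⟩) - Additive.ofMul ⟨v, hv⟩) = 0 := hq2
    rw [sub_eq_zero] at hq2'
    have hq3 := congrArg (fun z : Additive ↥V => ((Additive.toMul z : ↥V) : Ω)) hq2'
    have key : b * (a * v * a⁻¹ / v) * b⁻¹ = a * v * a⁻¹ / v := hq3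
    rw [commutatorElement_def]
    have e : v * a * v⁻¹ * a⁻¹ = (a * v * a⁻¹ / v)⁻¹ := by rw [div_eq_mul_inv]; group
    rw [e]
    generalize a * v * a⁻¹ / v = z at key ⊢
    calc b * z⁻¹ = (b * z * b⁻¹)⁻¹ * b := by group
      _ = z⁻¹ * b := by rw [key]
  · intro g hg a ha
    have hle : Subgroup.closure {x : Ω | ∃ h ∈ G, ∃ a ∈ A, x = h * a * h⁻¹}
        ≤ Subgroup.normalizer (A : Set Ω) := by
      rw [Subgroup.closure_le]
      rintro _ ⟨h, hh, c, hc, rfl⟩
      obtain ⟨hcG, hc'⟩ := hmem c hc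
      have hn := hA'n (ρ ⟨h, hh⟩) ⟨_, rfl⟩ _ hc'
      rw [← map_inv, ← map_mul, ← map_mul] at hn
      show h * c * h⁻¹ ∈ Subgroup.normalizer (A : Set Ω)
      rw [Subgroup.mem_normalizer_iff]
      have hxG : h * c * h⁻¹ ∈ G := G.mul_mem (G.mul_mem hh hcG) (G.inv_mem hh)
      intro y
      constructor
      · intro hy
        obtain ⟨hyG, hy'⟩ := hmem y hy
        have := (Subgroup.mem_normalizer_iff.mp hn (ρ ⟨y, hyG⟩)).mp hy'
        rw [← map_inv, ← map_mul, ← map_mul] at this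
        exact hmem' _ (G.mul_mem (G.mul_mem hxG hyG) (G.inv_mem hxG)) this
      · intro hy
        obtain ⟨hyG', hy'⟩ := hmem _ hy
        have hyG : y ∈ G := by
          have : y = (h * c * h⁻¹)⁻¹ * (h * c * h⁻¹ * y * (h * c * h⁻¹)⁻¹) * (h * c * h⁻¹) := by
            group
          rw [this]
          exact G.mul_mem (G.mul_mem (G.inv_mem hxG) hyG') hxG
        refine hmem' y hyG ?_
        refine (Subgroup.mem_normalizer_iff.mp hn (ρ ⟨y, hyG⟩)).mpr ?_
        rw [← map_inv, ← map_mul, ← map_mul]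
        exact hy'
    exact (Subgroup.mem_normalizer_iff.mp (hle hg) a).mp ha

end

end Cfsg.Agent.Lib.helper74.QO
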