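import Mathlib

/-! S5977/S5978 block [A], KUNIQ sub-split, piece EVEN (racing copy by helper74). -/

set_option autoImplicit false

namespace Cfsg.Agent.Lib.helper2

open Matrix

theorem h74_qfu_even_card {F : Type*} [Field F] {ι : Type} [Fintype ι] [DecidableEq ι]
    (δ : F) (hδ : ∀ r : F, r ^ 2 ≠ δ + 0 * r) (κ : Matrix ι ι F)
    (hκ : κ * κ = δ • (1 : Matrix ι ι F)) : Even (Fintype.card ι) := by
  by_contra hodd
  rw [Nat.not_even_iff_odd] at hodd
  obtain ⟨k, hk⟩ := hodd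
  have hδ0 : δ ≠ 0 := by
    intro h
    apply hδ 0
    rw [h]; ring
  have hdet : κ.det * κ.det = δ ^ (Fintype.card ι) := by
    rw [← Matrix.det_mul, hκ, Matrix.det_smul, Matrix.det_one, mul_one]
  rw [hk] at hdet
  have hk0 : δ ^ k ≠ 0 := pow_ne_zero _ hδ0
  have h3 : (κ.det / δ ^ k) ^ 2 = δ := by
    rw [div_pow, sq, hdet, div_eq_iff (pow_ne_zero 2 hk0)]
    ring
  exact hδ _ (by rw [h3]; ring)

end Cfsg.Agent.Lib.helper2
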