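import Mathlib
import Cfsg.Prelude.Def_GeometricClasses
import Cfsg.Agent.Lib.helper24.SfoDefs

/-! S5977/S5978 block [A], KUNIQ sub-split, piece FIB (racing copy by helper74). -/

set_option autoImplicit false

namespace Cfsg.Agent.Lib.helper2

open Cfsg.Geo Matrix Cfsg.Agent.Lib.helper24

theorem h74_qfu_fib {F : Type*} [Field F] [Fintype F] {ι : Type} [Fintype ι] [DecidableEq ι]
    (Q : (ι → F) → F) (δ : F) [Fact (∀ r : F, r ^ 2 ≠ δ + 0 * r)]
    (d : ℕ) (Φ : (Fin d → QuadraticAlgebra F δ 0) ≃+ (ι → F))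
    (qk : (ι → F) → QuadraticAlgebra F δ 0) (hre : ∀ v, (qk v).re = Q v) :
    Nat.card {v : ι → F // Q v = 1} =
      ∑ b : F, sfoCount (fun k => qk (Φ k)) (⟨1, b⟩ : QuadraticAlgebra F δ 0) := by
  haveI : Finite (Fin d → QuadraticAlgebra F δ 0) := Finite.of_equiv _ Φ.symm.toEquiv
  have h1 : ∑ b : F, sfoCount (fun k => qk (Φ k)) (⟨1, b⟩ : QuadraticAlgebra F δ 0) =
      Nat.card (Σ b : F, {k : Fin d → QuadraticAlgebra F δ 0 //
        qk (Φ k) = (⟨1, b⟩ : QuadraticAlgebra F δ 0)}) := by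
    rw [Nat.card_sigma]
    rfl
  rw [h1]
  apply Nat.card_congr
  exact
    { toFun := fun v => ⟨(qk v.1).im, ⟨Φ.symm v.1, by
          rw [AddEquiv.apply_symm_apply]
          ext
          · rw [hre]; exact v.2
          · rfl⟩⟩
      invFun := fun s => ⟨Φ s.2.1, by
          rw [← hre, s.2.2]⟩
      left_inv := fun v => Subtype.ext (by simp)
      right_inv := fun s => by
          rcases s with ⟨b, k, hk⟩
          apply Sigma.subtype_ext
          · show (qk (Φ k)).im = b
            rw [hk]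
          · show Φ.symm (Φ k) = k
            rw [AddEquiv.symm_apply_apply] }

end Cfsg.Agent.Lib.helper2
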