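import Mathlib
import Cfsg.Prelude.Def_PLocal
import Cfsg.Agent.Lib.helper74.RegularP
import Cfsg.Agent.Lib.helper68.RegularP

/-! A finite regular `p`-group generated by elements of order dividing `p` has exponent `p`;
in particular a finite `p`-group of class less than `p` generated by such elements (helper74). -/

set_option autoImplicit false

namespace Cfsg.Agent.Lib.helper74

/-- A finite regular `p`-group generated by elements `s` with `s ^ p = 1` has exponent `p`. -/
theorem h74_regular_exp_of_gen {G : Type*} [Group G] [Finite G] {p : ℕ} [Fact p.Prime]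
    (hG : Cfsg.IsRegularPGroup p G) (S : Set G) (hS : ∀ s ∈ S, s ^ p = 1)
    (hgen : Subgroup.closure S = ⊤) : ∀ g : G, g ^ p = 1 := by
  intro g
  have hle : Subgroup.closure S ≤ omega hG 1 := by
    rw [Subgroup.closure_le]
    intro s hs
    have h1 : s ^ p ^ 1 = 1 := by
      rw [pow_one]
      exact hS s hs
    exact (mem_omega hG 1 s).2 h1
  have hg : g ∈ omega hG 1 := hle (hgen ▸ Subgroup.mem_top g)
  have h2 := (mem_omega hG 1 g).1 hg
  rw [pow_one] at h2
  exact h2

/-- A finite `p`-group of class less than `p` (`lowerCentralSeries (p - 1) = ⊥`) generated by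
elements `s` with `s ^ p = 1` has exponent `p`. -/
theorem h74_exp_p_of_class_lt {G : Type*} [Group G] [Finite G] {p : ℕ} [Fact p.Prime]
    (hG : IsPGroup p G) (hcl : (⊤ : Subgroup G).lowerCentralSeries (p - 1) = ⊥)
    (S : Set G) (hS : ∀ s ∈ S, s ^ p = 1) (hgen : Subgroup.closure S = ⊤) :
    ∀ g : G, g ^ p = 1 :=
  h74_regular_exp_of_gen (Cfsg.Agent.Lib.helper68.regular_of_class_lt hG hcl) S hS hgen

end Cfsg.Agent.Lib.helper74
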