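import Mathlib
import Cfsg.Agent.S0644

/-!
Shared lemmas (helper74): regular `p`-groups, one level at a time.

`RegLevel p n G` is the `n`-th instance of the condition in `Cfsg.IsRegularPGroup`. For a finite
`p`-group satisfying `RegLevel p n G`:
* `level_pow_mul_pow`: products of `p ^ n`-th powers of elements of a subgroup `K` are such powers;
* `level_mem_powerClosure_iff`: `y ∈ powerClosure p n H ↔ ∃ x ∈ H, y = x ^ p ^ n`;
* `level_commutator_powerClosure_le`: `⁅℧_n(H), ℧_n(H)⁆ ≤ ℧_n(⁅H, H⁆)`.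
`regLevel_of_one`: the level-one condition implies every level (P. Hall), hence
`isRegularPGroup_of_regLevel_one`.
-/

set_option autoImplicit false
open Cfsg
open scoped commutatorElement

namespace Cfsg.Agent.Lib.helper74

open Cfsg.Agent.S0644

variable {G : Type*} [Group G]

/-- The `n`-th instance of the regularity condition of `Cfsg.IsRegularPGroup`. -/
def RegLevel (p n : ℕ) (G : Type*) [Group G] : Prop :=
  ∀ a b : G, ∃ c ∈ Cfsg.powerClosure p n
      ⁅Subgroup.closure ({a, b} : Set G), Subgroup.closure ({a, b} : Set G)⁆,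
    (a * b) ^ (p ^ n) = a ^ (p ^ n) * b ^ (p ^ n) * c

theorem regLevel_of_isRegularPGroup {p : ℕ} (hG : Cfsg.IsRegularPGroup p G) (n : ℕ) :
    RegLevel p n G := fun a b => hG.2 a b n

theorem level_pow_mul_pow [Finite G] {p : ℕ} [Fact p.Prime] (hP : IsPGroup p G) {n : ℕ}
    (hn : RegLevel p n G) (K : Subgroup G) :
    ∀ a ∈ K, ∀ b ∈ K, ∃ z ∈ K, a ^ p ^ n * b ^ p ^ n = z ^ p ^ n := by
  induction' hc : Nat.card K using Nat.strong_induction_on with m ih generalizing K
  have : Group.IsNilpotent G := hP.isNilpotent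
  intro a ha b hb
  have hle : Subgroup.closure ({a, b} : Set G) ≤ K := by
    rw [Subgroup.closure_le]
    rintro z (rfl | rfl) <;> assumption
  have haM : a ∈ Subgroup.closure ({a, b} : Set G) := Subgroup.subset_closure (by simp)
  have hbM : b ∈ Subgroup.closure ({a, b} : Set G) := Subgroup.subset_closure (by simp)
  by_cases hab : ⁅Subgroup.closure ({a, b} : Set G), Subgroup.closure ({a, b} : Set G)⁆ = ⊥
  · have h1 : ⁅a, b⁆ = 1 := by
      have := Subgroup.commutator_mem_commutator haM hbM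
      rwa [hab, Subgroup.mem_bot] at this
    have hcomm : Commute a b := by
      rw [commutatorElement_eq_one_iff_commute] at h1
      exact h1
    exact ⟨a * b, K.mul_mem ha hb, (hcomm.mul_pow _).symm⟩
  · obtain ⟨c, hc', h⟩ := hn a b
    have hMne : Subgroup.closure ({a, b} : Set G) ≠ ⊥ := by
      rintro h0
      apply hab
      rw [h0, eq_bot_iff, Subgroup.commutator_le]
      intro u hu v hv
      rw [Subgroup.mem_bot] at hu hv
      simp [hu, hv]
    have hDlt : ⁅Subgroup.closure ({a, b} : Set G), Subgroup.closure ({a, b} : Set G)⁆ <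
        Subgroup.closure ({a, b} : Set G) := Group.IsSolvable.commutator_lt_of_ne_bot hMne
    have hMcard : Nat.card (Subgroup.closure ({a, b} : Set G)) ≤ m := by
      rw [← hc]
      exact Subgroup.card_le_of_le hle
    have hDcard : Nat.card (⁅Subgroup.closure ({a, b} : Set G),
        Subgroup.closure ({a, b} : Set G)⁆ : Subgroup G) < m :=
      lt_of_lt_of_le (card_lt_of_le_of_ne hDlt.le hDlt.ne) hMcard
    have hPD := ih _ hDcard _ rfl
    obtain ⟨e, he, hce⟩ := mem_powerClosure_of_mul _ hPD c⁻¹ (Subgroup.inv_mem _ hc')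
    obtain ⟨L, hLM, hLcard, habL, hDL⟩ := exists_proper_ge_commutator hP
      (Subgroup.closure ({a, b} : Set G)) hab (Subgroup.mul_mem _ haM hbM)
    have hPL := ih _ (lt_of_lt_of_le hLcard hMcard) L rfl
    obtain ⟨z, hz, hz'⟩ := hPL (a * b) habL e (hDL he)
    refine ⟨z, hle (hLM hz), ?_⟩
    rw [← hz', ← hce, h]
    group

theorem level_mem_powerClosure_iff [Finite G] {p : ℕ} [Fact p.Prime] (hP : IsPGroup p G) {n : ℕ}
    (hn : RegLevel p n G) (H : Subgroup G) (y : G) :
    y ∈ Cfsg.powerClosure p n H ↔ ∃ x ∈ H, y = x ^ p ^ n :=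
  ⟨mem_powerClosure_of_mul H (level_pow_mul_pow hP hn H) y,
    fun h => Subgroup.subset_closure h⟩

theorem level_commutator_powerClosure_le [Finite G] {p : ℕ} [Fact p.Prime] (hP : IsPGroup p G)
    {n : ℕ} (hn : RegLevel p n G) (H : Subgroup G) :
    ⁅Cfsg.powerClosure p n H, Cfsg.powerClosure p n H⁆ ≤ Cfsg.powerClosure p n ⁅H, H⁆ := by
  have hNn : ((Cfsg.powerClosure p n ⁅H, H⁆).subgroupOf H).Normal := by
    refine ⟨fun x hx g => ?_⟩
    rw [Subgroup.mem_subgroupOf] at hx ⊢
    exact powerClosure_commutator_conj H g.2 hx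
  let θ : ↥H →* ↥H ⧸ (Cfsg.powerClosure p n ⁅H, H⁆).subgroupOf H :=
    MonoidHom.mk' (fun x => QuotientGroup.mk (x ^ p ^ n)) (by
      intro x y
      rw [← QuotientGroup.mk_mul, QuotientGroup.eq, Subgroup.mem_subgroupOf]
      obtain ⟨c, hc, h⟩ := hn (x : G) (y : G)
      have hle : Subgroup.closure ({(x : G), (y : G)} : Set G) ≤ H := by
        rw [Subgroup.closure_le]
        rintro z (rfl | rfl)
        · exact x.2
        · exact y.2
      have hc' : c ∈ Cfsg.powerClosure p n ⁅H, H⁆ :=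
        powerClosure_mono (Subgroup.commutator_mono hle hle) hc
      have e : ((((x * y) ^ p ^ n)⁻¹ * (x ^ p ^ n * y ^ p ^ n) : ↥H) : G) = c⁻¹ := by
        push_cast
        rw [h]
        group
      rw [e]
      exact Subgroup.inv_mem _ hc')
  have hθ : ∀ x : ↥H, θ x = QuotientGroup.mk (x ^ p ^ n) := fun x => rfl
  rw [Subgroup.commutator_le]
  intro g₁ hg₁ g₂ hg₂
  obtain ⟨a, ha, rfl⟩ := (level_mem_powerClosure_iff hP hn H g₁).mp hg₁
  obtain ⟨b, hb, rfl⟩ := (level_mem_powerClosure_iff hP hn H g₂).mp hg₂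
  have h1 : θ ⁅(⟨a, ha⟩ : ↥H), (⟨b, hb⟩ : ↥H)⁆ = 1 := by
    rw [hθ, QuotientGroup.eq_one_iff, Subgroup.mem_subgroupOf]
    apply Subgroup.subset_closure
    exact ⟨⁅a, b⁆, Subgroup.commutator_mem_commutator ha hb, by simp [commutatorElement_def]⟩
  rw [map_commutatorElement, hθ, hθ] at h1
  have h1' : (QuotientGroup.mk' ((Cfsg.powerClosure p n ⁅H, H⁆).subgroupOf H))
      ⁅(⟨a, ha⟩ : ↥H) ^ p ^ n, (⟨b, hb⟩ : ↥H) ^ p ^ n⁆ = 1 := by
    rw [map_commutatorElement]
    exact h1
  have h2 := (QuotientGroup.eq_one_iff _).mp h1'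
  rw [Subgroup.mem_subgroupOf] at h2
  simpa [commutatorElement_def] using h2

/-- `℧_n(℧_1(D)) ≤ ℧_{n+1}(D)` under the level-one condition. -/
theorem powerClosure_powerClosure_one_le [Finite G] {p : ℕ} [Fact p.Prime] (hP : IsPGroup p G)
    (h1 : RegLevel p 1 G) (n : ℕ) (D : Subgroup G) :
    Cfsg.powerClosure p n (Cfsg.powerClosure p 1 D) ≤ Cfsg.powerClosure p (n + 1) D := by
  conv_lhs => unfold Cfsg.powerClosure
  rw [Subgroup.closure_le]
  rintro y ⟨x, hx, rfl⟩
  obtain ⟨d, hd, rfl⟩ := (level_mem_powerClosure_iff hP h1 D x).mp hx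
  apply Subgroup.subset_closure
  exact ⟨d, hd, by rw [← pow_mul, ← pow_add, add_comm]⟩

/-- **P. Hall.** For a finite `p`-group the level-one regularity condition implies every level. -/
theorem regLevel_of_one [Finite G] {p : ℕ} [Fact p.Prime] (hP : IsPGroup p G)
    (h1 : RegLevel p 1 G) (n : ℕ) : RegLevel p n G := by
  induction n with
  | zero =>
    intro a b
    exact ⟨1, Subgroup.one_mem _, by simp⟩
  | succ n ih =>
    intro a b
    obtain ⟨c', hc', hab⟩ := h1 a b
    obtain ⟨c, hc, rfl⟩ := (level_mem_powerClosure_iff hP h1 _ c').mp hc'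
    rw [pow_one] at hab
    have haM : a ∈ Subgroup.closure ({a, b} : Set G) := Subgroup.subset_closure (by simp)
    have hbM : b ∈ Subgroup.closure ({a, b} : Set G) := Subgroup.subset_closure (by simp)
    have hDM : ⁅Subgroup.closure ({a, b} : Set G), Subgroup.closure ({a, b} : Set G)⁆ ≤
        Subgroup.closure ({a, b} : Set G) := Subgroup.commutator_le.mpr (fun g₁ h₁ g₂ h₂ =>
      Subgroup.mul_mem _ (Subgroup.mul_mem _ (Subgroup.mul_mem _ h₁ h₂) (Subgroup.inv_mem _ h₁))
        (Subgroup.inv_mem _ h₂))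
    -- `u = a ^ p`, `v = b ^ p`, `w = c ^ p` lie in `℧_1(M)`
    have hu : a ^ p ∈ Cfsg.powerClosure p 1 (Subgroup.closure ({a, b} : Set G)) :=
      Subgroup.subset_closure ⟨a, haM, by rw [pow_one]⟩
    have hv : b ^ p ∈ Cfsg.powerClosure p 1 (Subgroup.closure ({a, b} : Set G)) :=
      Subgroup.subset_closure ⟨b, hbM, by rw [pow_one]⟩
    have hw : c ^ p ∈ Cfsg.powerClosure p 1 (Subgroup.closure ({a, b} : Set G)) :=
      Subgroup.subset_closure ⟨c, hDM hc, by rw [pow_one]⟩
    have hcomm := level_commutator_powerClosure_le hP h1 (Subgroup.closure ({a, b} : Set G))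
    have hsub : ∀ x y : G, x ∈ Cfsg.powerClosure p 1 (Subgroup.closure ({a, b} : Set G)) →
        y ∈ Cfsg.powerClosure p 1 (Subgroup.closure ({a, b} : Set G)) →
        Cfsg.powerClosure p n ⁅Subgroup.closure ({x, y} : Set G), Subgroup.closure ({x, y} : Set G)⁆
          ≤ Cfsg.powerClosure p (n + 1)
            ⁅Subgroup.closure ({a, b} : Set G), Subgroup.closure ({a, b} : Set G)⁆ := by
      intro x y hx hy
      have hle : Subgroup.closure ({x, y} : Set G) ≤
          Cfsg.powerClosure p 1 (Subgroup.closure ({a, b} : Set G)) := by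
        rw [Subgroup.closure_le]
        rintro z (rfl | rfl) <;> assumption
      exact (powerClosure_mono ((Subgroup.commutator_mono hle hle).trans hcomm)).trans
        (powerClosure_powerClosure_one_le hP h1 n _)
    obtain ⟨d₁, hd₁, e₁⟩ := ih (a ^ p * b ^ p) (c ^ p)
    obtain ⟨d₂, hd₂, e₂⟩ := ih (a ^ p) (b ^ p)
    have hd₁' := hsub _ _ (Subgroup.mul_mem _ hu hv) hw hd₁
    have hd₂' := hsub _ _ hu hv hd₂
    have hwq : (c ^ p) ^ p ^ n ∈ Cfsg.powerClosure p (n + 1)
        ⁅Subgroup.closure ({a, b} : Set G), Subgroup.closure ({a, b} : Set G)⁆ :=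
      Subgroup.subset_closure ⟨c, hc, by rw [← pow_mul, ← pow_succ']⟩
    refine ⟨d₂ * (c ^ p) ^ p ^ n * d₁,
      Subgroup.mul_mem _ (Subgroup.mul_mem _ hd₂' hwq) hd₁', ?_⟩
    have e3 : (a * b) ^ p ^ (n + 1) = ((a * b) ^ p) ^ p ^ n := by rw [← pow_mul, ← pow_succ']
    have e4 : a ^ p ^ (n + 1) = (a ^ p) ^ p ^ n := by rw [← pow_mul, ← pow_succ']
    have e5 : b ^ p ^ (n + 1) = (b ^ p) ^ p ^ n := by rw [← pow_mul, ← pow_succ']
    rw [e3, hab, e₁, e₂, e4, e5]
    group

/-- A finite `p`-group satisfying the level-one condition is regular. -/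
theorem isRegularPGroup_of_regLevel_one [Finite G] {p : ℕ} [Fact p.Prime] (hP : IsPGroup p G)
    (h1 : RegLevel p 1 G) : Cfsg.IsRegularPGroup p G :=
  ⟨hP, fun a b n => regLevel_of_one hP h1 n a b⟩

end Cfsg.Agent.Lib.helper74
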