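import Mathlib
import Cfsg.Agent.Lib.helper26.S4409Defs

/-! S4409 piece C0 (racing copy by helper74). -/

set_option autoImplicit false

namespace Cfsg.Agent.Lib.helper26.S4409

variable {G : Type*} [Group G]

theorem h74_c0 (X H : Subgroup G) (hM : MinSet X H) (hc : H ≤ Subgroup.centralizer (X : Set G)) :
    IsMulCommutative ↥X := by
  obtain ⟨hX, hHX, hodd, hmin, hnot⟩ := hM
  unfold NoP at hnot
  push_neg at hnot
  obtain ⟨A, hAX, hAc, hA8, hAnc⟩ := hnot
  by_cases hAeq : A = X
  · rw [← hAeq]; exact hAc
  · exfalso
    have hHA : H ≤ Subgroup.normalizer (A : Set G) := by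
      intro h hh
      have hcen := hc hh
      rw [Subgroup.mem_centralizer_iff] at hcen
      rw [Subgroup.mem_normalizer_iff]
      intro a
      constructor
      · intro ha
        have h1 : h * a * h⁻¹ = a := by rw [← hcen a (hAX ha)]; group
        rw [h1]; exact ha
      · intro ha
        have h1 := hcen _ (hAX ha)
        have h3 : a = h * a * h⁻¹ := by
          have h2 : h * a = h * (h * a * h⁻¹) := by rw [← h1]; group
          exact mul_left_cancel h2
        rw [h3]; exact ha
    exact hAnc (hmin A hAX hAeq hHA A le_rfl hAc hA8)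

end Cfsg.Agent.Lib.helper26.S4409
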