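import Mathlib
import Cfsg.Agent.Lib.helper26.S4409Defs

/-! S4409 piece KFN1 (racing copy by helper74). -/

set_option autoImplicit false

namespace Cfsg.Agent.Lib.helper26.S4409

theorem h74_kfn1 {P : Type*} [Group P] [Finite P] (hP : IsPGroup 2 P)
    (hN : ∀ A : Subgroup P, IsMulCommutative ↥A → Nat.card ↥A = 8 → IsCyclic ↥A)
    (t z : P) (ht : orderOf t = 2) (hz : orderOf z = 2) (hzc : z ∈ Subgroup.center P)
    (htz : t ∉ Subgroup.zpowers z) : Nat.card ↥(Subgroup.centralizer ({t} : Set P)) = 4 := by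
  classical
  haveI : Fact (Nat.Prime 2) := ⟨Nat.prime_two⟩
  have ht2 : t * t = 1 := by rw [← sq, ← ht, pow_orderOf_eq_one]
  have hz2 : z * z = 1 := by rw [← sq, ← hz, pow_orderOf_eq_one]
  have ht1 : t ≠ 1 := by intro h; rw [h, orderOf_one] at ht; omega
  have hz1 : z ≠ 1 := by intro h; rw [h, orderOf_one] at hz; omega
  have htz' : t ≠ z := fun h => htz (h ▸ Subgroup.mem_zpowers z)
  have hcz : ∀ g, g * z = z * g := Subgroup.mem_center_iff.1 hzc
  have hzt : z * t = t * z := (hcz t).symm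
  have h1 : ∀ x, t * (t * x) = x := fun x => by rw [← mul_assoc, ht2, one_mul]
  have h2 : ∀ x, z * (z * x) = x := fun x => by rw [← mul_assoc, hz2, one_mul]
  have h3 : ∀ x, z * (t * x) = t * (z * x) := fun x => by rw [← mul_assoc, hzt, mul_assoc]
  have hti : t⁻¹ = t := inv_eq_of_mul_eq_one_left ht2
  have hzi : z⁻¹ = z := inv_eq_of_mul_eq_one_left hz2
  have hVmul : ∀ a b : P, (a = 1 ∨ a = t ∨ a = z ∨ a = t * z) → (b = 1 ∨ b = t ∨ b = z ∨ b = t * z) →
      (a * b = 1 ∨ a * b = t ∨ a * b = z ∨ a * b = t * z) := by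
    intro a b ha hb
    rcases ha with ha | ha | ha | ha <;> rcases hb with hb | hb | hb | hb <;> rw [ha, hb] <;>
      simp [mul_assoc, h1, h2, h3, ht2, hz2, hzt]
  have hVinv : ∀ a : P, (a = 1 ∨ a = t ∨ a = z ∨ a = t * z) →
      (a⁻¹ = 1 ∨ a⁻¹ = t ∨ a⁻¹ = z ∨ a⁻¹ = t * z) := by
    intro a ha
    rcases ha with ha | ha | ha | ha <;> rw [ha] <;> simp [hti, hzi, hzt]
  let V : Subgroup P :=
    { carrier := {a | a = 1 ∨ a = t ∨ a = z ∨ a = t * z}
      mul_mem' := fun {a b} ha hb => hVmul a b ha hb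
      one_mem' := Or.inl rfl
      inv_mem' := fun {a} ha => hVinv a ha }
  have hVmem : ∀ x, x ∈ V ↔ (x = 1 ∨ x = t ∨ x = z ∨ x = t * z) := fun x => Iff.rfl
  have hV4 : Nat.card ↥V = 4 := by
    have hset : (V : Set P) = {1, t, z, t * z} := by
      ext x
      simp only [SetLike.mem_coe, hVmem, Set.mem_insert_iff, Set.mem_singleton_iff]
    have e3 : z ≠ t * z := by
      intro h
      apply ht1
      have h4 : t * z = 1 * z := by rw [one_mul]; exact h.symm
      exact mul_right_cancel h4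
    have e2 : t ∉ ({z, t * z} : Set P) := by
      simp only [Set.mem_insert_iff, Set.mem_singleton_iff, not_or]
      refine ⟨htz', fun h => hz1 ?_⟩
      have h4 : t * z = t * 1 := by rw [mul_one]; exact h.symm
      exact mul_left_cancel h4
    have e1 : (1 : P) ∉ ({t, z, t * z} : Set P) := by
      simp only [Set.mem_insert_iff, Set.mem_singleton_iff, not_or]
      refine ⟨fun h => ht1 h.symm, fun h => hz1 h.symm, fun h => htz' ?_⟩
      calc t = t * (z * z) := by rw [hz2, mul_one]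
        _ = (t * z) * z := by rw [mul_assoc]
        _ = z := by rw [← h, one_mul]
    have h : ((V : Set P)).ncard = 4 := by
      rw [hset, Set.ncard_insert_of_notMem e1 (Set.toFinite _),
        Set.ncard_insert_of_notMem e2 (Set.toFinite _), Set.ncard_pair e3]
    rw [← h]
    exact Nat.card_coe_set_eq _
  have hVC : V ≤ Subgroup.centralizer ({t} : Set P) := by
    intro x hx
    rw [Subgroup.mem_centralizer_iff]
    intro y hy
    rw [Set.mem_singleton_iff] at hy
    rw [hy]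
    rcases hx with hx | hx | hx | hx <;> rw [hx] <;> simp [mul_assoc, h1, h2, h3, ht2, hz2, hzt]
  have hCp : IsPGroup 2 ↥(Subgroup.centralizer ({t} : Set P)) := hP.to_subgroup _
  obtain ⟨m, hm⟩ := IsPGroup.iff_card.1 hCp
  have hm2 : 2 ≤ m := by
    have hdvd : Nat.card ↥V ∣ Nat.card ↥(Subgroup.centralizer ({t} : Set P)) :=
      Subgroup.card_dvd_of_le hVC
    rw [hV4, hm] at hdvd
    have h4 : (2 : ℕ) ^ 2 ∣ 2 ^ m := by simpa using hdvd
    exact (Nat.pow_dvd_pow_iff_le_right (by norm_num : 1 < 2)).1 h4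
  by_contra hne
  have hm3 : 3 ≤ m := by
    rcases Nat.lt_or_ge m 3 with h | h
    · exfalso
      apply hne
      have h5 : m = 2 := by omega
      rw [hm, h5]; norm_num
    · exact h
  have hV' : Nat.card ↥(V.subgroupOf (Subgroup.centralizer ({t} : Set P))) = 2 ^ 2 := by
    rw [Nat.card_congr (Subgroup.subgroupOfEquivOfLe hVC).toEquiv, hV4]; norm_num
  obtain ⟨K, hK8, hVK⟩ := Sylow.exists_subgroup_card_pow_prime_le 2 (n := 2) (m := 3)
    (by rw [hm]; exact pow_dvd_pow 2 hm3) (V.subgroupOf (Subgroup.centralizer ({t} : Set P))) hV'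
    (by norm_num)
  obtain ⟨A, hAdef⟩ : ∃ A : Subgroup P, A = K.map (Subgroup.centralizer ({t} : Set P)).subtype :=
    ⟨_, rfl⟩
  have hA8 : Nat.card ↥A = 8 := by
    rw [hAdef, Subgroup.card_map_of_injective (Subgroup.subtype_injective _), hK8]; norm_num
  have hAC : A ≤ Subgroup.centralizer ({t} : Set P) := by
    rw [hAdef]
    rintro x ⟨k, _, rfl⟩
    exact k.2
  have hVA : V ≤ A := by
    intro x hx
    rw [hAdef]
    exact ⟨⟨x, hVC hx⟩, hVK (Subgroup.mem_subgroupOf.2 hx), rfl⟩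
  have hcomm : ∀ v ∈ V, ∀ a ∈ A, v * a = a * v := by
    intro v hv a ha
    have h5 := hAC ha
    rw [Subgroup.mem_centralizer_iff] at h5
    have h6 : t * a = a * t := h5 t rfl
    have h7 : z * a = a * z := (hcz a).symm
    rcases hv with hv | hv | hv | hv <;> rw [hv]
    · simp
    · exact h6
    · exact h7
    · rw [mul_assoc, h7, ← mul_assoc, h6, mul_assoc]
  have hWidx : (V.subgroupOf A).index = 2 := by
    have h := Subgroup.card_mul_index (V.subgroupOf A)
    rw [Nat.card_congr (Subgroup.subgroupOfEquivOfLe hVA).toEquiv, hV4, hA8] at h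
    omega
  obtain ⟨b, hb⟩ := Subgroup.index_eq_two_iff.1 hWidx
  have key : ∀ w : ↥A, w ∈ V.subgroupOf A → ∀ a : ↥A, w * a = a * w := by
    intro w hw a
    apply Subtype.ext
    exact hcomm w.1 (Subgroup.mem_subgroupOf.1 hw) a.1 a.2
  have hAcomm : IsMulCommutative ↥A := by
    refine ⟨⟨fun x y => ?_⟩⟩
    rcases hb x with ⟨hx, _⟩ | ⟨hx, _⟩ <;> rcases hb y with ⟨hy, _⟩ | ⟨hy, _⟩
    · obtain ⟨u, hu, hxu⟩ : ∃ u, u ∈ V.subgroupOf A ∧ x = u * b⁻¹ := ⟨x * b, hx, by group⟩
      obtain ⟨v, hv, hyv⟩ : ∃ v, v ∈ V.subgroupOf A ∧ y = v * b⁻¹ := ⟨y * b, hy, by group⟩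
      rw [hxu, hyv]
      have a1 : b⁻¹ * v = v * b⁻¹ := (key v hv b⁻¹).symm
      have a2 : u * b⁻¹ = b⁻¹ * u := key u hu b⁻¹
      have a3 : u * v = v * u := key u hu v
      calc u * b⁻¹ * (v * b⁻¹) = u * (b⁻¹ * v) * b⁻¹ := by simp only [mul_assoc]
        _ = u * (v * b⁻¹) * b⁻¹ := by rw [a1]
        _ = (u * v) * b⁻¹ * b⁻¹ := by simp only [mul_assoc]
        _ = (v * u) * b⁻¹ * b⁻¹ := by rw [a3]
        _ = v * (u * b⁻¹) * b⁻¹ := by simp only [mul_assoc]
        _ = v * (b⁻¹ * u) * b⁻¹ := by rw [a2]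
        _ = v * b⁻¹ * (u * b⁻¹) := by simp only [mul_assoc]
    · exact (key y hy x).symm
    · exact key x hx y
    · exact key x hx y
  have hcyc := hN A hAcomm hA8
  haveI : Fintype ↥A := Fintype.ofFinite _
  have htA : t ∈ A := hVA (Or.inr (Or.inl rfl))
  have hzA : z ∈ A := hVA (Or.inr (Or.inr (Or.inl rfl)))
  have hcard := IsCyclic.card_orderOf_eq_totient (α := ↥A) (d := 2)
    (by rw [← Nat.card_eq_fintype_card, hA8]; norm_num)
  rw [Nat.totient_two] at hcard
  have hle := Finset.card_le_one.1 hcard.le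
  have h5 := hle ⟨t, htA⟩ (by simp [Subgroup.orderOf_mk, ht]) ⟨z, hzA⟩
    (by simp [Subgroup.orderOf_mk, hz])
  exact htz' (congrArg Subtype.val h5)

end Cfsg.Agent.Lib.helper26.S4409
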