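import Mathlib
import Cfsg.Agent.Lib.helper26.S4409Defs

/-! S4409 piece KFN3 (racing copy by helper74). -/

set_option autoImplicit false

namespace Cfsg.Agent.Lib.helper26.S4409

variable {G : Type*} [Group G]

theorem h74_kfn3 [Finite G] (Y : Subgroup G) (h2 : IsPGroup 2 (MulAut ↥Y)) (g : G)
    (hg : g ∈ Subgroup.normalizer (Y : Set G)) (hodd : Odd (orderOf g)) :
    g ∈ Subgroup.centralizer (Y : Set G) := by
  have hg' : ∀ y, y ∈ Y ↔ g * y * g⁻¹ ∈ Y := Subgroup.mem_normalizer_iff.1 hg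
  let φ : MulAut ↥Y :=
    { toFun := fun y => ⟨g * y * g⁻¹, (hg' y).1 y.2⟩
      invFun := fun y => ⟨g⁻¹ * y * g, (hg' (g⁻¹ * y * g)).2 (by
        have h1 : g * (g⁻¹ * (y : G) * g) * g⁻¹ = y := by group
        rw [h1]; exact y.2)⟩
      left_inv := fun y => Subtype.ext (by
        show g⁻¹ * (g * (y : G) * g⁻¹) * g = y
        group)
      right_inv := fun y => Subtype.ext (by
        show g * (g⁻¹ * (y : G) * g) * g⁻¹ = y
        group)
      map_mul' := fun a b => Subtype.ext (by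
        show g * ((a : G) * b) * g⁻¹ = (g * a * g⁻¹) * (g * b * g⁻¹)
        group) }
  have hφ1 : ∀ y : ↥Y, ((φ y : ↥Y) : G) = g * y * g⁻¹ := fun y => rfl
  have hpow : ∀ (n : ℕ) (y : ↥Y), (((φ ^ n) y : ↥Y) : G) = g ^ n * y * (g ^ n)⁻¹ := by
    intro n
    induction n with
    | zero => intro y; simp
    | succ n ih =>
      intro y
      rw [pow_succ', MulAut.mul_apply, hφ1, ih, pow_succ']; group
  have hφ : φ ^ orderOf g = 1 := by
    ext y
    rw [hpow, pow_orderOf_eq_one]; simp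
  obtain ⟨k, hk⟩ := h2 φ
  have h1 : orderOf φ ∣ orderOf g := orderOf_dvd_of_pow_eq_one hφ
  have h3 : orderOf φ ∣ 2 ^ k := orderOf_dvd_of_pow_eq_one hk
  have hcop : Nat.Coprime (2 ^ k) (orderOf g) := (hodd.coprime_two_left).pow_left k
  have h4 : orderOf φ = 1 := (Nat.Coprime.coprime_dvd_left h3 hcop).eq_one_of_dvd h1
  have h5 : φ = 1 := orderOf_eq_one_iff.1 h4
  rw [Subgroup.mem_centralizer_iff]
  intro y hy
  have h6 : ((φ ⟨y, hy⟩ : ↥Y) : G) = y := by rw [h5]; rfl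
  rw [hφ1] at h6
  have h7 : g * y = y * g := mul_inv_eq_iff_eq_mul.1 h6
  exact h7.symm

end Cfsg.Agent.Lib.helper26.S4409
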