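import Mathlib
import Cfsg.Prelude.Def_Classical
import Cfsg.Prelude.Def_GeometricClasses

/-! S5977/S5978 block [A], piece EVENNEG (racing copy by helper74). -/

set_option autoImplicit false

namespace Cfsg.Agent.Lib.helper59.Sfk

open Matrix Cfsg.Geo

theorem h74_sfk_even_neg {F : Type*} [Field F] [DecidableEq F] {ι : Type} [Fintype ι] [DecidableEq ι]
    (h2 : (2 : F) ≠ 0) (x : GL ι F) (hdet : (x : Matrix ι ι F).det = 1)
    (e : Fin (Fintype.card ι) → (ι → F)) (ε : Fin (Fintype.card ι) → F)
    (he : LinearIndependent F e) (hε : ∀ i, ε i = 1 ∨ ε i = -1)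
    (hxe : ∀ i, (x : Matrix ι ι F) *ᵥ e i = ε i • e i) :
    Even (Finset.univ.filter (fun i => ε i = -1)).card := by
  rcases Nat.eq_zero_or_pos (Fintype.card ι) with h0 | hpos
  · have hemp : IsEmpty (Fin (Fintype.card ι)) := by rw [h0]; infer_instance
    have h1 : (Finset.univ.filter (fun i => ε i = -1)) = ∅ := by
      ext i; exact hemp.elim i
    rw [h1, Finset.card_empty]
    exact Even.zero
  · haveI : Nonempty (Fin (Fintype.card ι)) := ⟨⟨0, hpos⟩⟩
    have hcard : Fintype.card (Fin (Fintype.card ι)) = Module.finrank F (ι → F) := by simp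
    obtain ⟨b, hb⟩ : ∃ b : Module.Basis (Fin (Fintype.card ι)) F (ι → F), ∀ i, b i = e i :=
      ⟨basisOfLinearIndependentOfCardEqFinrank he hcard, fun i => by simp⟩
    have hT : LinearMap.toMatrix b b (Matrix.toLin' (x : Matrix ι ι F)) = Matrix.diagonal ε := by
      ext i j
      rw [LinearMap.toMatrix_apply, Matrix.toLin'_apply, hb, hxe, map_smul, ← hb, b.repr_self]
      by_cases hij : i = j
      · subst hij
        simp
      · rw [Matrix.diagonal_apply_ne _ hij]
        simp [Finsupp.single_apply, Ne.symm hij]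
    have hdet2 : ∏ i, ε i = 1 := by
      have h3 := LinearMap.det_toMatrix b (Matrix.toLin' (x : Matrix ι ι F))
      rw [hT, Matrix.det_diagonal, LinearMap.det_toLin'] at h3
      rw [h3, hdet]
    have hprod : ∏ i, ε i = (-1) ^ (Finset.univ.filter (fun i => ε i = -1)).card := by
      rw [← Finset.prod_filter_mul_prod_filter_not Finset.univ (fun i => ε i = -1),
        Finset.prod_congr rfl (fun i hi => (Finset.mem_filter.1 hi).2), Finset.prod_const,
        Finset.prod_eq_one, mul_one]
      intro i hi
      have h4 := (Finset.mem_filter.1 hi).2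
      rcases hε i with h | h
      · exact h
      · exact absurd h h4
    rw [hprod] at hdet2
    have hne : (-1 : F) ≠ 1 := by
      intro h
      apply h2
      linear_combination (-1 : F) * h
    exact (neg_one_pow_eq_one_iff_even hne).1 hdet2

end Cfsg.Agent.Lib.helper59.Sfk
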