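import Cfsg.Agent.Lib.helper84.Def1Defs

/-!
# Definitions for sub-project SP-B of S4441 / S0960 (theorem TB, `d1_tate_rank_bound`)

`tbSA = σ(L^K)`, `tbB = {v ∈ L^K : σ v = 0}`, and the two submodules whose quotients are the
Tate groups `W0 = L^C / σ(L^K)` (`tbV0 ≤ L^C`) and `W1 = B / aug` (`tbV1 ≤ B`).
-/

set_option autoImplicit false

namespace Cfsg.Agent.Lib.helper74.TB

open Cfsg.Agent.Lib.helper84

variable {G : Type*} [Group G] [Fintype G] {L : Type*} [AddCommGroup L]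

/-- `σ(L^K)`: the image of the `K`-fixed points under the trace map of `P`. -/
noncomputable def tbSA (p : ℕ) (ρ : Representation ℤ G L) (P : Subgroup G) : Submodule ℤ L :=
  (d1FixK p ρ P).map (d1Tr ρ P)

/-- `B = {v ∈ L^K : σ v = 0}`. -/
noncomputable def tbB (p : ℕ) (ρ : Representation ℤ G L) (P : Subgroup G) : Submodule ℤ L :=
  d1FixK p ρ P ⊓ LinearMap.ker (d1Tr ρ P)

/-- `σ(L^K)` as a submodule of `L^C` (the quotient is `W0`). -/
noncomputable def tbV0 (p : ℕ) (ρ : Representation ℤ G L) (P : Subgroup G) :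
    Submodule ℤ (d1FixC ρ P) :=
  (tbSA p ρ P).comap (d1FixC ρ P).subtype

/-- The augmentation submodule as a submodule of `B` (the quotient is `W1`). -/
noncomputable def tbV1 (p : ℕ) (ρ : Representation ℤ G L) (P : Subgroup G) :
    Submodule ℤ (tbB p ρ P) :=
  (d1Aug p ρ P).comap (tbB p ρ P).subtype

theorem mem_tbSA (p : ℕ) (ρ : Representation ℤ G L) (P : Subgroup G) (v : L) :
    v ∈ tbSA p ρ P ↔ ∃ u ∈ d1FixK p ρ P, d1Tr ρ P u = v := by
  unfold tbSA
  rw [Submodule.mem_map]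

theorem mem_tbB (p : ℕ) (ρ : Representation ℤ G L) (P : Subgroup G) (v : L) :
    v ∈ tbB p ρ P ↔ v ∈ d1FixK p ρ P ∧ d1Tr ρ P v = 0 := by
  unfold tbB
  rw [Submodule.mem_inf, LinearMap.mem_ker]

theorem mem_tbV0 (p : ℕ) (ρ : Representation ℤ G L) (P : Subgroup G) (u : d1FixC ρ P) :
    u ∈ tbV0 p ρ P ↔ (u : L) ∈ tbSA p ρ P := by
  unfold tbV0
  rw [Submodule.mem_comap, Submodule.subtype_apply]

theorem mem_tbV1 (p : ℕ) (ρ : Representation ℤ G L) (P : Subgroup G) (u : tbB p ρ P) :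
    u ∈ tbV1 p ρ P ↔ (u : L) ∈ d1Aug p ρ P := by
  unfold tbV1
  rw [Submodule.mem_comap, Submodule.subtype_apply]

end Cfsg.Agent.Lib.helper74.TB
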