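import Mathlib

/-!
# SP-B (theorem TB) piece HB, core: the Herbrand quotient of a lattice for a cyclic group of prime
order, by index counting, with the determinant computation (piece HD) as a hypothesis
-/

set_option autoImplicit false

namespace Cfsg.Agent.Lib.helper74.TB

/-- The index of the range of an injective endomorphism of a lattice is `|det|`. -/
theorem tbhb_index_range {M : Type*} [AddCommGroup M] [Module.Free ℤ M] [Module.Finite ℤ M]
    (g : M →ₗ[ℤ] M) (hg : Function.Injective g) :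
    (LinearMap.range g).toAddSubgroup.index = (LinearMap.det g).natAbs := by
  have h := Submodule.natAbs_det_equiv (LinearMap.range g) (LinearEquiv.ofInjective g hg).toAddEquiv
  have e : (LinearMap.range g).subtype ∘ₗ
      AddMonoidHom.toIntLinearMap (((LinearEquiv.ofInjective g hg).toAddEquiv : M ≃+ _) : M →+ _)
        = g := by
    ext v
    rfl
  rw [e] at h
  rw [h]
  rfl

/-- Relative index of `f(N)` in `N` as the index of the range of the restriction. -/
theorem tbhb_relIndex_restrict {A : Type*} [AddCommGroup A] (N : Submodule ℤ A)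
    (f : A →ₗ[ℤ] A) (hf : ∀ v ∈ N, f v ∈ N) :
    (N.map f).toAddSubgroup.relIndex N.toAddSubgroup
      = (LinearMap.range (f.restrict hf)).toAddSubgroup.index := by
  have h1 := AddSubgroup.index_comap (N.map f).toAddSubgroup N.subtype.toAddMonoidHom
  have h2 : N.subtype.toAddMonoidHom.range = N.toAddSubgroup := by
    rw [← LinearMap.range_toAddSubgroup, Submodule.range_subtype]
  rw [h2] at h1
  rw [← h1]
  congr 1
  ext u
  constructor
  · intro hu
    have hu' : (u : A) ∈ N.map f := hu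
    obtain ⟨b, hb, hbu⟩ := hu'
    exact ⟨⟨b, hb⟩, Subtype.ext hbu⟩
  · rintro ⟨w, hw⟩
    show (u : A) ∈ N.map f
    rw [← hw]
    exact ⟨(w : A), w.2, rfl⟩

theorem tbhb_restrict_pow {A : Type*} [AddCommGroup A] (N : Submodule ℤ A)
    (f : A →ₗ[ℤ] A) (hf : ∀ v ∈ N, f v ∈ N) (i : ℕ) (u : N) :
    (((f.restrict hf) ^ i) u : A) = (f ^ i) (u : A) := by
  induction i with
  | zero => simp
  | succ i ih =>
    rw [pow_succ', Module.End.mul_apply, LinearMap.coe_restrict_apply, ih, pow_succ',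
      Module.End.mul_apply]

/-- PIECE HB, core. -/
theorem tbhb_core (p : ℕ) [Fact p.Prime] {A : Type*} [AddCommGroup A] [Module.Free ℤ A]
    [Module.Finite ℤ A] (x : A →ₗ[ℤ] A) (hx : x ^ p = 1)
    (hHD : ∀ y : LinearMap.ker (∑ i ∈ Finset.range p, x ^ i) →ₗ[ℤ]
        LinearMap.ker (∑ i ∈ Finset.range p, x ^ i),
      ∑ i ∈ Finset.range p, y ^ i = 0 →
      ∃ b : ℕ, (p - 1) * b = Module.finrank ℤ (LinearMap.ker (∑ i ∈ Finset.range p, x ^ i)) ∧
        (LinearMap.det (y - 1)).natAbs = p ^ b) :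
    ∃ d0 d1 : ℕ,
      (LinearMap.range (∑ i ∈ Finset.range p, x ^ i)).toAddSubgroup.relIndex
        (LinearMap.ker (x - 1)).toAddSubgroup = p ^ d0 ∧
      (LinearMap.range (x - 1)).toAddSubgroup.relIndex
        (LinearMap.ker (∑ i ∈ Finset.range p, x ^ i)).toAddSubgroup = p ^ d1 ∧
      ((p : ℤ) - 1) * ((d0 : ℤ) - d1)
        = p * (Module.finrank ℤ (LinearMap.ker (x - 1)) : ℤ) - Module.finrank ℤ A := by
  classical
  have hp : p.Prime := Fact.out
  have hp0 : (p : ℤ) ≠ 0 := by exact_mod_cast hp.ne_zero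
  obtain ⟨σ, hσ⟩ : ∃ σ : A →ₗ[ℤ] A, σ = ∑ i ∈ Finset.range p, x ^ i := ⟨_, rfl⟩
  rw [← hσ] at hHD ⊢
  obtain ⟨Δ, hΔ⟩ : ∃ Δ : A →ₗ[ℤ] A, Δ = x - 1 := ⟨_, rfl⟩
  rw [← hΔ]
  -- basic identities
  have hΔσ : Δ * σ = 0 := by rw [hΔ, hσ, mul_geom_sum, hx, sub_self]
  have hσΔ : σ * Δ = 0 := by rw [hΔ, hσ, geom_sum_mul, hx, sub_self]
  have hΔσ' : ∀ v : A, Δ (σ v) = 0 := fun v => by
    rw [← Module.End.mul_apply, hΔσ, LinearMap.zero_apply]
  have hσΔ' : ∀ v : A, σ (Δ v) = 0 := fun v => by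
    rw [← Module.End.mul_apply, hσΔ, LinearMap.zero_apply]
  have hfix : ∀ v : A, Δ v = 0 → ∀ i : ℕ, (x ^ i) v = v := by
    intro v hv i
    have hxv : x v = v := by
      rw [hΔ, LinearMap.sub_apply, Module.End.one_apply, sub_eq_zero] at hv
      exact hv
    induction i with
    | zero => simp
    | succ i ih => rw [pow_succ, Module.End.mul_apply, hxv, ih]
  have hσp : ∀ v : A, Δ v = 0 → σ v = (p : ℤ) • v := by
    intro v hv
    rw [hσ, LinearMap.sum_apply]
    rw [Finset.sum_congr rfl (fun i _ => hfix v hv i), Finset.sum_const, Finset.card_range,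
      natCast_zsmul]
  -- the submodules
  obtain ⟨A1, hA1⟩ : ∃ A1 : Submodule ℤ A, A1 = LinearMap.ker Δ := ⟨_, rfl⟩
  obtain ⟨B, hB⟩ : ∃ B : Submodule ℤ A, B = LinearMap.ker σ := ⟨_, rfl⟩
  rw [← hA1, ← hB]
  rw [← hB] at hHD
  have hmemA1 : ∀ v : A, v ∈ A1 ↔ Δ v = 0 := fun v => by rw [hA1, LinearMap.mem_ker]
  have hmemB : ∀ v : A, v ∈ B ↔ σ v = 0 := fun v => by rw [hB, LinearMap.mem_ker]
  have hrσ : LinearMap.range σ ≤ A1 := by
    rintro _ ⟨v, rfl⟩
    exact (hmemA1 _).mpr (hΔσ' v)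
  have hrΔ : LinearMap.range Δ ≤ B := by
    rintro _ ⟨v, rfl⟩
    exact (hmemB _).mpr (hσΔ' v)
  -- restriction of `σ` to `A1` is `p`
  have hσA1 : ∀ v ∈ A1, σ v ∈ A1 := fun v _ => hrσ ⟨v, rfl⟩
  have hσres : σ.restrict hσA1 = (p : ℤ) • (LinearMap.id : A1 →ₗ[ℤ] A1) := by
    ext u
    rw [LinearMap.coe_restrict_apply, hσp _ ((hmemA1 _).mp u.2)]
    rfl
  have hσinj : Function.Injective (σ.restrict hσA1) := by
    rw [hσres]
    intro u v huv
    have : (p : ℤ) • u = (p : ℤ) • v := huv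
    exact smul_right_injective _ hp0 this
  have hidxA1 : (A1.map σ).toAddSubgroup.relIndex A1.toAddSubgroup
      = p ^ Module.finrank ℤ A1 := by
    rw [tbhb_relIndex_restrict A1 σ hσA1, tbhb_index_range _ hσinj, hσres, LinearMap.det_smul,
      LinearMap.det_id, mul_one, Int.natAbs_pow, Int.natAbs_natCast]
  -- restriction of `Δ` to `B`
  have hΔB : ∀ v ∈ B, Δ v ∈ B := fun v _ => hrΔ ⟨v, rfl⟩
  have hcomm : Commute x σ := by
    rw [hσ]
    exact Commute.sum_right _ _ _ (fun i _ => (Commute.refl x).pow_right i)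
  have hxB : ∀ v ∈ B, x v ∈ B := by
    intro v hv
    rw [hmemB] at hv ⊢
    have : σ (x v) = x (σ v) := by
      rw [← Module.End.mul_apply, ← Module.End.mul_apply, hcomm.eq]
    rw [this, hv, map_zero]
  have hyΔ : x.restrict hxB - 1 = Δ.restrict hΔB := by
    ext u
    rw [LinearMap.sub_apply, Submodule.coe_sub, LinearMap.coe_restrict_apply,
      LinearMap.coe_restrict_apply, hΔ, LinearMap.sub_apply]
    rfl
  have hysum : ∑ i ∈ Finset.range p, (x.restrict hxB) ^ i = 0 := by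
    ext u
    rw [LinearMap.sum_apply, Submodule.coe_sum, LinearMap.zero_apply, Submodule.coe_zero]
    rw [Finset.sum_congr rfl (fun i _ => tbhb_restrict_pow B x hxB i u)]
    have := (hmemB _).mp u.2
    rw [hσ, LinearMap.sum_apply] at this
    exact this
  obtain ⟨b, hb, hdet⟩ := hHD (x.restrict hxB) hysum
  rw [hyΔ] at hdet
  have hΔinj : Function.Injective (Δ.restrict hΔB) := by
    rw [← LinearMap.ker_eq_bot]
    by_contra hne
    have hlt : ⊥ < LinearMap.ker (Δ.restrict hΔB) := bot_lt_iff_ne_bot.mpr hne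
    obtain ⟨u, hu, hu0⟩ := (Submodule.ne_bot_iff _).mp hne
    -- `u ∈ A1 ⊓ B`, so `p u = 0`
    have hu1 : Δ (u : A) = 0 := by
      have := congrArg (Subtype.val) (LinearMap.mem_ker.mp hu)
      rwa [LinearMap.coe_restrict_apply] at this
    have hu2 : σ (u : A) = 0 := (hmemB _).mp u.2
    rw [hσp _ hu1] at hu2
    have hu3 : (u : A) = 0 := by
      rcases smul_eq_zero.mp hu2 with h | h
      · exact absurd h hp0
      · exact h
    exact hu0 (Subtype.ext hu3)
  have hidxB : (B.map Δ).toAddSubgroup.relIndex B.toAddSubgroup = p ^ b := by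
    rw [tbhb_relIndex_restrict B Δ hΔB, tbhb_index_range _ hΔinj, hdet]
  -- the two chains
  have hker_σ : σ.toAddMonoidHom.ker = B.toAddSubgroup := by
    rw [hB, LinearMap.ker_toAddSubgroup]
  have hker_Δ : Δ.toAddMonoidHom.ker = A1.toAddSubgroup := by
    rw [hA1, LinearMap.ker_toAddSubgroup]
  have hm0 : (A1.map σ).toAddSubgroup.relIndex (LinearMap.range σ).toAddSubgroup
      = (A1.toAddSubgroup ⊔ B.toAddSubgroup).index := by
    have h := AddSubgroup.relIndex_map_map σ.toAddMonoidHom A1.toAddSubgroup ⊤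
    rw [hker_σ, top_sup_eq, AddSubgroup.relIndex_top_right] at h
    rw [← h]
    congr 1
    rw [LinearMap.range_toAddSubgroup, AddMonoidHom.range_eq_map]
  have hm1 : (B.map Δ).toAddSubgroup.relIndex (LinearMap.range Δ).toAddSubgroup
      = (A1.toAddSubgroup ⊔ B.toAddSubgroup).index := by
    have h := AddSubgroup.relIndex_map_map Δ.toAddMonoidHom B.toAddSubgroup ⊤
    rw [hker_Δ, top_sup_eq, AddSubgroup.relIndex_top_right, sup_comm] at h
    rw [← h]
    congr 1
    rw [LinearMap.range_toAddSubgroup, AddMonoidHom.range_eq_map]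
  have hc0 := AddSubgroup.relIndex_mul_relIndex (A1.map σ).toAddSubgroup
    (LinearMap.range σ).toAddSubgroup A1.toAddSubgroup
    ((Submodule.toAddSubgroup_le _ _).mpr (by
      rintro _ ⟨v, _, rfl⟩
      exact ⟨v, rfl⟩))
    ((Submodule.toAddSubgroup_le _ _).mpr hrσ)
  have hc1 := AddSubgroup.relIndex_mul_relIndex (B.map Δ).toAddSubgroup
    (LinearMap.range Δ).toAddSubgroup B.toAddSubgroup
    ((Submodule.toAddSubgroup_le _ _).mpr (by
      rintro _ ⟨v, _, rfl⟩
      exact ⟨v, rfl⟩))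
    ((Submodule.toAddSubgroup_le _ _).mpr hrΔ)
  rw [hm0, hidxA1] at hc0
  rw [hm1, hidxB] at hc1
  obtain ⟨m, hm⟩ : ∃ m : ℕ, m = (A1.toAddSubgroup ⊔ B.toAddSubgroup).index := ⟨_, rfl⟩
  rw [← hm] at hc0 hc1
  obtain ⟨a, ha⟩ : ∃ a : ℕ, a = Module.finrank ℤ A1 := ⟨_, rfl⟩
  rw [← ha] at hc0 ⊢
  obtain ⟨d0, hd0a, hX0⟩ := (Nat.dvd_prime_pow hp).mp (Dvd.intro_left m hc0)
  obtain ⟨d1, hd1b, hX1⟩ := (Nat.dvd_prime_pow hp).mp (Dvd.intro_left m hc1)
  have hppos : ∀ k : ℕ, 0 < p ^ k := fun k => pow_pos hp.pos k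
  have hm_a : m = p ^ (a - d0) := by
    apply Nat.eq_of_mul_eq_mul_right (hppos d0)
    rw [hX0] at hc0
    rw [hc0, ← pow_add, Nat.sub_add_cancel hd0a]
  have hm_b : m = p ^ (b - d1) := by
    apply Nat.eq_of_mul_eq_mul_right (hppos d1)
    rw [hX1] at hc1
    rw [hc1, ← pow_add, Nat.sub_add_cancel hd1b]
  have hexp : a - d0 = b - d1 := Nat.pow_right_injective hp.two_le (hm_a.symm.trans hm_b)
  -- ranks
  have hrank : a + Module.finrank ℤ B = Module.finrank ℤ A := by
    have h1 := Submodule.finrank_quotient_add_finrank (LinearMap.ker σ)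
    have h2 : Module.finrank ℤ (A ⧸ LinearMap.ker σ) = Module.finrank ℤ (LinearMap.range σ) :=
      (LinearMap.quotKerEquivRange σ).finrank_eq
    have h3 : Module.finrank ℤ (LinearMap.range σ) = a := by
      apply le_antisymm
      · rw [ha]
        exact Submodule.finrank_mono hrσ
      · have hinj : Function.Injective ((p : ℤ) • (LinearMap.id : A →ₗ[ℤ] A)) := by
          intro u v huv
          have : (p : ℤ) • u = (p : ℤ) • v := huv
          exact smul_right_injective _ hp0 this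
        have h4 : Module.finrank ℤ (A1.map ((p : ℤ) • (LinearMap.id : A →ₗ[ℤ] A)))
            = Module.finrank ℤ A1 :=
          (Submodule.equivMapOfInjective _ hinj A1).finrank_eq.symm
        have h5 : A1.map ((p : ℤ) • (LinearMap.id : A →ₗ[ℤ] A)) ≤ LinearMap.range σ := by
          rintro _ ⟨v, hv, rfl⟩
          refine ⟨v, ?_⟩
          rw [hσp v ((hmemA1 v).mp hv)]
          rfl
        rw [ha, ← h4]
        exact Submodule.finrank_mono h5
    rw [h2, h3, ← hB] at h1
    exact h1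
  refine ⟨d0, d1, hX0, hX1, ?_⟩
  have hp1 : ((p - 1 : ℕ) : ℤ) = (p : ℤ) - 1 := by
    rw [Nat.cast_sub hp.one_le, Nat.cast_one]
  have hbZ : ((p : ℤ) - 1) * (b : ℤ) = (Module.finrank ℤ B : ℤ) := by
    rw [← hp1]
    exact_mod_cast hb
  have hrankZ : (a : ℤ) + (Module.finrank ℤ B : ℤ) = (Module.finrank ℤ A : ℤ) := by
    exact_mod_cast hrank
  have hdiff : (d0 : ℤ) - d1 = (a : ℤ) - b := by omega
  rw [hdiff, ← hrankZ, ← hbZ]
  ring

end Cfsg.Agent.Lib.helper74.TB
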