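import Cfsg.Agent.Lib.helper38.TN2

/-!
helper74: Thompson's N-groups lemma (S4415), PIECE I (`caseA`): if `V` is reducible under `R`
alone then `R` is the four-group.
-/

set_option autoImplicit false

namespace Cfsg.Agent.Lib.helper74

open Cfsg.Agent.Lib.helper38.TN

variable {G : Type*} [Group G] [Finite G] {V : Type*} [AddCommGroup V] [Module (ZMod 3) V]
  [Finite V]
variable {ρ : Representation (ZMod 3) G V} {R : Subgroup G} {b q₁ q₂ q₃ : G} {u₁ u₂ u₃ : V}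

theorem tni_sgn : ∀ ε₁ ε₂ ε₃ a₁ a₂ a₃ : ZMod 3, (ε₁ = 1 ∨ ε₁ = -1) → (ε₂ = 1 ∨ ε₂ = -1) →
    (ε₃ = 1 ∨ ε₃ = -1) → a₁ * a₂ * a₃ = 1 →
    (ε₁ * ε₂ * ε₃ * (a₁ * ε₁)) * (ε₁ * ε₂ * ε₃ * (a₂ * ε₂)) * (ε₁ * ε₂ * ε₃ * (a₃ * ε₃)) = 1 := by
  decide

theorem tni_sgn_sq : ∀ ε₁ ε₂ ε₃ : ZMod 3, (ε₁ = 1 ∨ ε₁ = -1) → (ε₂ = 1 ∨ ε₂ = -1) →
    (ε₃ = 1 ∨ ε₃ = -1) → (ε₁ * ε₂ * ε₃) * (ε₁ * ε₂ * ε₃) = 1 := by
  decide

theorem tni_q2 (h : Ctx ρ R b q₁ q₂ q₃ u₁ u₂ u₃) : q₂ ∈ R := by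
  rw [← h.frame.tri.c1]; exact h.bR q₁ h.q1R

theorem tni_q3 (h : Ctx ρ R b q₁ q₂ q₃ u₁ u₂ u₃) : q₃ ∈ R := by
  rw [← h.frame.tri.c2]; exact h.bR q₂ (tni_q2 h)

theorem tni_rot (h : Ctx ρ R b q₁ q₂ q₃ u₁ u₂ u₃) : Ctx ρ R b q₂ q₃ q₁ u₂ u₃ u₁ :=
  ⟨h.frame.rot, tni_q2 h, h.bR, h.faith, h.cop, h.solv, h.gen, h.irr⟩

theorem tni_binv (h : Ctx ρ R b q₁ q₂ q₃ u₁ u₂ u₃) : ∀ r ∈ R, b⁻¹ * r * b ∈ R := by
  intro r hr
  have hb3 := h.frame.b3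
  have h1 : b * b * b = 1 := by rw [← hb3, pow_succ, pow_two]
  have h2 : b * b = b⁻¹ := by
    symm
    apply inv_eq_of_mul_eq_one_right
    rw [← mul_assoc]; exact h1
  have h3 : b⁻¹ * b⁻¹ = b := by
    rw [← h2]
    calc b * b * (b * b) = (b * b * b) * b := by group
      _ = b := by rw [h1, one_mul]
  have e : b * (b * r * b⁻¹) * b⁻¹ = b⁻¹ * r * b := by
    calc b * (b * r * b⁻¹) * b⁻¹ = (b * b) * r * (b⁻¹ * b⁻¹) := by group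
      _ = b⁻¹ * r * b := by rw [h2, h3]
  rw [← e]
  exact h.bR _ (h.bR r hr)

theorem tni_split (F : Frame ρ b q₁ q₂ q₃ u₁ u₂ u₃) (U : Submodule (ZMod 3) V)
    (hq1 : ∀ v ∈ U, ρ q₁ v ∈ U) (hq2 : ∀ v ∈ U, ρ q₂ v ∈ U)
    (hdisj : ∀ v ∈ U, ∀ v' ∈ U, ρ b v' = v → v = 0) :
    ∀ v ∈ U, ∃ a₁ a₂ a₃ : ZMod 3, v = a₁ • u₁ + a₂ • u₂ + a₃ • u₃ ∧
      a₁ • u₁ ∈ U ∧ a₂ • u₂ ∈ U ∧ a₃ • u₃ ∈ U := by
  intro v hv
  obtain ⟨a₁, a₂, a₃, c, hc, rfl⟩ := F.decomp v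
  have hc3 : ρ q₃ c = c := by rw [← F.tri.a12, hc.2, hc.1]
  have hq3 : ∀ v ∈ U, ρ q₃ v ∈ U := by
    intro x hx
    rw [← F.tri.a12]
    exact hq1 _ (hq2 _ hx)
  have k1 : ρ q₁ (a₁ • u₁ + a₂ • u₂ + a₃ • u₃ + c) = a₁ • u₁ - a₂ • u₂ - a₃ • u₃ + c := by
    simp only [map_add, map_smul, F.q1u1, F.q1u2, F.q1u3, hc.1]; module
  have k2 : ρ q₂ (a₁ • u₁ + a₂ • u₂ + a₃ • u₃ + c) = -(a₁ • u₁) + a₂ • u₂ - a₃ • u₃ + c := by
    simp only [map_add, map_smul, F.q2u1, F.q2u2, F.q2u3, hc.2]; module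
  have k3 : ρ q₃ (a₁ • u₁ + a₂ • u₂ + a₃ • u₃ + c) = -(a₁ • u₁) - a₂ • u₂ + a₃ • u₃ + c := by
    simp only [map_add, map_smul, F.q3u1, F.q3u2, F.q3u3, hc3]; module
  have m1 := hq1 _ hv
  have m2 := hq2 _ hv
  have m3 := hq3 _ hv
  rw [k1] at m1
  rw [k2] at m2
  rw [k3] at m3
  have h4 : ∀ x : V, (4 : ZMod 3) • x = x := by
    intro x
    have : (4 : ZMod 3) = 1 := by decide
    rw [this, one_smul]
  have hcU : c ∈ U := by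
    have := U.add_mem (U.add_mem (U.add_mem hv m1) m2) m3
    rw [← h4 c]
    convert this using 1
    module
  have hc0 : c = 0 := hdisj c hcU c hcU (F.cfix c hc.1 hc.2)
  subst hc0
  refine ⟨a₁, a₂, a₃, by rw [add_zero], ?_, ?_, ?_⟩
  · have := U.sub_mem (U.sub_mem (U.add_mem hv m1) m2) m3
    rw [← h4 (a₁ • u₁)]
    convert this using 1
    module
  · have := U.sub_mem (U.add_mem (U.sub_mem hv m1) m2) m3
    rw [← h4 (a₂ • u₂)]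
    convert this using 1
    module
  · have := U.add_mem (U.sub_mem (U.sub_mem hv m1) m2) m3
    rw [← h4 (a₃ • u₃)]
    convert this using 1
    module

theorem tni_line (F : Frame ρ b q₁ q₂ q₃ u₁ u₂ u₃) (U : Submodule (ZMod 3) V)
    (hq1 : ∀ v ∈ U, ρ q₁ v ∈ U) (hq2 : ∀ v ∈ U, ρ q₂ v ∈ U)
    (hdisj : ∀ v ∈ U, ∀ v' ∈ U, ρ b v' = v → v = 0) (hu₁ : u₁ ∈ U) :
    ∀ v ∈ U, ∃ ε : ZMod 3, v = ε • u₁ := by
  intro v hv
  obtain ⟨a₁, a₂, a₃, rfl, -, h2, h3⟩ := tni_split F U hq1 hq2 hdisj v hv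
  have ha₂ : a₂ = 0 := by
    by_contra hne
    have hu₂ : u₂ ∈ U := by
      have := U.smul_mem a₂⁻¹ h2
      rwa [smul_smul, inv_mul_cancel₀ hne, one_smul] at this
    exact F.u2 (hdisj u₂ hu₂ u₁ hu₁ F.bu1)
  have ha₃ : a₃ = 0 := by
    by_contra hne
    have hu₃ : u₃ ∈ U := by
      have := U.smul_mem a₃⁻¹ h3
      rwa [smul_smul, inv_mul_cancel₀ hne, one_smul] at this
    exact F.u1 (hdisj u₁ hu₁ u₃ hu₃ F.bu3)
  refine ⟨a₁, ?_⟩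
  rw [ha₂, ha₃, zero_smul, zero_smul, add_zero, add_zero]

theorem tni_exists_line (h : Ctx ρ R b q₁ q₂ q₃ u₁ u₂ u₃) (hR : ¬ RIrr ρ R) :
    (∀ r ∈ R, ∃ ε : ZMod 3, ρ r u₁ = ε • u₁) ∨ (∀ r ∈ R, ∃ ε : ZMod 3, ρ r u₂ = ε • u₂) ∨
      (∀ r ∈ R, ∃ ε : ZMod 3, ρ r u₃ = ε • u₃) := by
  have F := h.frame
  have hq2R := tni_q2 h
  have hq3R := tni_q3 h
  have hbinvR := tni_binv h
  unfold RIrr at hR
  push Not at hR
  obtain ⟨N₀, hN₀inv, hN₀bot, hN₀top⟩ := hR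
  let S : Set (Submodule (ZMod 3) V) :=
    {N | (∀ r ∈ R, ∀ v ∈ N, ρ r v ∈ N) ∧ N ≠ ⊥ ∧ N ≠ ⊤}
  obtain ⟨U, ⟨hUinv, hUbot, hUtop⟩, hmin⟩ :=
    wellFounded_lt.has_min S ⟨N₀, hN₀inv, hN₀bot, hN₀top⟩
  have hmin' : ∀ N : Submodule (ZMod 3) V, (∀ r ∈ R, ∀ v ∈ N, ρ r v ∈ N) → N ≠ ⊥ → N ≤ U →
      N = U := by
    intro N hNinv hNbot hNU
    by_contra hne
    refine hmin N ⟨hNinv, hNbot, ?_⟩ (lt_of_le_of_ne hNU hne)
    rintro rfl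
    exact hUtop (top_le_iff.mp hNU)
  have hdisj : ∀ v ∈ U, ∀ v' ∈ U, ρ b v' = v → v = 0 := by
    by_contra hcon
    push Not at hcon
    obtain ⟨v₀, hv₀, v₀', hv₀', hbv, hv₀ne⟩ := hcon
    have hNinv : ∀ r ∈ R, ∀ v ∈ U ⊓ U.map (ρ b), ρ r v ∈ U ⊓ U.map (ρ b) := by
      intro r hr v hv
      refine ⟨hUinv r hr v hv.1, ?_⟩
      obtain ⟨x, hx, rfl⟩ := Submodule.mem_map.mp hv.2
      refine Submodule.mem_map.mpr ⟨ρ (b⁻¹ * r * b) x, hUinv _ (hbinvR r hr) x hx, ?_⟩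
      have e : b * (b⁻¹ * r * b) = r * b := by group
      rw [← rho_mul, ← rho_mul, e]
    have hNbot : U ⊓ U.map (ρ b) ≠ ⊥ := by
      intro hbot
      have : v₀ ∈ U ⊓ U.map (ρ b) := ⟨hv₀, Submodule.mem_map.mpr ⟨v₀', hv₀', hbv⟩⟩
      rw [hbot] at this
      exact hv₀ne ((Submodule.mem_bot _).mp this)
    have hNU := hmin' _ hNinv hNbot inf_le_left
    have hUb : ∀ x ∈ U, ∃ y ∈ U, ρ b y = x := by
      intro x hx
      rw [← hNU] at hx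
      exact Submodule.mem_map.mp hx.2
    have hUbinv : ∀ v ∈ U, ρ b v ∈ U := by
      intro v hv
      obtain ⟨y₁, hy₁, rfl⟩ := hUb v hv
      obtain ⟨y₂, hy₂, rfl⟩ := hUb y₁ hy₁
      rw [rho_pow_three ρ F.b3]
      exact hy₂
    rcases h.irr U hUinv hUbinv with h1 | h1
    · exact hUbot h1
    · exact hUtop h1
  have hq1 : ∀ v ∈ U, ρ q₁ v ∈ U := hUinv q₁ h.q1R
  have hq2 : ∀ v ∈ U, ρ q₂ v ∈ U := hUinv q₂ hq2R
  have hq3 : ∀ v ∈ U, ρ q₃ v ∈ U := hUinv q₃ hq3R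
  obtain ⟨v, hvU, hv0⟩ := (Submodule.ne_bot_iff U).mp hUbot
  obtain ⟨a₁, a₂, a₃, rfl, h1, h2, h3⟩ := tni_split F U hq1 hq2 hdisj v hvU
  have hmem : ∀ {a : ZMod 3} {u : V}, a ≠ 0 → a • u ∈ U → u ∈ U := by
    intro a u ha hu
    have := U.smul_mem a⁻¹ hu
    rwa [smul_smul, inv_mul_cancel₀ ha, one_smul] at this
  by_cases ha₁ : a₁ = 0
  · by_cases ha₂ : a₂ = 0
    · have ha₃ : a₃ ≠ 0 := by
        rintro rfl
        apply hv0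
        rw [ha₁, ha₂, zero_smul, zero_smul, zero_smul, add_zero, add_zero]
      right; right
      have hu₃ : u₃ ∈ U := hmem ha₃ h3
      intro r hr
      exact tni_line F.rot.rot U hq3 hq1 hdisj hu₃ (ρ r u₃) (hUinv r hr u₃ hu₃)
    · right; left
      have hu₂ : u₂ ∈ U := hmem ha₂ h2
      intro r hr
      exact tni_line F.rot U hq2 hq3 hdisj hu₂ (ρ r u₂) (hUinv r hr u₂ hu₂)
  · left
    have hu₁ : u₁ ∈ U := hmem ha₁ h1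
    intro r hr
    exact tni_line F U hq1 hq2 hdisj hu₁ (ρ r u₁) (hUinv r hr u₁ hu₁)

theorem tni_concl (h : Ctx ρ R b q₁ q₂ q₃ u₁ u₂ u₃)
    (hline : ∀ r ∈ R, ∃ ε : ZMod 3, ρ r u₁ = ε • u₁) : Concl R := by
  have F := h.frame
  have T := F.tri
  have hq2R := tni_q2 h
  have hq3R := tni_q3 h
  have hbinvR := tni_binv h
  have hline2 : ∀ r ∈ R, ∃ ε : ZMod 3, ρ r u₂ = ε • u₂ := by
    intro r hr
    obtain ⟨ε, hε⟩ := hline _ (hbinvR r hr)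
    refine ⟨ε, ?_⟩
    have e : r * b = b * (b⁻¹ * r * b) := by group
    rw [← F.bu1, ← rho_mul, e, rho_mul, hε, map_smul]
  have hline3 : ∀ r ∈ R, ∃ ε : ZMod 3, ρ r u₃ = ε • u₃ := by
    intro r hr
    obtain ⟨ε, hε⟩ := hline2 _ (hbinvR r hr)
    refine ⟨ε, ?_⟩
    have e : r * b = b * (b⁻¹ * r * b) := by group
    rw [← F.bu2, ← rho_mul, e, rho_mul, hε, map_smul]
  have hsign : ∀ r ∈ R, ∃ ε₁ ε₂ ε₃ : ZMod 3, (ε₁ = 1 ∨ ε₁ = -1) ∧ (ε₂ = 1 ∨ ε₂ = -1) ∧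
      (ε₃ = 1 ∨ ε₃ = -1) ∧ ρ r u₁ = ε₁ • u₁ ∧ ρ r u₂ = ε₂ • u₂ ∧ ρ r u₃ = ε₃ • u₃ := by
    intro r hr
    obtain ⟨ε₁, h1⟩ := hline r hr
    obtain ⟨ε₂, h2⟩ := hline2 r hr
    obtain ⟨ε₃, h3⟩ := hline3 r hr
    have nz : ∀ {ε : ZMod 3} {u : V}, u ≠ 0 → ρ r u = ε • u → ε = 1 ∨ ε = -1 := by
      intro ε u hu he
      apply zmod3_unit
      rintro rfl
      rw [zero_smul] at he
      exact hu (rho_inj ρ r (by rw [he, map_zero]))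
    exact ⟨ε₁, ε₂, ε₃, nz F.u1 h1, nz F.u2 h2, nz F.u3 h3, h1, h2, h3⟩
  -- `V` is spanned by `u₁, u₂, u₃`
  let W : Submodule (ZMod 3) V :=
    { carrier := {v | ∃ a₁ a₂ a₃ : ZMod 3, v = a₁ • u₁ + a₂ • u₂ + a₃ • u₃}
      add_mem' := by
        rintro _ _ ⟨a₁, a₂, a₃, rfl⟩ ⟨b₁, b₂, b₃, rfl⟩
        exact ⟨a₁ + b₁, a₂ + b₂, a₃ + b₃, by module⟩
      zero_mem' := ⟨0, 0, 0, by simp⟩
      smul_mem' := by
        rintro c _ ⟨a₁, a₂, a₃, rfl⟩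
        exact ⟨c * a₁, c * a₂, c * a₃, by module⟩ }
  have hWR : ∀ r ∈ R, ∀ v ∈ W, ρ r v ∈ W := by
    rintro r hr _ ⟨a₁, a₂, a₃, rfl⟩
    obtain ⟨ε₁, ε₂, ε₃, -, -, -, h1, h2, h3⟩ := hsign r hr
    refine ⟨a₁ * ε₁, a₂ * ε₂, a₃ * ε₃, ?_⟩
    simp only [map_add, map_smul, h1, h2, h3, smul_smul]
  have hWb : ∀ v ∈ W, ρ b v ∈ W := by
    rintro _ ⟨a₁, a₂, a₃, rfl⟩
    refine ⟨a₃, a₁, a₂, ?_⟩
    simp only [map_add, map_smul, F.bu1, F.bu2, F.bu3]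
    abel
  have hWtop : W = ⊤ := by
    rcases h.irr W hWR hWb with h0 | h0
    · exfalso
      have : u₁ ∈ W := ⟨1, 0, 0, by simp⟩
      rw [h0] at this
      exact F.u1 ((Submodule.mem_bot _).mp this)
    · exact h0
  have hspan : ∀ v : V, ∃ a₁ a₂ a₃ : ZMod 3, v = a₁ • u₁ + a₂ • u₂ + a₃ • u₃ := by
    intro v
    have : v ∈ W := by rw [hWtop]; trivial
    exact this
  have huniq : ∀ a₁ a₂ a₃ b₁ b₂ b₃ : ZMod 3,
      a₁ • u₁ + a₂ • u₂ + a₃ • u₃ = b₁ • u₁ + b₂ • u₂ + b₃ • u₃ →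
      a₁ = b₁ ∧ a₂ = b₂ ∧ a₃ = b₃ := by
    intro a₁ a₂ a₃ b₁ b₂ b₃ he
    have h0 : (a₁ - b₁) • u₁ + (a₂ - b₂) • u₂ + (a₃ - b₃) • u₃ + (0 : V) = 0 := by
      linear_combination (norm := module) he
    obtain ⟨e1, e2, e3, -⟩ := F.indep (Submodule.zero_mem _) h0
    exact ⟨sub_eq_zero.mp e1, sub_eq_zero.mp e2, sub_eq_zero.mp e3⟩
  have heq : ∀ r ∈ R, ∀ s ∈ R, ρ r u₁ = ρ s u₁ → ρ r u₂ = ρ s u₂ → ρ r u₃ = ρ s u₃ →
      r = s := by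
    intro r hr s hs e1 e2 e3
    have : s⁻¹ * r = 1 := by
      apply h.faith _ (R.mul_mem (R.inv_mem hs) hr)
      intro v
      obtain ⟨a₁, a₂, a₃, rfl⟩ := hspan v
      simp only [rho_mul, map_add, map_smul, e1, e2, e3, rho_inv_self]
    calc r = s * (s⁻¹ * r) := by group
      _ = s := by rw [this, mul_one]
  -- the stabilizer of the cubic form
  let P : G → Prop := fun g => ∀ a₁ a₂ a₃ : ZMod 3, a₁ * a₂ * a₃ = 1 →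
      ∃ c₁ c₂ c₃ : ZMod 3, c₁ * c₂ * c₃ = 1 ∧
        ρ g (a₁ • u₁ + a₂ • u₂ + a₃ • u₃) = c₁ • u₁ + c₂ • u₂ + c₃ • u₃
  have hP1 : P 1 := fun a₁ a₂ a₃ ha => ⟨a₁, a₂, a₃, ha, rho_one ρ _⟩
  have hPmul : ∀ g k, P g → P k → P (g * k) := by
    intro g k hg hk a₁ a₂ a₃ ha
    obtain ⟨c₁, c₂, c₃, hc, e⟩ := hk a₁ a₂ a₃ ha
    obtain ⟨d₁, d₂, d₃, hd, e'⟩ := hg c₁ c₂ c₃ hc
    exact ⟨d₁, d₂, d₃, hd, by rw [rho_mul, e, e']⟩
  have hPpow : ∀ g, P g → ∀ n : ℕ, P (g ^ n) := by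
    intro g hg n
    induction n with
    | zero => rw [pow_zero]; exact hP1
    | succ n ih => rw [pow_succ]; exact hPmul _ _ ih hg
  have hPinv : ∀ g, P g → P g⁻¹ := by
    intro g hg
    have : g⁻¹ = g ^ (orderOf g - 1) := by
      apply inv_eq_of_mul_eq_one_right
      rw [← pow_succ', Nat.sub_add_cancel (orderOf_pos g), pow_orderOf_eq_one]
    rw [this]
    exact hPpow g hg _
  let K : Subgroup G :=
    { carrier := {g | P g}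
      mul_mem' := fun {g k} hg hk => hPmul g k hg hk
      one_mem' := hP1
      inv_mem' := fun {g} hg => hPinv g hg }
  have hbK : b ∈ K := by
    intro a₁ a₂ a₃ ha
    refine ⟨a₃, a₁, a₂, by rw [← ha]; ring, ?_⟩
    simp only [map_add, map_smul, F.bu1, F.bu2, F.bu3]
    abel
  have hKconj : ∀ r ∈ R, ∀ k ∈ K, r * k * r⁻¹ ∈ K := by
    intro r hr k hk a₁ a₂ a₃ ha
    obtain ⟨ε₁, ε₂, ε₃, s1, s2, s3, h1, h2, h3⟩ := hsign r hr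
    have hinv : ∀ {ε : ZMod 3} {u : V}, (ε = 1 ∨ ε = -1) → ρ r u = ε • u →
        ρ r⁻¹ u = ε • u := by
      intro ε u hε he
      apply rho_inj ρ r
      rw [rho_self_inv, map_smul, he, smul_smul]
      rcases hε with rfl | rfl <;> simp
    have i1 := hinv s1 h1
    have i2 := hinv s2 h2
    have i3 := hinv s3 h3
    have hππ := tni_sgn_sq ε₁ ε₂ ε₃ s1 s2 s3
    have t : ∀ x : ZMod 3, ε₁ * ε₂ * ε₃ * (ε₁ * ε₂ * ε₃ * x) = x := by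
      intro x
      rw [← mul_assoc, hππ, one_mul]
    obtain ⟨c₁, c₂, c₃, hc, e⟩ := hk _ _ _ (tni_sgn ε₁ ε₂ ε₃ a₁ a₂ a₃ s1 s2 s3 ha)
    have e1 : ρ r⁻¹ (a₁ • u₁ + a₂ • u₂ + a₃ • u₃)
        = (ε₁ * ε₂ * ε₃) • ((ε₁ * ε₂ * ε₃ * (a₁ * ε₁)) • u₁ + (ε₁ * ε₂ * ε₃ * (a₂ * ε₂)) • u₂
          + (ε₁ * ε₂ * ε₃ * (a₃ * ε₃)) • u₃) := by
      simp only [map_add, map_smul, i1, i2, i3, smul_add, smul_smul, t]
    refine ⟨ε₁ * ε₂ * ε₃ * (c₁ * ε₁), ε₁ * ε₂ * ε₃ * (c₂ * ε₂), ε₁ * ε₂ * ε₃ * (c₃ * ε₃),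
      tni_sgn ε₁ ε₂ ε₃ c₁ c₂ c₃ s1 s2 s3 hc, ?_⟩
    rw [rho_mul, rho_mul, e1, map_smul, e]
    simp only [map_add, map_smul, h1, h2, h3, smul_add, smul_smul, mul_assoc]
  have hRK : R ≤ K := h.gen K hbK hKconj
  have hprod : ∀ r ∈ R, ∀ ε₁ ε₂ ε₃ : ZMod 3, ρ r u₁ = ε₁ • u₁ → ρ r u₂ = ε₂ • u₂ →
      ρ r u₃ = ε₃ • u₃ → ε₁ * ε₂ * ε₃ = 1 := by
    intro r hr ε₁ ε₂ ε₃ h1 h2 h3
    obtain ⟨c₁, c₂, c₃, hc, e⟩ := hRK hr 1 1 1 (by decide)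
    have e' : ρ r ((1 : ZMod 3) • u₁ + (1 : ZMod 3) • u₂ + (1 : ZMod 3) • u₃)
        = ε₁ • u₁ + ε₂ • u₂ + ε₃ • u₃ := by
      simp only [map_add, h1, h2, h3, one_smul]
    rw [e'] at e
    obtain ⟨rfl, rfl, rfl⟩ := huniq _ _ _ _ _ _ e
    exact hc
  have hmem : ∀ r ∈ R, r = 1 ∨ r = q₁ ∨ r = q₂ ∨ r = q₃ := by
    intro r hr
    obtain ⟨ε₁, ε₂, ε₃, s1, s2, s3, h1, h2, h3⟩ := hsign r hr
    have hp := hprod r hr ε₁ ε₂ ε₃ h1 h2 h3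
    rcases s1 with rfl | rfl <;> rcases s2 with rfl | rfl <;> rcases s3 with rfl | rfl
    · left
      exact heq r hr 1 R.one_mem (by rw [h1, rho_one, one_smul]) (by rw [h2, rho_one, one_smul])
        (by rw [h3, rho_one, one_smul])
    · exact absurd hp (by decide)
    · exact absurd hp (by decide)
    · right; left
      exact heq r hr q₁ h.q1R (by rw [h1, F.q1u1, one_smul]) (by rw [h2, F.q1u2, neg_one_smul])
        (by rw [h3, F.q1u3, neg_one_smul])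
    · exact absurd hp (by decide)
    · right; right; left
      exact heq r hr q₂ hq2R (by rw [h1, F.q2u1, neg_one_smul]) (by rw [h2, F.q2u2, one_smul])
        (by rw [h3, F.q2u3, neg_one_smul])
    · right; right; right
      exact heq r hr q₃ hq3R (by rw [h1, F.q3u1, neg_one_smul]) (by rw [h2, F.q3u2, neg_one_smul])
        (by rw [h3, F.q3u3, one_smul])
    · exact absurd hp (by decide)
  have hsq : ∀ r ∈ R, r * r = 1 := by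
    intro r hr
    rcases hmem r hr with rfl | rfl | rfl | rfl
    · exact one_mul 1
    · exact T.sq
    · exact T.sq2
    · exact T.sq3
  left
  refine ⟨⟨?_, ?_⟩, ?_⟩
  · rw [isMulCommutative_iff]
    rintro ⟨x, hx⟩ ⟨y, hy⟩
    apply Subtype.ext
    show x * y = y * x
    have hx1 : x⁻¹ = x := inv_eq_of_mul_eq_one_right (hsq x hx)
    have hy1 : y⁻¹ = y := inv_eq_of_mul_eq_one_right (hsq y hy)
    have hxy : (x * y)⁻¹ = x * y := inv_eq_of_mul_eq_one_right (hsq _ (R.mul_mem hx hy))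
    rw [← hxy, mul_inv_rev, hx1, hy1]
  · intro a ha
    rw [pow_two]
    exact hsq a ha
  · have hset : (R : Set G) = {1, q₁, q₂, q₃} := by
      ext x
      simp only [SetLike.mem_coe, Set.mem_insert_iff, Set.mem_singleton_iff]
      constructor
      · exact hmem x
      · rintro (rfl | rfl | rfl | rfl)
        exacts [R.one_mem, h.q1R, hq2R, hq3R]
    have h12 : q₁ ≠ q₂ := by
      intro he
      apply T.ne3
      rw [← T.m12, ← he, T.sq]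
    have h13 : q₁ ≠ q₃ := by
      intro he
      apply T.ne2
      rw [← T.m13, ← he, T.sq]
    have h23 : q₂ ≠ q₃ := by
      intro he
      apply T.ne
      rw [← T.m23, ← he, T.sq2]
    have hcard : Nat.card ↥R = (R : Set G).ncard := Nat.card_coe_set_eq (R : Set G)
    rw [hcard, hset, Set.ncard_insert_of_notMem, Set.ncard_insert_of_notMem, Set.ncard_pair h23]
    · simp only [Set.mem_insert_iff, Set.mem_singleton_iff, not_or]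
      exact ⟨h12, h13⟩
    · simp only [Set.mem_insert_iff, Set.mem_singleton_iff, not_or]
      exact ⟨fun e => T.ne e.symm, fun e => T.ne2 e.symm, fun e => T.ne3 e.symm⟩

/-- PIECE I of S4415. -/
theorem caseA (h : Ctx ρ R b q₁ q₂ q₃ u₁ u₂ u₃) (hR : ¬ RIrr ρ R) : Concl R := by
  rcases tni_exists_line h hR with h1 | h2 | h3
  · exact tni_concl h h1
  · exact tni_concl (tni_rot h) h2
  · exact tni_concl (tni_rot (tni_rot h)) h3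

end Cfsg.Agent.Lib.helper74
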