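import Mathlib
import Cfsg.Prelude.Def_Local
import Cfsg.Prelude.Def_Transfer
import Cfsg.Agent.Lib.helper27.PComp
import Cfsg.Agent.Lib.helper29.PSolv
import Cfsg.Agent.Lib.helper38.HallHigman
import Cfsg.Agent.Lib.helper1.Coprime

namespace Cfsg.Agent.Lib.helper74

open scoped commutatorElement

/-- A normal `p`-subgroup lies in every Sylow `p`-subgroup. -/
theorem normal_pgroup_le_sylow {G : Type*} [Group G] [Finite G] {p : ℕ} [Fact p.Prime]
    (O : Subgroup G) (hOn : O.Normal) (hO : IsPGroup p O) (P : Sylow p G) :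
    O ≤ (P : Subgroup G) := by
  obtain ⟨Q, hQ⟩ := hO.exists_le_sylow
  obtain ⟨g, hg⟩ := MulAction.exists_smul_eq G Q P
  intro x hx
  have h1 : g⁻¹ * x * g ∈ O := by
    have := hOn.conj_mem x hx g⁻¹
    simpa using this
  have h2 : g⁻¹ * x * g ∈ (Q : Subgroup G) := hQ h1
  rw [← hg, Sylow.coe_subgroup_smul, Subgroup.mem_pointwise_smul_iff_inv_smul_mem]
  simpa [MulAut.smul_def, mul_assoc] using h2

/-- Four pairwise distinct elements of a subgroup of order `4` exhaust it. -/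
theorem mem_four_of_card_four {G : Type*} [Group G] (Q : Subgroup G) (hQ4 : Nat.card ↥Q = 4)
    (a b c d : G) (ha : a ∈ Q) (hb : b ∈ Q) (hc : c ∈ Q) (hd : d ∈ Q)
    (hab : a ≠ b) (hac : a ≠ c) (had : a ≠ d) (hbc : b ≠ c) (hbd : b ≠ d) (hcd : c ≠ d)
    (x : G) (hx : x ∈ Q) : x = a ∨ x = b ∨ x = c ∨ x = d := by
  classical
  haveI : Finite ↥Q := Nat.finite_of_card_ne_zero (by rw [hQ4]; norm_num)
  haveI : Fintype ↥Q := Fintype.ofFinite _
  by_contra hcon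
  push_neg at hcon
  obtain ⟨hxa, hxb, hxc, hxd⟩ := hcon
  let s : Finset ↥Q := {⟨a, ha⟩, ⟨b, hb⟩, ⟨c, hc⟩, ⟨d, hd⟩, ⟨x, hx⟩}
  have hs : s.card = 5 := by
    simp only [s]
    rw [Finset.card_insert_of_notMem, Finset.card_insert_of_notMem, Finset.card_insert_of_notMem,
      Finset.card_insert_of_notMem, Finset.card_singleton]
    · simp only [Finset.mem_singleton, Subtype.mk.injEq]
      exact fun h => hxd h.symm
    · simp only [Finset.mem_insert, Finset.mem_singleton, Subtype.mk.injEq]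
      rintro (h | h)
      · exact hcd h
      · exact hxc h.symm
    · simp only [Finset.mem_insert, Finset.mem_singleton, Subtype.mk.injEq]
      rintro (h | h | h)
      · exact hbc h
      · exact hbd h
      · exact hxb h.symm
    · simp only [Finset.mem_insert, Finset.mem_singleton, Subtype.mk.injEq]
      rintro (h | h | h | h)
      · exact hab h
      · exact hac h
      · exact had h
      · exact hxa h.symm
  have h5 : s.card ≤ Fintype.card ↥Q := Finset.card_le_univ s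
  rw [← Nat.card_eq_fintype_card, hQ4, hs] at h5
  omega

/-- **Piece A of S4415** (outer group reduction). -/
theorem outer_group {S : Type*} [Group S] [Finite S] [Group.IsSolvable S] (hO3 : Cfsg.pCore 3 S = ⊥) (B : Subgroup S) (hB : Nat.card ↥B = 3) (b : S) (hb : Subgroup.zpowers b = B) (Q : Subgroup S) (hQ : Cfsg.IsElementaryAbelian 2 Q) (hQ4 : Nat.card ↥Q = 4) (hBQ : B ≤ Subgroup.normalizer (Q : Set S)) (hBQ' : ¬ B ≤ Subgroup.centralizer (Q : Set S)) (P : Sylow 3 S) (hBZ : (Subgroup.center ↥(P : Subgroup S)).map (P : Subgroup S).subtype = B) :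
  ∃ q₁ q₂ q₃ : S, (q₁ * q₁ = 1 ∧ q₁ * q₂ = q₃ ∧ q₂ * q₁ = q₃ ∧ b * q₁ * b⁻¹ = q₂ ∧ b * q₂ * b⁻¹ = q₃ ∧ b * q₃ * b⁻¹ = q₁ ∧ q₁ ≠ 1) ∧ q₁ ∈ ⁅Cfsg.pPrimeCore 3 S, B⁆ ∧ b ^ 3 = 1 ∧ (∀ r ∈ ⁅Cfsg.pPrimeCore 3 S, B⁆, b * r * b⁻¹ ∈ ⁅Cfsg.pPrimeCore 3 S, B⁆) ∧ (Nat.card ↥⁅Cfsg.pPrimeCore 3 S, B⁆).Coprime 3 ∧ (∀ K : Subgroup S, b ∈ K → (∀ r ∈ ⁅Cfsg.pPrimeCore 3 S, B⁆, ∀ k ∈ K, r * k * r⁻¹ ∈ K) → ⁅Cfsg.pPrimeCore 3 S, B⁆ ≤ K) := by
  classical
  haveI : Fact (Nat.Prime 3) := ⟨by norm_num⟩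
  set N := Cfsg.pPrimeCore 3 S with hNdef
  haveI hNn : N.Normal := Cfsg.Agent.Lib.helper40.pPrimeCore_normal' 3 S
  have hNcop : (Nat.card N).Coprime 3 := Cfsg.Agent.Lib.helper40.pPrimeCore_card_coprime 3 S
  have hbB : b ∈ B := hb ▸ Subgroup.mem_zpowers b
  -- the order of `b`
  have hb3 : b ^ 3 = 1 := by
    have h1 : orderOf b = 3 := by rw [← Nat.card_zpowers, hb, hB]
    rw [← h1]; exact pow_orderOf_eq_one b
  -- `b` does not centralize `Q`
  have hbC : b ∉ Subgroup.centralizer (Q : Set S) := by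
    intro h
    apply hBQ'
    rw [← hb]
    exact (Subgroup.zpowers_le).mpr h
  obtain ⟨q₁, hq₁Q, hq₁b⟩ : ∃ q ∈ Q, q * b ≠ b * q := by
    by_contra hcon
    push_neg at hcon
    exact hbC (Subgroup.mem_centralizer_iff.mpr fun q hq => hcon q hq)
  have hbN : b ∈ Subgroup.normalizer (Q : Set S) := hBQ hbB
  have hconjQ : ∀ q ∈ Q, b * q * b⁻¹ ∈ Q := fun q hq =>
    (Subgroup.mem_normalizer_iff.mp hbN q).mp hq
  have hsq : ∀ q ∈ Q, q * q = 1 := fun q hq => by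
    have := hQ.2 q hq
    rwa [pow_two] at this
  have hcomm : ∀ x ∈ Q, ∀ y ∈ Q, x * y = y * x := by
    intro x hx y hy
    have := (isMulCommutative_iff.mp hQ.1) (⟨x, hx⟩ : ↥Q) ⟨y, hy⟩
    exact congrArg Subtype.val this
  set q₂ := b * q₁ * b⁻¹ with hq₂
  set q₃ := b * q₂ * b⁻¹ with hq₃
  have hq₂Q : q₂ ∈ Q := hconjQ q₁ hq₁Q
  have hq₃Q : q₃ ∈ Q := hconjQ q₂ hq₂Q
  have hq₁ne : q₁ ≠ 1 := by
    rintro rfl
    exact hq₁b (by simp)
  have h12 : q₁ ≠ q₂ := by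
    intro h
    apply hq₁b
    have : q₁ * b = b * q₁ * b⁻¹ * b := by rw [← hq₂, ← h]
    rw [this]; group
  have hq₂ne : q₂ ≠ 1 := by
    intro h
    apply hq₁ne
    have : q₁ = b⁻¹ * q₂ * b := by rw [hq₂]; group
    rw [this, h]; group
  have hq₃ne : q₃ ≠ 1 := by
    intro h
    apply hq₂ne
    have : q₂ = b⁻¹ * q₃ * b := by rw [hq₃]; group
    rw [this, h]; group
  have h23 : q₂ ≠ q₃ := by
    intro h
    apply h12
    have e1 : q₁ = b⁻¹ * q₂ * b := by rw [hq₂]; group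
    have e2 : q₂ = b⁻¹ * q₃ * b := by rw [hq₃]; group
    rw [e1]; nth_rewrite 2 [e2]; rw [← h]
  have hb31 : b * q₃ * b⁻¹ = q₁ := by
    rw [hq₃, hq₂]
    have hbbb : b * b * b = 1 := by rw [← hb3]; simp [pow_succ]
    have : b * (b * (b * q₁ * b⁻¹) * b⁻¹) * b⁻¹ = (b * b * b) * q₁ * (b * b * b)⁻¹ := by
      simp only [mul_inv_rev, mul_assoc]
    rw [this, hbbb]; simp
  have h13 : q₁ ≠ q₃ := by
    intro h
    apply h23
    have e1 : q₂ = b * q₁ * b⁻¹ := hq₂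
    rw [e1, h, hb31, ← h]
  -- the fourth element
  have hq12Q : q₁ * q₂ ∈ Q := Q.mul_mem hq₁Q hq₂Q
  have hq12ne1 : (1 : S) ≠ q₁ * q₂ := by
    intro h
    apply h12
    have h2 := hsq q₁ hq₁Q
    calc q₁ = q₁ * (q₁ * q₂) := by rw [← h, mul_one]
      _ = (q₁ * q₁) * q₂ := by group
      _ = q₂ := by rw [h2, one_mul]
  have hq12ne_a : q₁ ≠ q₁ * q₂ := by
    intro h
    apply hq₂ne
    have := mul_left_cancel (a := q₁) (b := 1) (c := q₂) (by rw [mul_one]; exact h)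
    exact this.symm
  have hq12ne_b : q₂ ≠ q₁ * q₂ := by
    intro h
    apply hq₁ne
    have := mul_right_cancel (a := 1) (b := q₂) (c := q₁) (by rw [one_mul]; exact h)
    exact this.symm
  have hq₃eq : q₁ * q₂ = q₃ := by
    have := mem_four_of_card_four Q hQ4 1 q₁ q₂ (q₁ * q₂) Q.one_mem hq₁Q hq₂Q hq12Q
      (fun h => hq₁ne h.symm) (fun h => hq₂ne h.symm) hq12ne1 h12 hq12ne_a hq12ne_b q₃ hq₃Q
    rcases this with h | h | h | h
    · exact absurd h hq₃ne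
    · exact absurd h.symm h13
    · exact absurd h.symm h23
    · exact h.symm
  have hq₃eq' : q₂ * q₁ = q₃ := by rw [hcomm q₂ hq₂Q q₁ hq₁Q]; exact hq₃eq
  -- `q₃ ∈ N`
  have hq₃comm : q₃ = ⁅q₁, b⁆ := by
    rw [commutatorElement_def, ← hq₃eq, hq₂]
    have hq1inv : q₁⁻¹ = q₁ := by
      rw [inv_eq_iff_mul_eq_one]; exact hsq q₁ hq₁Q
    have : q₁ * b * q₁⁻¹ * b⁻¹ = q₁ * (b * q₁⁻¹ * b⁻¹) := by group
    rw [this, hq1inv]
  have hq₃N : q₃ ∈ N := by
    -- work in the quotient `S ⧸ N`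
    set π := QuotientGroup.mk' N with hπ
    have hπsurj : Function.Surjective π := QuotientGroup.mk'_surjective N
    have hcore : Cfsg.pPrimeCore 3 (S ⧸ N) = ⊥ :=
      Cfsg.Agent.Lib.helper27.pPrimeCore_quotient_eq_bot (X := S) 3
    have hsolv : Group.IsSolvable (S ⧸ N) := inferInstance
    have hps : Cfsg.IsPSolvable 3 (S ⧸ N) :=
      Cfsg.Agent.Lib.helper29.isPSolvable_of_isSolvable 3 hsolv
    have hHH := Cfsg.Agent.Lib.helper38.centralizer_pCore_le_of_isPSolvable hps hcore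
    set O := Cfsg.pCore 3 (S ⧸ N) with hOdef
    have hOn : O.Normal := Cfsg.Agent.Lib.helper40.pCore_normal' 3 (S ⧸ N)
    have hOp : IsPGroup 3 O := Cfsg.Agent.Lib.helper40.pCore_isPGroup 3 (S ⧸ N)
    have hOP : O ≤ ((P.mapSurjective hπsurj : Sylow 3 (S ⧸ N)) : Subgroup (S ⧸ N)) :=
      normal_pgroup_le_sylow O hOn hOp _
    -- `b` is central in `P`
    have hbZ : b ∈ (Subgroup.center ↥(P : Subgroup S)).map (P : Subgroup S).subtype := by
      rw [hBZ]; exact hbB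
    obtain ⟨⟨b', hb'P⟩, hb'Z, hb'eq⟩ := Subgroup.mem_map.mp hbZ
    have hb'eq' : b' = b := hb'eq
    subst hb'eq'
    have hbcent : ∀ x ∈ (P : Subgroup S), x * b' = b' * x := by
      intro x hx
      have := Subgroup.mem_center_iff.mp hb'Z ⟨x, hx⟩
      exact congrArg Subtype.val this
    have hπb : π b' ∈ Subgroup.centralizer (O : Set (S ⧸ N)) := by
      rw [Subgroup.mem_centralizer_iff]
      intro y hy
      have hyP := hOP hy
      rw [Sylow.coe_mapSurjective] at hyP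
      obtain ⟨x, hxP, rfl⟩ := Subgroup.mem_map.mp hyP
      rw [← map_mul, ← map_mul, hbcent x hxP]
    have hπbO : π b' ∈ O := hHH hπb
    have hc : π q₃ ∈ O := by
      rw [hq₃comm, commutatorElement_def, map_mul, map_mul, map_mul, map_inv, map_inv]
      refine O.mul_mem ?_ (O.inv_mem hπbO)
      exact hOn.conj_mem _ hπbO _
    have hc2 : (π q₃) ^ 2 = 1 := by
      rw [← map_pow, pow_two, hsq q₃ hq₃Q, map_one]
    have hc1 : π q₃ = 1 := by
      obtain ⟨k, hk⟩ := hOp ⟨π q₃, hc⟩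
      have hk' : (π q₃) ^ 3 ^ k = 1 := by
        have := congrArg Subtype.val hk
        simpa using this
      have h1 : orderOf (π q₃) ∣ 2 := orderOf_dvd_of_pow_eq_one hc2
      have h2 : orderOf (π q₃) ∣ 3 ^ k := orderOf_dvd_of_pow_eq_one hk'
      have h3 : orderOf (π q₃) ∣ Nat.gcd 2 (3 ^ k) := Nat.dvd_gcd h1 h2
      have h4 : Nat.gcd 2 (3 ^ k) = 1 := by
        have : Nat.Coprime 2 (3 ^ k) := Nat.Coprime.pow_right k (by norm_num)
        exact this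
      rw [h4, Nat.dvd_one, orderOf_eq_one_iff] at h3
      exact h3
    rwa [hπ, QuotientGroup.mk'_apply, QuotientGroup.eq_one_iff] at hc1
  -- conjugation by `b` preserves `⁅N, B⁆`
  have hRconj : ∀ r ∈ ⁅N, B⁆, b * r * b⁻¹ ∈ ⁅N, B⁆ := by
    intro r hr
    have hnorm : ∀ r ∈ ⁅N, B⁆, b * r * b⁻¹ ∈ ⁅N, B⁆ := by
      intro r hr
      rw [Subgroup.commutator_def] at hr ⊢
      refine Subgroup.closure_induction (p := fun x _ => b * x * b⁻¹ ∈ Subgroup.closure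
        {g | ∃ g₁ ∈ N, ∃ g₂ ∈ B, ⁅g₁, g₂⁆ = g}) ?_ ?_ ?_ ?_ hr
      · rintro x ⟨g₁, hg₁, g₂, hg₂, rfl⟩
        apply Subgroup.subset_closure
        refine ⟨b * g₁ * b⁻¹, hNn.conj_mem g₁ hg₁ b, b * g₂ * b⁻¹,
          B.mul_mem (B.mul_mem hbB hg₂) (B.inv_mem hbB), ?_⟩
        simp only [commutatorElement_def]; group
      · simp
      · intro x y _ _ hx hy
        have : b * (x * y) * b⁻¹ = (b * x * b⁻¹) * (b * y * b⁻¹) := by group
        rw [this]; exact Subgroup.mul_mem _ hx hy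
      · intro x _ hx
        have : b * x⁻¹ * b⁻¹ = (b * x * b⁻¹)⁻¹ := by group
        rw [this]; exact Subgroup.inv_mem _ hx
    exact hnorm r hr
  have hq₃R : q₃ ∈ ⁅N, B⁆ := by
    rw [hq₃comm]
    have hq₁N : q₁ ∈ N := by
      have := hNn.conj_mem q₃ hq₃N b
      rwa [hb31] at this
    exact Subgroup.commutator_mem_commutator hq₁N hbB
  have hq₁R : q₁ ∈ ⁅N, B⁆ := by
    have := hRconj q₃ hq₃R
    rwa [hb31] at this
  have hRN : ⁅N, B⁆ ≤ N := Subgroup.commutator_le_left N B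
  have hRcop : (Nat.card ↥⁅N, B⁆).Coprime 3 :=
    Nat.Coprime.coprime_dvd_left (Subgroup.card_dvd_of_le hRN) hNcop
  refine ⟨q₁, q₂, q₃, ⟨hsq q₁ hq₁Q, hq₃eq, hq₃eq', rfl, rfl, hb31, hq₁ne⟩, hq₁R, hb3, hRconj,
    hRcop, ?_⟩
  intro K hbK hK
  have hBK : B ≤ K := by
    rw [← hb]; exact (Subgroup.zpowers_le).mpr hbK
  have hcc : ⁅⁅N, B⁆, B⁆ = ⁅N, B⁆ := by
    apply Cfsg.Agent.Lib.helper1.commutator_commutator_eq B N
    · exact fun x _ => (Subgroup.normalizer_eq_top_iff.mpr hNn) ▸ Subgroup.mem_top x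
    · rw [hB]; exact hNcop.symm
    · exact Or.inr inferInstance
  rw [← hcc, Subgroup.commutator_le]
  intro r hr c hc
  rw [commutatorElement_def]
  have h1 : r * c * r⁻¹ ∈ K := hK r hr c (hBK hc)
  exact K.mul_mem h1 (K.inv_mem (hBK hc))

end Cfsg.Agent.Lib.helper74
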